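import Cfsg.Agent.C6Six.Involution

/-!
# The pointwise stabiliser of three orthogonal differences of basis vectors
-/

set_option autoImplicit false
set_option linter.unusedSectionVars false

namespace Cfsg.Agent.C6Six

open Matrix Equiv

variable {F : Type*} [Field F]

/-- `e₂ ↔ -e₃, e₄ ↔ -e₅` -/
def v1 : Matrix (Fin 6) (Fin 6) F := sp P2345 ![false, false, true, true, true, true]

/-- `e₀ ↔ -e₁, e₂ ↔ -e₃` -/
def v3 : Matrix (Fin 6) (Fin 6) F := sp P0123 ![true, true, true, true, false, false]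

/-- `e₀ ↔ -e₁, e₄ ↔ -e₅` -/
def v13 : Matrix (Fin 6) (Fin 6) F := sp P0145 ![true, true, false, false, true, true]

/-- The difference of two basis vectors. -/
def df (a b : Fin 6) : Fin 6 → F := Pi.single a 1 - Pi.single b 1

/-- The sum of two basis vectors. -/
def sm (a b : Fin 6) : Fin 6 → F := Pi.single a 1 + Pi.single b 1

lemma mulVec_df (h : Matrix (Fin 6) (Fin 6) F) (a b : Fin 6) :
    h *ᵥ df a b = col h a - col h b := by
  rw [df, Matrix.mulVec_sub, mulVec_single', mulVec_single', one_smul, one_smul]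

lemma mulVec_sm (h : Matrix (Fin 6) (Fin 6) F) (a b : Fin 6) :
    h *ᵥ sm a b = col h a + col h b := by
  rw [sm, Matrix.mulVec_add, mulVec_single', mulVec_single', one_smul, one_smul]

lemma sm_apply (a b i : Fin 6) :
    (sm a b : Fin 6 → F) i = (if i = a then 1 else 0) + (if i = b then 1 else 0) := by
  simp [sm, Pi.single_apply]

lemma df_apply (a b i : Fin 6) :
    (df a b : Fin 6 → F) i = (if i = a then 1 else 0) - (if i = b then 1 else 0) := by
  simp [df, Pi.single_apply]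

lemma v1_sq : (v1 : Matrix (Fin 6) (Fin 6) F) * v1 = 1 := by
  rw [v1, sp_mul, ← sp_one]
  congr 1
  · decide
  · decide

lemma v3_sq : (v3 : Matrix (Fin 6) (Fin 6) F) * v3 = 1 := by
  rw [v3, sp_mul, ← sp_one]
  congr 1
  · decide
  · decide

/-- Signs and images of a permutation fixing a difference. -/
lemma sp_fix_df (h2 : (2 : F) ≠ 0) {σ : Perm (Fin 6)} {s : Fin 6 → Bool} {a b : Fin 6}
    (hab : a ≠ b) (h : sp σ s *ᵥ df a b = (df a b : Fin 6 → F)) :
    (σ a = a ∧ σ b = b ∧ s a = false ∧ s b = false) ∨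
      (σ a = b ∧ σ b = a ∧ s a = true ∧ s b = true) := by
  have h1 : (1 : F) ≠ -1 := fun hh => h2 (by linear_combination hh)
  have ha := congrFun h (σ a)
  have hb := congrFun h (σ b)
  rw [sp_mulVec_apply] at ha hb
  have hσ : σ a ≠ σ b := σ.injective.ne hab
  by_cases h3 : σ a = a
  · left
    have h4 : σ b = b := by
      by_contra h5
      have h6 : σ b ≠ a := fun e => hσ (h3.trans e.symm)
      simp [df, hab, hab.symm, h5, h6, sgn_ne_zero] at hb
    refine ⟨h3, h4, ?_, ?_⟩
    · cases hs : s a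
      · rfl
      · exfalso; simp [df, hab, h3, hs] at ha; exact h1 ha.symm
    · cases hs : s b
      · rfl
      · exfalso; simp [df, hab.symm, h4, hs] at hb; exact h1 hb
  · right
    have h4 : σ a = b := by
      by_contra h5
      simp [df, hab, h3, h5, sgn_ne_zero] at ha
    have h5 : σ b = a := by
      by_contra h6
      have h7 : σ b ≠ b := fun e => hσ (h4.trans e.symm)
      simp [df, hab, hab.symm, h6, h7, sgn_ne_zero] at hb
    refine ⟨h4, h5, ?_, ?_⟩
    · cases hs : s a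
      · exfalso; simp [df, hab, hab.symm, h4, hs] at ha; exact h1 ha
      · rfl
    · cases hs : s b
      · exfalso; simp [df, hab, hab.symm, h5, hs] at hb; exact h1 hb.symm
      · rfl

namespace Six

variable {H : Submonoid (Matrix (Fin 6) (Fin 6) F)} (hS : Six H)
include hS

lemma v1_mem : (v1 : Matrix (Fin 6) (Fin 6) F) ∈ H :=
  hS.mon_mem _ _ sign_P2345 (by decide)

lemma v3_mem : (v3 : Matrix (Fin 6) (Fin 6) F) ∈ H :=
  hS.mon_mem _ _ sign_P0123 (by decide)

/-- Fixing `p` and mapping the complementary axis to plus or minus itself gives a monomial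
matrix, as soon as an element negating that axis is available. -/
lemma axis_mon {h v : Matrix (Fin 6) (Fin 6) F} (hh : h ∈ H) (hv : v ∈ H) (hvm : Mon v)
    (hvv : v * v = 1) {a b : Fin 6} (hab : a ≠ b) (hp : h *ᵥ df a b = df a b)
    (hvp : v *ᵥ df a b = df a b) (hvf : v *ᵥ sm a b = -(sm a b : Fin 6 → F)) {x : F}
    (hx : h *ᵥ sm a b = x • sm a b) : Mon h := by
  have hnorm : (x * x - 1) * 2 = 0 := by
    have h1 := dot_mulVec_of_orth (hS.orth h hh) (sm a b) (sm a b)
    rw [hx, smul_dotProduct, dotProduct_smul] at h1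
    simp [sm, hab, hab.symm] at h1
    linear_combination h1
  have key : ∀ g ∈ H, g *ᵥ df a b = df a b → g *ᵥ sm a b = (sm a b : Fin 6 → F) → Mon g := by
    intro g hg e1 e2
    refine hS.col_single hg (a := a) (b := a) fun i hi => ?_
    have f1 := congrFun e1 i
    have f2 := congrFun e2 i
    rw [mulVec_df] at f1
    rw [mulVec_sm] at f2
    simp only [Pi.sub_apply, Pi.add_apply, col_apply, df, sm, Pi.single_eq_of_ne hi] at f1 f2
    have : (2 : F) * g i a = 0 := by linear_combination f1 + f2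
    simpa [hS.h2] using this
  rcases mul_eq_zero.mp hnorm with e | e
  · rcases mul_self_eq_one_iff.mp (sub_eq_zero.mp e) with r | r
    · exact key h hh hp (by rw [hx, r, one_smul])
    · have h1 : Mon (v * h) := by
        refine key _ (H.mul_mem hv hh) ?_ ?_
        · rw [← Matrix.mulVec_mulVec, hp, hvp]
        · rw [← Matrix.mulVec_mulVec, hx, r, Matrix.mulVec_smul, hvf, smul_neg, neg_smul,
            one_smul, neg_neg]
      have h3 := hvm.mul h1
      rwa [← Matrix.mul_assoc, hvv, Matrix.one_mul] at h3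
  · exact absurd e hS.h2

/-- Elements fixing the three differences are monomial. -/
lemma axes [Finite F] {h : Matrix (Fin 6) (Fin 6) F} (hh : h ∈ H)
    (ha : h *ᵥ df 0 1 = df 0 1) (hb : h *ᵥ df 2 3 = df 2 3) (hc : h *ᵥ df 4 5 = df 4 5) :
    Mon h := by
  have h2 := hS.h2
  -- the pointwise stabiliser
  let K : Submonoid (Matrix (Fin 6) (Fin 6) F) :=
    { carrier := {g | g ∈ H ∧ g *ᵥ df 0 1 = df 0 1 ∧ g *ᵥ df 2 3 = df 2 3 ∧ g *ᵥ df 4 5 = df 4 5}
      one_mem' := ⟨H.one_mem, by simp, by simp, by simp⟩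
      mul_mem' := by
        intro g g' h1 h3
        refine ⟨H.mul_mem h1.1 h3.1, ?_, ?_, ?_⟩
        · rw [← Matrix.mulVec_mulVec, h3.2.1, h1.2.1]
        · rw [← Matrix.mulVec_mulVec, h3.2.2.1, h1.2.2.1]
        · rw [← Matrix.mulVec_mulVec, h3.2.2.2, h1.2.2.2] }
  have hKH : K ≤ H := fun g hg => hg.1
  have hKt : ∀ g ∈ K, gᵀ ∈ K := by
    intro g hg
    refine ⟨hS.trans_mem g hg.1, ?_, ?_, ?_⟩
    · nth_rewrite 1 [← hg.2.1]; rw [Matrix.mulVec_mulVec, hS.orth g hg.1, Matrix.one_mulVec]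
    · nth_rewrite 1 [← hg.2.2.1]; rw [Matrix.mulVec_mulVec, hS.orth g hg.1, Matrix.one_mulVec]
    · nth_rewrite 1 [← hg.2.2.2]; rw [Matrix.mulVec_mulVec, hS.orth g hg.1, Matrix.one_mulVec]
  have e11 : v1 *ᵥ df 0 1 = (df 0 1 : Fin 6 → F) := by
    funext i; fin_cases i <;> simp [v1, df, sp_mulVec, P2345]
  have e12 : v1 *ᵥ df 2 3 = (df 2 3 : Fin 6 → F) := by
    funext i; fin_cases i <;> simp [v1, df, sp_mulVec, P2345]
  have e13 : v1 *ᵥ df 4 5 = (df 4 5 : Fin 6 → F) := by
    funext i; fin_cases i <;> simp [v1, df, sp_mulVec, P2345]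
  have e31 : v3 *ᵥ df 0 1 = (df 0 1 : Fin 6 → F) := by
    funext i; fin_cases i <;> simp [v3, df, sp_mulVec, P0123]
  have e32 : v3 *ᵥ df 2 3 = (df 2 3 : Fin 6 → F) := by
    funext i; fin_cases i <;> simp [v3, df, sp_mulVec, P0123]
  have e33 : v3 *ᵥ df 4 5 = (df 4 5 : Fin 6 → F) := by
    funext i; fin_cases i <;> simp [v3, df, sp_mulVec, P0123]
  have hv1K : v1 ∈ K := ⟨hS.v1_mem, e11, e12, e13⟩
  have hv3K : v3 ∈ K := ⟨hS.v3_mem, e31, e32, e33⟩
  -- orthogonality to the differences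
  have hperp : ∀ g ∈ K, ∀ y : Fin 6 → F, y 0 = y 1 → y 2 = y 3 → y 4 = y 5 →
      (g *ᵥ y) 0 = (g *ᵥ y) 1 ∧ (g *ᵥ y) 2 = (g *ᵥ y) 3 ∧ (g *ᵥ y) 4 = (g *ᵥ y) 5 := by
    intro g hg y y0 y2 y4
    have aux : ∀ a b : Fin 6, g *ᵥ df a b = df a b → y a = y b →
        (g *ᵥ y) a = (g *ᵥ y) b := by
      intro a b e ey
      have h1 := dot_mulVec_of_orth (hS.orth g hg.1) (df a b) y
      rw [e] at h1
      simp only [df, sub_dotProduct, single_dotProduct, one_mul, ey, sub_self] at h1
      exact sub_eq_zero.mp h1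
    exact ⟨aux 0 1 hg.2.1 y0, aux 2 3 hg.2.2.1 y2, aux 4 5 hg.2.2.2 y4⟩
  have hv13 : (v1 : Matrix (Fin 6) (Fin 6) F) * v3 = v13 := by
    rw [v1, v3, v13, sp_mul]
    congr 1
    · decide
    · decide
  have hv31 : (v3 : Matrix (Fin 6) (Fin 6) F) * v1 = v13 := by
    rw [v1, v3, v13, sp_mul]
    congr 1
    · decide
    · decide
  -- centralisers
  have C1 : ∀ g ∈ K, g * v1 = v1 * g → Mon g := by
    intro g hg hcm
    obtain ⟨p0, p2, p4⟩ := hperp g hg (sm 0 1) (by simp [sm]) (by simp [sm]) (by simp [sm])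
    have hfix : v1 *ᵥ (g *ᵥ sm 0 1) = g *ᵥ sm 0 1 := by
      rw [Matrix.mulVec_mulVec, ← hcm, ← Matrix.mulVec_mulVec]
      congr 1
      funext i; fin_cases i <;> simp [v1, sm, sp_mulVec, P2345]
    have f2 := congrFun hfix 2
    have f4 := congrFun hfix 4
    simp [v1, sp_mulVec, P2345, ← p2, ← p4] at f2 f4
    have z2 : (g *ᵥ sm 0 1) 2 = 0 :=
      (mul_eq_zero.mp (show (2 : F) * (g *ᵥ sm 0 1) 2 = 0 by linear_combination -f2)).resolve_left h2
    have z4 : (g *ᵥ sm 0 1) 4 = 0 :=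
      (mul_eq_zero.mp (show (2 : F) * (g *ᵥ sm 0 1) 4 = 0 by linear_combination -f4)).resolve_left h2
    refine hS.axis_mon (v := v3) hg.1 hS.v3_mem (Mon.of_sp _ _) v3_sq (by decide) hg.2.1 e31 ?_
      (x := (g *ᵥ sm 0 1) 0) ?_
    · funext i; fin_cases i <;> simp [v3, sm, sp_mulVec, P0123]
    · funext i
      fin_cases i <;> simp [sm_apply, ← p0, ← p2, ← p4, z2, z4]
  have C3 : ∀ g ∈ K, g * v3 = v3 * g → Mon g := by
    intro g hg hcm
    obtain ⟨p0, p2, p4⟩ := hperp g hg (sm 4 5) (by simp [sm]) (by simp [sm]) (by simp [sm])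
    have hfix : v3 *ᵥ (g *ᵥ sm 4 5) = g *ᵥ sm 4 5 := by
      rw [Matrix.mulVec_mulVec, ← hcm, ← Matrix.mulVec_mulVec]
      congr 1
      funext i; fin_cases i <;> simp [v3, sm, sp_mulVec, P0123]
    have f0 := congrFun hfix 0
    have f2 := congrFun hfix 2
    simp [v3, sp_mulVec, P0123, ← p0, ← p2] at f0 f2
    have z0 : (g *ᵥ sm 4 5) 0 = 0 :=
      (mul_eq_zero.mp (show (2 : F) * (g *ᵥ sm 4 5) 0 = 0 by linear_combination -f0)).resolve_left h2
    have z2 : (g *ᵥ sm 4 5) 2 = 0 :=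
      (mul_eq_zero.mp (show (2 : F) * (g *ᵥ sm 4 5) 2 = 0 by linear_combination -f2)).resolve_left h2
    refine hS.axis_mon (v := v1) hg.1 hS.v1_mem (Mon.of_sp _ _) v1_sq (by decide) hg.2.2.2 e13 ?_
      (x := (g *ᵥ sm 4 5) 4) ?_
    · funext i; fin_cases i <;> simp [v1, sm, sp_mulVec, P2345]
    · funext i
      fin_cases i <;> simp [sm_apply, ← p0, ← p2, ← p4, z0, z2]
  have C13 : ∀ g ∈ K, g * v13 = v13 * g → Mon g := by
    intro g hg hcm
    obtain ⟨p0, p2, p4⟩ := hperp g hg (sm 2 3) (by simp [sm]) (by simp [sm]) (by simp [sm])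
    have hfix : v13 *ᵥ (g *ᵥ sm 2 3) = g *ᵥ sm 2 3 := by
      rw [Matrix.mulVec_mulVec, ← hcm, ← Matrix.mulVec_mulVec]
      congr 1
      funext i; fin_cases i <;> simp [v13, sm, sp_mulVec, P0145]
    have f0 := congrFun hfix 0
    have f4 := congrFun hfix 4
    simp [v13, sp_mulVec, P0145, ← p0, ← p4] at f0 f4
    have z0 : (g *ᵥ sm 2 3) 0 = 0 :=
      (mul_eq_zero.mp (show (2 : F) * (g *ᵥ sm 2 3) 0 = 0 by linear_combination -f0)).resolve_left h2
    have z4 : (g *ᵥ sm 2 3) 4 = 0 :=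
      (mul_eq_zero.mp (show (2 : F) * (g *ᵥ sm 2 3) 4 = 0 by linear_combination -f4)).resolve_left h2
    refine hS.axis_mon (v := v3) hg.1 hS.v3_mem (Mon.of_sp _ _) v3_sq (by decide) hg.2.2.1 e32 ?_
      (x := (g *ᵥ sm 2 3) 2) ?_
    · funext i; fin_cases i <;> simp [v3, sm, sp_mulVec, P0123]
    · funext i
      fin_cases i <;> simp [sm_apply, ← p0, ← p2, ← p4, z0, z4]
  -- monomial elements of the stabiliser
  have V4 : ∀ g ∈ K, Mon g → g = 1 ∨ g = v1 ∨ g = v3 ∨ g = v13 := by
    intro g hg hgm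
    obtain ⟨σ, s, rfl⟩ := hgm.exists_sp (hS.orth g hg.1)
    have hp := hS.parity hg.1
    have hext : ∀ (τ : Perm (Fin 6)) (t : Fin 6 → Bool), (∀ i, σ i = τ i) → (∀ i, s i = t i) →
        (sp σ s : Matrix (Fin 6) (Fin 6) F) = sp τ t := by
      intro τ t e1 e2
      rw [Equiv.ext e1, funext e2]
    have hbad : ∀ (τ : Perm (Fin 6)) (t : Fin 6 → Bool), (∀ i, σ i = τ i) → (∀ i, s i = t i) →
        Perm.sign τ * par t = -1 → False := by
      intro τ t e1 e2 e3
      rw [Equiv.ext e1, funext e2, e3] at hp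
      exact absurd hp (by decide)
    rcases sp_fix_df h2 (by decide) hg.2.1 with ⟨a1, a2, a3, a4⟩ | ⟨a1, a2, a3, a4⟩ <;>
      rcases sp_fix_df h2 (by decide) hg.2.2.1 with ⟨b1, b2, b3, b4⟩ | ⟨b1, b2, b3, b4⟩ <;>
      rcases sp_fix_df h2 (by decide) hg.2.2.2 with ⟨c1, c2, c3, c4⟩ | ⟨c1, c2, c3, c4⟩
    · left
      rw [← sp_one]
      refine hext _ _ (fun i => ?_) fun i => ?_ <;> fin_cases i <;> simp [*]
    · refine (hbad (swap 4 5) ![false, false, false, false, true, true] (fun i => ?_)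
        (fun i => ?_) (by decide)).elim <;> fin_cases i <;> simp [*, swap_apply_def]
    · refine (hbad (swap 2 3) ![false, false, true, true, false, false] (fun i => ?_)
        (fun i => ?_) (by decide)).elim <;> fin_cases i <;> simp [*, swap_apply_def]
    · right; left
      refine hext _ _ (fun i => ?_) fun i => ?_ <;> fin_cases i <;> simp [*, P2345]
    · refine (hbad (swap 0 1) ![true, true, false, false, false, false] (fun i => ?_)
        (fun i => ?_) (by decide)).elim <;> fin_cases i <;> simp [*, swap_apply_def]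
    · right; right; right
      refine hext _ _ (fun i => ?_) fun i => ?_ <;> fin_cases i <;> simp [*, P0145]
    · right; right; left
      refine hext _ _ (fun i => ?_) fun i => ?_ <;> fin_cases i <;> simp [*, P0123]
    · refine (hbad (swap 0 1 * (swap 2 3 * swap 4 5)) (fun _ => true) (fun i => ?_)
        (fun i => ?_) (by decide)).elim <;> fin_cases i <;> simp [*, swap_apply_def]
  have hcomm : ∀ g ∈ K, Mon g → g * v3 = v3 * g := by
    intro g hg hgm
    rcases V4 g hg hgm with rfl | rfl | rfl | rfl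
    · rw [Matrix.one_mul, Matrix.mul_one]
    · rw [hv13, hv31]
    · rfl
    · nth_rewrite 1 [← hv31]
      rw [← hv13]
      simp only [Matrix.mul_assoc]
  by_contra hm
  have hhK : h ∈ K := ⟨hh, ha, hb, hc⟩
  set v := h * v3 * hᵀ with hv
  have hvK : v ∈ K := K.mul_mem (K.mul_mem hhK hv3K) (hKt h hhK)
  have hvh : v * h = h * v3 := by
    rw [hv, Matrix.mul_assoc, hS.orth h hh, Matrix.mul_one]
  have hvv : v * v = 1 := by
    calc v * v = v * h * v3 * hᵀ := by
          conv_lhs => arg 2; rw [hv]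
          simp only [Matrix.mul_assoc]
      _ = 1 := by rw [hvh, Matrix.mul_assoc h, v3_sq, Matrix.mul_one, hS.orth' hh]
  -- no element of the stabiliser moves one axis to another
  have hswap : ∀ m ∈ K, v1 * m = m * v3 ∨ v13 * m = m * v3 → False := by
    intro m hm' hcase
    obtain ⟨p0, p2, p4⟩ := hperp m hm' (sm 4 5) (by simp [sm]) (by simp [sm]) (by simp [sm])
    have hv3f : v3 *ᵥ sm 4 5 = (sm 4 5 : Fin 6 → F) := by
      funext i; fin_cases i <;> simp [v3, sm, sp_mulVec, P0123]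
    have hmon : Mon m := by
      rcases hcase with e | e
      · have hfix : v1 *ᵥ (m *ᵥ sm 4 5) = m *ᵥ sm 4 5 := by
          rw [Matrix.mulVec_mulVec, e, ← Matrix.mulVec_mulVec, hv3f]
        have f2 := congrFun hfix 2
        simp [v1, sp_mulVec, P2345, ← p2] at f2
        have z2 : (m *ᵥ sm 4 5) 2 = 0 :=
          (mul_eq_zero.mp (show (2 : F) * (m *ᵥ sm 4 5) 2 = 0 by
            linear_combination -f2)).resolve_left h2
        have z3 : (m *ᵥ sm 4 5) 3 = 0 := p2 ▸ z2
        have d2 := congrFun hm'.2.2.2 2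
        have d3 := congrFun hm'.2.2.2 3
        rw [mulVec_df] at d2 d3
        rw [mulVec_sm] at z2 z3
        simp [df] at d2 d3
        simp at z2 z3
        exact hS.two_zeros hm'.1 (show (2 : Fin 6) ≠ 3 by decide) (c := 4)
          ((mul_eq_zero.mp (show (2 : F) * m 2 4 = 0 by linear_combination d2 + z2)).resolve_left h2)
          ((mul_eq_zero.mp (show (2 : F) * m 3 4 = 0 by linear_combination d3 + z3)).resolve_left h2)
      · have hfix : v13 *ᵥ (m *ᵥ sm 4 5) = m *ᵥ sm 4 5 := by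
          rw [Matrix.mulVec_mulVec, e, ← Matrix.mulVec_mulVec, hv3f]
        have f2 := congrFun hfix 0
        simp [v13, sp_mulVec, P0145, ← p0] at f2
        have z2 : (m *ᵥ sm 4 5) 0 = 0 :=
          (mul_eq_zero.mp (show (2 : F) * (m *ᵥ sm 4 5) 0 = 0 by
            linear_combination -f2)).resolve_left h2
        have z3 : (m *ᵥ sm 4 5) 1 = 0 := p0 ▸ z2
        have d2 := congrFun hm'.2.2.2 0
        have d3 := congrFun hm'.2.2.2 1
        rw [mulVec_df] at d2 d3
        rw [mulVec_sm] at z2 z3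
        simp [df] at d2 d3
        simp at z2 z3
        exact hS.two_zeros hm'.1 (show (0 : Fin 6) ≠ 1 by decide) (c := 4)
          ((mul_eq_zero.mp (show (2 : F) * m 0 4 = 0 by linear_combination d2 + z2)).resolve_left h2)
          ((mul_eq_zero.mp (show (2 : F) * m 1 4 = 0 by linear_combination d3 + z3)).resolve_left h2)
    have hc3 := hcomm m hm' hmon
    rw [hc3] at hcase
    have hne : ∀ w : Matrix (Fin 6) (Fin 6) F, w * m = v3 * m → w = v3 := by
      intro w e
      have := congrArg (fun z => z * mᵀ) e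
      simpa [Matrix.mul_assoc, hS.orth' hm'.1] using this
    rcases hcase with e | e
    · have := congrFun (congrFun (hne _ e) 0) 0
      simp [v1, v3, sp_apply, P2345, P0123] at this
    · have := congrFun (congrFun (hne _ e) 2) 2
      simp [v13, v3, sp_apply, P0145, P0123] at this
  by_cases hconj : ∃ d ∈ K, v * d = d * v1
  · obtain ⟨d, hd, hdv⟩ := hconj
    refine hswap (dᵀ * h) (K.mul_mem (hKt d hd) hhK) (Or.inl ?_)
    calc v1 * (dᵀ * h) = dᵀ * (d * v1) * (dᵀ * h) := by
          rw [← Matrix.mul_assoc dᵀ d, hS.orth d hd.1, Matrix.one_mul]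
      _ = dᵀ * v * (d * dᵀ) * h := by rw [← hdv]; simp only [Matrix.mul_assoc]
      _ = dᵀ * (v * h) := by rw [hS.orth' hd.1, Matrix.mul_one, Matrix.mul_assoc]
      _ = dᵀ * h * v3 := by rw [hvh, Matrix.mul_assoc]
  push Not at hconj
  obtain ⟨n, hn1, -, hn3, hn4⟩ := hS.dihedral K hKH hv1K hvK v1_sq hvv hconj
  set w := (v1 * v) ^ n with hw
  have hwK : w ∈ K := pow_mem (K.mul_mem hv1K hvK) n
  have hvm : Mon v := by
    rcases V4 w hwK (C1 w hwK hn3.symm) with e | e | e | e
    · exact absurd e hn1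
    · exact C1 v hvK (by rw [← e]; exact hn4)
    · exact C3 v hvK (by rw [← e]; exact hn4)
    · exact C13 v hvK (by rw [← e]; exact hn4)
  rcases V4 v hvK hvm with e | e | e | e
  · rw [e, Matrix.one_mul] at hvh
    have h3 := congrArg (fun z => hᵀ * z) hvh
    simp only [← Matrix.mul_assoc, hS.orth h hh, Matrix.one_mul] at h3
    have := congrFun (congrFun h3 0) 0
    simp [v3, sp_apply, P0123] at this
  · rw [e] at hvh; exact hswap h hhK (Or.inl hvh)
  · rw [e] at hvh; exact hm (C3 h hhK hvh.symm)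
  · rw [e] at hvh; exact hswap h hhK (Or.inr hvh)

end Six

end Cfsg.Agent.C6Six
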