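import Mathlib

/-!
# Signed permutation matrices in degree six

Elementary facts used for the maximality of the monomial subgroup of a six-dimensional
orthogonal group.
-/

set_option autoImplicit false
set_option linter.unusedSectionVars false

namespace Cfsg.Agent.C6Six

open Matrix Equiv

variable {F : Type*} [Field F]

/-- The sign attached to a boolean. -/
def sgn (b : Bool) : F := if b then -1 else 1

@[simp] lemma sgn_true : (sgn true : F) = -1 := rfl
@[simp] lemma sgn_false : (sgn false : F) = 1 := rfl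

lemma sgn_mul_self (b : Bool) : (sgn b : F) * sgn b = 1 := by cases b <;> simp

lemma sgn_sq (b : Bool) : (sgn b : F) ^ 2 = 1 := by cases b <;> simp

lemma sgn_cases (b : Bool) : (sgn b : F) = 1 ∨ (sgn b : F) = -1 := by cases b <;> simp

lemma sgn_ne_zero (b : Bool) : (sgn b : F) ≠ 0 := by cases b <;> simp

lemma sgn_xor (a b : Bool) : (sgn (xor a b) : F) = sgn a * sgn b := by
  cases a <;> cases b <;> simp

lemma sgn_inj (h2 : (2 : F) ≠ 0) {a b : Bool} (h : (sgn a : F) = sgn b) : a = b := by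
  have h1 : (1 : F) ≠ -1 := fun hh => h2 (by linear_combination hh)
  cases a <;> cases b <;> simp_all [eq_comm]

/-- The parity of a sign vector. -/
def par (s : Fin 6 → Bool) : ℤˣ := ∏ a, if s a then -1 else 1

lemma par_false : par (fun _ => false) = 1 := by decide

lemma par_true : par (fun _ => true) = 1 := by decide

lemma par_xor (s r : Fin 6 → Bool) : par (fun a => xor (s a) (r a)) = par s * par r := by
  unfold par
  rw [← Finset.prod_mul_distrib]
  refine Finset.prod_congr rfl fun a _ => ?_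
  show (if xor (s a) (r a) then (-1 : ℤˣ) else 1) = _
  generalize s a = x
  generalize r a = y
  cases x <;> cases y <;> decide

lemma par_comp (s : Fin 6 → Bool) (π : Perm (Fin 6)) : par (fun a => s (π a)) = par s :=
  Equiv.prod_comp π (fun a => if s a then (-1 : ℤˣ) else 1)

/-- The signed permutation matrix sending the `a`-th basis vector to `± e (σ a)`. -/
def sp (σ : Perm (Fin 6)) (s : Fin 6 → Bool) : Matrix (Fin 6) (Fin 6) F :=
  fun i a => if i = σ a then sgn (s a) else 0

lemma sp_apply (σ : Perm (Fin 6)) (s : Fin 6 → Bool) (i a : Fin 6) :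
    (sp σ s : Matrix (Fin 6) (Fin 6) F) i a = if i = σ a then sgn (s a) else 0 := rfl

lemma sp_apply_self (σ : Perm (Fin 6)) (s : Fin 6 → Bool) (a : Fin 6) :
    (sp σ s : Matrix (Fin 6) (Fin 6) F) (σ a) a = sgn (s a) := by simp [sp_apply]

lemma sp_mulVec (σ : Perm (Fin 6)) (s : Fin 6 → Bool) (w : Fin 6 → F) (i : Fin 6) :
    (sp σ s *ᵥ w) i = sgn (s (σ.symm i)) * w (σ.symm i) := by
  rw [Matrix.mulVec, dotProduct, Finset.sum_eq_single (σ.symm i)]
  · simp [sp_apply]
  · intro b _ hb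
    have : i ≠ σ b := fun h => hb (by simp [h])
    simp [sp_apply, this]
  · simp

lemma sp_mulVec_apply (σ : Perm (Fin 6)) (s : Fin 6 → Bool) (w : Fin 6 → F) (a : Fin 6) :
    (sp σ s *ᵥ w) (σ a) = sgn (s a) * w a := by simp [sp_mulVec]

lemma sp_single (σ : Perm (Fin 6)) (s : Fin 6 → Bool) (a : Fin 6) (x : F) :
    sp σ s *ᵥ Pi.single a x = Pi.single (σ a) (sgn (s a) * x) := by
  funext i
  rw [sp_mulVec]
  by_cases h : i = σ a
  · subst h; simp
  · have : σ.symm i ≠ a := fun hh => h (by simp [← hh])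
    simp [h, this]

lemma sp_mul (σ τ : Perm (Fin 6)) (s r : Fin 6 → Bool) :
    (sp σ s : Matrix (Fin 6) (Fin 6) F) * sp τ r = sp (σ * τ) (fun a => xor (s (τ a)) (r a)) := by
  refine Matrix.ext_iff_mulVec.mpr fun w => ?_
  funext i
  rw [← Matrix.mulVec_mulVec, sp_mulVec, sp_mulVec, sp_mulVec]
  simp only [Perm.mul_def, Equiv.symm_trans_apply, Equiv.apply_symm_apply, sgn_xor]
  ring

lemma sp_one : (sp 1 (fun _ => false) : Matrix (Fin 6) (Fin 6) F) = 1 := by
  ext i a
  by_cases h : i = a <;> simp [sp_apply, Matrix.one_apply, h]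

lemma sp_neg_one : (sp 1 (fun _ => true) : Matrix (Fin 6) (Fin 6) F) = -1 := by
  ext i a
  by_cases h : i = a <;> simp [sp_apply, Matrix.one_apply, h]

lemma sp_transpose_mul (σ : Perm (Fin 6)) (s : Fin 6 → Bool) :
    (sp σ s : Matrix (Fin 6) (Fin 6) F)ᵀ * sp σ s = 1 := by
  ext a b
  simp only [Matrix.mul_apply, Matrix.transpose_apply, sp_apply]
  by_cases h : a = b
  · subst h
    simp [sgn_mul_self]
  · rw [Matrix.one_apply_ne h]
    refine Finset.sum_eq_zero fun i _ => ?_
    by_cases h1 : i = σ a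
    · subst h1
      simp [h]
    · simp [h1]

lemma sp_mul_transpose (σ : Perm (Fin 6)) (s : Fin 6 → Bool) :
    (sp σ s : Matrix (Fin 6) (Fin 6) F) * (sp σ s)ᵀ = 1 :=
  mul_eq_one_comm.mp (sp_transpose_mul σ s)

lemma sp_transpose (σ : Perm (Fin 6)) (s : Fin 6 → Bool) :
    (sp σ s : Matrix (Fin 6) (Fin 6) F)ᵀ = sp σ⁻¹ (fun a => s (σ⁻¹ a)) := by
  ext i a
  simp only [Matrix.transpose_apply, sp_apply]
  by_cases h : a = σ i
  · subst h
    simp
  · have : i ≠ σ⁻¹ a := fun hh => h (by simp [hh])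
    rw [if_neg h, if_neg this]

lemma sp_det (σ : Perm (Fin 6)) (s : Fin 6 → Bool) :
    (sp σ s : Matrix (Fin 6) (Fin 6) F).det = (((Perm.sign σ * par s : ℤˣ) : ℤ) : F) := by
  have : (sp σ s : Matrix (Fin 6) (Fin 6) F) =
      (Matrix.diagonal (fun a : Fin 6 => (sgn (s (σ⁻¹ a)) : F))).submatrix id id *
        sp σ (fun _ => false) := by
    ext i a
    simp only [Matrix.submatrix_id_id, Matrix.diagonal_mul, sp_apply]
    by_cases h : i = σ a
    · subst h; simp
    · simp [h]
  rw [this, Matrix.submatrix_id_id, Matrix.det_mul, Matrix.det_diagonal]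
  have h1 : (sp σ (fun _ => false) : Matrix (Fin 6) (Fin 6) F) = (σ⁻¹).permMatrix F := by
    ext i a
    simp only [sp_apply, Equiv.Perm.permMatrix, PEquiv.toMatrix_apply, Equiv.toPEquiv_apply,
      sgn_false, Option.mem_def, Option.some.injEq]
    by_cases h : i = σ a
    · subst h; simp
    · have : σ⁻¹ i ≠ a := fun hh => h (by simp [← hh])
      rw [if_neg h, if_neg this]
  rw [h1, Matrix.det_permutation, Perm.sign_inv]
  have h3 : (∏ a : Fin 6, (sgn (s (σ⁻¹ a)) : F)) = (((par s : ℤˣ) : ℤ) : F) := by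
    rw [Equiv.prod_comp σ⁻¹ (fun a => (sgn (s a) : F))]
    unfold par
    push_cast
    refine Finset.prod_congr rfl fun a _ => ?_
    cases s a <;> simp
  rw [h3]
  push_cast
  ring

/-- Diagonal matrix with `-1` in two places. -/
def dl (a b : Fin 6) : Matrix (Fin 6) (Fin 6) F := sp 1 (fun i => decide (i = a ∨ i = b))

lemma dl_mulVec (a b : Fin 6) (w : Fin 6 → F) (i : Fin 6) :
    (dl a b *ᵥ w) i = if i = a ∨ i = b then -w i else w i := by
  rw [dl, sp_mulVec]
  have h : (1 : Perm (Fin 6)).symm i = i := rfl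
  rw [h]
  by_cases hi : i = a ∨ i = b <;> simp [hi]

lemma dl_mulVec_eq {a b : Fin 6} (hab : a ≠ b) (w : Fin 6 → F) :
    dl a b *ᵥ w = w - Pi.single a (2 * w a) - Pi.single b (2 * w b) := by
  funext i
  rw [dl_mulVec]
  by_cases h1 : i = a
  · subst h1
    simp [hab]
    ring
  · by_cases h2 : i = b
    · subst h2
      simp [h1]
      ring
    · simp [h1, h2]

lemma dl_sq (a b : Fin 6) : (dl a b : Matrix (Fin 6) (Fin 6) F) * dl a b = 1 := by
  rw [dl, sp_mul, ← sp_one]
  congr 1
  funext i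
  show xor (decide (i = a ∨ i = b)) (decide (i = a ∨ i = b)) = false
  generalize decide (i = a ∨ i = b) = x
  cases x <;> rfl

lemma dl_transpose (a b : Fin 6) : (dl a b : Matrix (Fin 6) (Fin 6) F)ᵀ = dl a b := by
  rw [dl, sp_transpose]
  simp

lemma dl_comm_self (a b : Fin 6) : (dl a b : Matrix (Fin 6) (Fin 6) F) = dl b a := by
  unfold dl
  congr 1
  funext i
  simp [or_comm]

/-- The matrix has exactly a signed-permutation shape, column by column. -/
def Mon (h : Matrix (Fin 6) (Fin 6) F) : Prop := ∀ a, ∃ b, ∀ i, i ≠ b → h i a = 0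

lemma Mon.of_sp (σ : Perm (Fin 6)) (s : Fin 6 → Bool) :
    Mon (sp σ s : Matrix (Fin 6) (Fin 6) F) :=
  fun a => ⟨σ a, fun i hi => by simp [sp_apply, hi]⟩

lemma Mon.mul {h k : Matrix (Fin 6) (Fin 6) F} (hh : Mon h) (hk : Mon k) : Mon (h * k) := by
  intro a
  obtain ⟨b, hb⟩ := hk a
  obtain ⟨c, hc⟩ := hh b
  refine ⟨c, fun i hi => ?_⟩
  rw [Matrix.mul_apply, Finset.sum_eq_single b]
  · rw [hc i hi, zero_mul]
  · intro j _ hj
    rw [hb j hj, mul_zero]
  · simp

lemma Mon.dl (a b : Fin 6) : Mon (C6Six.dl a b : Matrix (Fin 6) (Fin 6) F) := Mon.of_sp _ _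

/-- The `a`-th column. -/
def col (h : Matrix (Fin 6) (Fin 6) F) (a : Fin 6) : Fin 6 → F := fun i => h i a

@[simp] lemma col_apply (h : Matrix (Fin 6) (Fin 6) F) (a i : Fin 6) : col h a i = h i a := rfl

lemma mulVec_single' (h : Matrix (Fin 6) (Fin 6) F) (a : Fin 6) (x : F) :
    h *ᵥ Pi.single a x = x • col h a := by
  funext i
  simp [Matrix.mulVec, dotProduct_single, col, mul_comm]

lemma col_mul (h k : Matrix (Fin 6) (Fin 6) F) (a : Fin 6) :
    col (h * k) a = h *ᵥ col k a := by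
  funext i
  simp [col, Matrix.mul_apply, Matrix.mulVec, dotProduct]

lemma col_sp (σ : Perm (Fin 6)) (s : Fin 6 → Bool) (a : Fin 6) :
    col (sp σ s : Matrix (Fin 6) (Fin 6) F) a = Pi.single (σ a) (sgn (s a)) := by
  funext i
  by_cases h : i = σ a
  · subst h; simp [sp_apply]
  · simp [sp_apply, h]

lemma dot_col_of_orth {h : Matrix (Fin 6) (Fin 6) F} (ho : hᵀ * h = 1) (a b : Fin 6) :
    col h a ⬝ᵥ col h b = if a = b then 1 else 0 := by
  have := congrFun (congrFun ho a) b
  simpa [Matrix.mul_apply, dotProduct, Matrix.one_apply] using this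

lemma dot_mulVec_of_orth {h : Matrix (Fin 6) (Fin 6) F} (ho : hᵀ * h = 1) (x y : Fin 6 → F) :
    (h *ᵥ x) ⬝ᵥ (h *ᵥ y) = x ⬝ᵥ y := by
  rw [Matrix.dotProduct_mulVec, Matrix.vecMul_mulVec]
  rw [show (x ᵥ* (hᵀ * h)) = x by rw [ho, Matrix.vecMul_one]]

lemma mulVec_injective_of_orth {h : Matrix (Fin 6) (Fin 6) F} (ho : hᵀ * h = 1)
    {x y : Fin 6 → F} (e : h *ᵥ x = h *ᵥ y) : x = y := by
  have := congrArg (fun z => hᵀ *ᵥ z) e
  simpa [Matrix.mulVec_mulVec, ho] using this

lemma Mon.exists_sp {h : Matrix (Fin 6) (Fin 6) F} (hm : Mon h) (ho : hᵀ * h = 1) :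
    ∃ σ s, h = sp σ s := by
  classical
  choose f hf using hm
  have hnorm : ∀ a, h (f a) a * h (f a) a = 1 := by
    intro a
    have h1 := dot_col_of_orth ho a a
    rw [if_pos rfl, dotProduct, Finset.sum_eq_single (f a)] at h1
    · exact h1
    · intro j _ hj
      simp [hf a j hj]
    · simp
  have hinj : Function.Injective f := by
    intro a b hab
    by_contra hne
    have h1 := dot_col_of_orth ho a b
    rw [if_neg hne, dotProduct, Finset.sum_eq_single (f a)] at h1
    · simp only [col_apply] at h1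
      rcases mul_eq_zero.mp h1 with h0 | h0
      · simpa [h0] using hnorm a
      · rw [hab] at h0
        simpa [h0] using hnorm b
    · intro j _ hj
      simp [hf a j hj]
    · simp
  refine ⟨Equiv.ofBijective f ((Fintype.bijective_iff_injective_and_card f).mpr ⟨hinj, rfl⟩),
    fun a => decide (h (f a) a ≠ 1), ?_⟩
  ext i a
  simp only [sp_apply, Equiv.ofBijective_apply]
  by_cases hi : i = f a
  · subst hi
    rw [if_pos rfl]
    by_cases h1 : h (f a) a = 1
    · simp [h1]
    · rcases mul_self_eq_one_iff.mp (hnorm a) with e | e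
      · exact absurd e h1
      · simp [h1]
        exact e
  · rw [if_neg hi]
    exact hf a i hi

lemma Mon.transpose {h : Matrix (Fin 6) (Fin 6) F} (hm : Mon h) (ho : hᵀ * h = 1) : Mon hᵀ := by
  obtain ⟨σ, s, rfl⟩ := hm.exists_sp ho
  rw [sp_transpose]
  exact Mon.of_sp _ _

lemma Mon.eq_zero_of_ne_zero {h : Matrix (Fin 6) (Fin 6) F} (hm : Mon h) {a i j : Fin 6}
    (hij : i ≠ j) (hi : h i a ≠ 0) : h j a = 0 := by
  obtain ⟨b, hb⟩ := hm a
  have : i = b := by
    by_contra hne
    exact hi (hb i hne)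
  exact hb j (fun hh => hij (this.trans hh.symm))

end Cfsg.Agent.C6Six
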