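import Cfsg.Agent.C6Six.TwoPoint

/-!
# Monomial involutions and their centralisers
-/

set_option autoImplicit false
set_option linter.unusedSectionVars false

namespace Cfsg.Agent.C6Six

open Matrix Equiv

variable {F : Type*} [Field F]

/-- `(0 1)(2 3)` -/
def P0123 : Perm (Fin 6) := ⟨![1, 0, 3, 2, 4, 5], ![1, 0, 3, 2, 4, 5], by decide, by decide⟩

/-- `(0 1)(4 5)` -/
def P0145 : Perm (Fin 6) := ⟨![1, 0, 2, 3, 5, 4], ![1, 0, 2, 3, 5, 4], by decide, by decide⟩

/-- `(0 2)(1 3)` -/
def P0213 : Perm (Fin 6) := ⟨![2, 3, 0, 1, 4, 5], ![2, 3, 0, 1, 4, 5], by decide, by decide⟩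

lemma sign_P0123 : Perm.sign P0123 = 1 := by
  rw [show P0123 = swap 0 1 * swap 2 3 by decide, swap_mul_swap_sign (by decide) (by decide)]

lemma sign_P0145 : Perm.sign P0145 = 1 := by
  rw [show P0145 = swap 0 1 * swap 4 5 by decide, swap_mul_swap_sign (by decide) (by decide)]

/-- The standard involution `e₀ ↔ e₁, e₂ ↔ e₃`. -/
def b0 : Matrix (Fin 6) (Fin 6) F := sp P0123 (fun _ => false)

lemma b0_sq : (b0 : Matrix (Fin 6) (Fin 6) F) * b0 = 1 := by
  rw [b0, sp_mul, show P0123 * P0123 = 1 by decide, ← sp_one]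
  rfl

lemma sp_inj (h2 : (2 : F) ≠ 0) {σ τ : Perm (Fin 6)} {s r : Fin 6 → Bool}
    (h : (sp σ s : Matrix (Fin 6) (Fin 6) F) = sp τ r) : σ = τ ∧ s = r := by
  have hσ : σ = τ := by
    ext a
    by_contra hne
    have h1 := congrFun (congrFun h (σ a)) a
    rw [sp_apply_self, sp_apply, if_neg (fun hh => hne (by rw [hh]))] at h1
    exact sgn_ne_zero _ h1
  subst hσ
  refine ⟨rfl, funext fun a => sgn_inj h2 ?_⟩
  have h1 := congrFun (congrFun h (σ a)) a
  rwa [sp_apply_self, sp_apply_self] at h1

lemma sp_involution (h2 : (2 : F) ≠ 0) {σ : Perm (Fin 6)} {s : Fin 6 → Bool}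
    (h : (sp σ s : Matrix (Fin 6) (Fin 6) F) * sp σ s = 1) :
    σ * σ = 1 ∧ ∀ a, s (σ a) = s a := by
  rw [sp_mul, ← sp_one] at h
  obtain ⟨e1, e2⟩ := sp_inj h2 h
  refine ⟨e1, fun a => ?_⟩
  have := congrFun e2 a
  cases h1 : s (σ a) <;> cases h3 : s a <;> simp_all

/-- If all fixed points carry the sign `+`, an invariant sign vector has even weight. -/
lemma par_of_fixed {σ : Perm (Fin 6)} {s : Fin 6 → Bool} (hσ : σ * σ = 1)
    (hs : ∀ a, s (σ a) = s a) (hf : ∀ a, σ a = a → s a = false) : par s = 1 := by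
  have hσσ : ∀ a, σ (σ a) = a := fun a => by rw [← Perm.mul_apply, hσ, Perm.one_apply]
  unfold par
  refine Finset.prod_involution (fun a _ => σ a) (fun a _ => ?_) (fun a _ hne hfix => ?_)
    (fun a _ => Finset.mem_univ _) (fun a _ => hσσ a)
  · rw [hs, Int.units_mul_self]
  · rw [hf a hfix] at hne
    simp at hne

/-- The shapes of involutions of six points. -/
lemma shape {σ : Perm (Fin 6)} (hσ : σ * σ = 1) (h1 : σ ≠ 1) :
    (Perm.sign σ = -1 ∧ ¬ ∃ k j, k ≠ j ∧ ∀ x, σ x = x ↔ x = k ∨ x = j) ∨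
      ∃ π : Perm (Fin 6), ∀ x, σ (π x) = π (P0123 x) := by
  have hσσ : ∀ a, σ (σ a) = a := fun a => by rw [← Perm.mul_apply, hσ, Perm.one_apply]
  obtain ⟨a, ha⟩ : ∃ a, σ a ≠ a := by
    by_contra hh
    push Not at hh
    exact h1 (Perm.ext hh)
  by_cases h : ∀ x, x ≠ a → x ≠ σ a → σ x = x
  · left
    have e : σ = swap a (σ a) := by
      ext x
      by_cases hx : x = a
      · subst hx; simp
      by_cases hx' : x = σ a
      · subst hx'; simp [hσσ]
      rw [swap_apply_of_ne_of_ne hx hx', h x hx hx']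
    refine ⟨by rw [e, Perm.sign_swap ha.symm], ?_⟩
    rintro ⟨k, j, _, hkj⟩
    obtain ⟨x, hx1, hx2, hx3, hx4⟩ := (by decide : ∀ a b k j : Fin 6,
      ∃ x, x ≠ a ∧ x ≠ b ∧ x ≠ k ∧ x ≠ j) a (σ a) k j
    rcases (hkj x).mp (h x hx1 hx2) with r | r
    · exact hx3 r
    · exact hx4 r
  push Not at h
  obtain ⟨b, hba, hba', hb⟩ := h
  have hb1 : σ b ≠ a := fun hh => hba' (by rw [← hh, hσσ])
  have hb2 : σ b ≠ σ a := fun hh => hba (σ.injective hh)
  have hcard : ({a, σ a, b, σ b} : Finset (Fin 6))ᶜ.card = 2 := by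
    rw [Finset.card_compl, Finset.card_insert_of_notMem, Finset.card_insert_of_notMem,
      Finset.card_insert_of_notMem, Finset.card_singleton]
    · rfl
    · simpa using Ne.symm hb
    · simp [hba'.symm, hb2.symm]
    · simp [ha.symm, hba.symm, hb1.symm]
  obtain ⟨c, d, hcd, hS⟩ := Finset.card_eq_two.mp hcard
  have hmem : ∀ x, (x ≠ a ∧ x ≠ σ a ∧ x ≠ b ∧ x ≠ σ b) ↔ (x = c ∨ x = d) := fun x => by
    have := Finset.ext_iff.mp hS x
    simpa [not_or] using this
  obtain ⟨hca, hca', hcb, hcb'⟩ := (hmem c).mpr (Or.inl rfl)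
  obtain ⟨hda, hda', hdb, hdb'⟩ := (hmem d).mpr (Or.inr rfl)
  have hcσ : σ c = c ∨ σ c = d := (hmem (σ c)).mp
    ⟨fun hh => hca' (by rw [← hh, hσσ]), fun hh => hca (σ.injective hh),
      fun hh => hcb' (by rw [← hh, hσσ]), fun hh => hcb (σ.injective hh)⟩
  rcases hcσ with hc | hc
  · right
    have hd : σ d = d := by
      rcases (hmem (σ d)).mp ⟨fun hh => hda' (by rw [← hh, hσσ]),
        fun hh => hda (σ.injective hh), fun hh => hdb' (by rw [← hh, hσσ]),
        fun hh => hdb (σ.injective hh)⟩ with r | r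
      · exact absurd (σ.injective (r.trans hc.symm)) hcd.symm
      · exact r
    have hinj : Function.Injective ![a, σ a, b, σ b, c, d] := by
      intro x y
      have := ha.symm; have := hba.symm; have := hb1.symm; have := hba'.symm
      have := hb2.symm; have := Ne.symm hb; have := hca.symm; have := hda.symm
      have := hca'.symm; have := hda'.symm; have := hcb.symm; have := hdb.symm
      have := hcb'.symm; have := hdb'.symm; have := hcd.symm
      fin_cases x <;> fin_cases y <;> simp_all
    refine ⟨Equiv.ofBijective _ ((Fintype.bijective_iff_injective_and_card _).mpr ⟨hinj, rfl⟩),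
      fun x => ?_⟩
    fin_cases x <;> simp [P0123, Equiv.ofBijective_apply, hσσ, hc, hd]
  · left
    have e : σ = swap a (σ a) * (swap b (σ b) * swap c d) := by
      ext x
      by_cases hxc : x = c
      · subst hxc
        simp [hc, swap_apply_of_ne_of_ne hdb hdb', swap_apply_of_ne_of_ne hda hda']
      by_cases hxd : x = d
      · subst hxd
        simp [swap_apply_of_ne_of_ne hcb hcb', swap_apply_of_ne_of_ne hca hca', ← hc, hσσ]
      rw [Perm.mul_apply, Perm.mul_apply, swap_apply_of_ne_of_ne hxc hxd]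
      by_cases hxb : x = b
      · subst hxb
        simp [swap_apply_of_ne_of_ne hb1 hb2]
      by_cases hxb' : x = σ b
      · subst hxb'
        simp [hσσ, swap_apply_of_ne_of_ne hba hba']
      rw [swap_apply_of_ne_of_ne hxb hxb']
      by_cases hxa : x = a
      · subst hxa; simp
      by_cases hxa' : x = σ a
      · subst hxa'; simp [hσσ]
      exact absurd ((hmem x).mp ⟨hxa, hxa', hxb, hxb'⟩) (by simp [hxc, hxd])
    refine ⟨by rw [e, Perm.sign_mul, Perm.sign_mul, Perm.sign_swap ha.symm,
      Perm.sign_swap (Ne.symm hb), Perm.sign_swap hcd]; rfl, ?_⟩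
    rintro ⟨k, j, _, hkj⟩
    have hk := (hkj k).mpr (Or.inl rfl)
    by_cases hka : k = a
    · exact ha (hka ▸ hk)
    by_cases hka' : k = σ a
    · rw [hka', hσσ] at hk; exact ha hk.symm
    by_cases hkb : k = b
    · exact hb (hkb ▸ hk)
    by_cases hkb' : k = σ b
    · rw [hkb', hσσ] at hk; exact hb hk.symm
    rcases (hmem k).mp ⟨hka, hka', hkb, hkb'⟩ with r | r
    · rw [r, hc] at hk; exact hcd hk.symm
    · rw [r, ← hc, hσσ, hc] at hk; exact hcd hk

namespace Six

variable {H : Submonoid (Matrix (Fin 6) (Fin 6) F)} (hS : Six H)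
include hS

/-- The centraliser of a diagonal element with two signs is monomial. -/
lemma comm_dl {h : Matrix (Fin 6) (Fin 6) F} (hh : h ∈ H) {a b : Fin 6} (hab : a ≠ b)
    (hc : h * dl a b = dl a b * h) : Mon h := by
  refine hS.two_point hh hab (c := a) fun i hia hib => ?_
  have h1 : h *ᵥ (dl a b *ᵥ Pi.single a 1) = dl a b *ᵥ (h *ᵥ Pi.single a 1) := by
    rw [Matrix.mulVec_mulVec, hc, ← Matrix.mulVec_mulVec]
  have h3 : dl a b *ᵥ (Pi.single a 1 : Fin 6 → F) = Pi.single a (-1) := by
    funext j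
    rw [dl_mulVec]
    by_cases hj : j = a
    · subst hj; simp
    · simp [hj]
  have h4 := congrFun h1 i
  rw [h3, mulVec_single', mulVec_single', dl_mulVec, if_neg (by simp [hia, hib])] at h4
  simp at h4
  have : (2 : F) * h i a = 0 := by linear_combination -h4
  simpa [hS.h2] using this

/-- Normal form of an involution all of whose fixed points carry the sign `+`. -/
lemma normal_form {σ : Perm (Fin 6)} {s : Fin 6 → Bool} (hz : sp σ s ∈ H)
    (hzz : (sp σ s : Matrix (Fin 6) (Fin 6) F) * sp σ s = 1)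
    (hz1 : (sp σ s : Matrix (Fin 6) (Fin 6) F) ≠ 1) (hf : ∀ a, σ a = a → s a = false) :
    ∃ π r, pull π r (sp σ s : Matrix (Fin 6) (Fin 6) F) = b0 := by
  obtain ⟨hσ, hs⟩ := sp_involution hS.h2 hzz
  have hσσ : ∀ a, σ (σ a) = a := fun a => by rw [← Perm.mul_apply, hσ, Perm.one_apply]
  have hsign := hS.parity hz
  rw [par_of_fixed hσ hs hf, mul_one] at hsign
  have hσ1 : σ ≠ 1 := by
    intro h
    apply hz1
    rw [show s = fun _ => false from funext fun a => hf a (by simp [h]), h, sp_one]
  rcases shape hσ hσ1 with ⟨h, _⟩ | ⟨π, hπ⟩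
  · rw [hsign] at h; exact absurd h (by decide)
  refine ⟨π, ![false, s (π 0), false, s (π 2), false, false],
    pull_sp π σ P0123 _ _ _ hπ fun a => ?_⟩
  have e1 : s (π 1) = s (π 0) := by rw [show π 1 = σ (π 0) from (hπ 0).symm, hs]
  have e3 : s (π 3) = s (π 2) := by rw [show π 3 = σ (π 2) from (hπ 2).symm, hs]
  have e4 : s (π 4) = false := hf _ (hπ 4)
  have e5 : s (π 5) = false := hf _ (hπ 5)
  fin_cases a <;> simp [P0123, e1, e3, e4, e5]

lemma involution_mem_b0 : (b0 : Matrix (Fin 6) (Fin 6) F) ∈ H :=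
  hS.mon_mem _ _ sign_P0123 par_false

lemma P0_aux {g : Matrix (Fin 6) (Fin 6) F} (hg : g ∈ H) {c d : Fin 6} (hcd : c ≠ d)
    (hb : g * dl c d * gᵀ = b0) {i : Fin 6} (hi4 : g 4 i ≠ 0) (hi2 : g 2 i = 0) : Mon g := by
  by_contra hm
  have h2 := hS.h2
  have hbg : b0 * g = g * dl c d := by
    rw [← hb, Matrix.mul_assoc, hS.orth g hg, Matrix.mul_one]
  have hcol : ∀ l, b0 *ᵥ col g l = (if l = c ∨ l = d then (-1 : F) else 1) • col g l := by
    intro l
    rw [← col_mul, hbg, col_mul]
    rw [dl, col_sp, mulVec_single', Perm.one_apply]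
    by_cases h : l = c ∨ l = d <;> simp [h]
  have hneg : ∀ l, l = c ∨ l = d →
      g 1 l = -g 0 l ∧ g 3 l = -g 2 l ∧ g 4 l = 0 ∧ g 5 l = 0 := by
    intro l hl
    have h := hcol l
    rw [if_pos hl, b0] at h
    have h0 := congrFun h 0
    have h2' := congrFun h 2
    have h4 := congrFun h 4
    have h5 := congrFun h 5
    simp [sp_mulVec, P0123] at h0 h2' h4 h5
    refine ⟨h0, h2', ?_, ?_⟩
    · have : (2 : F) * g 4 l = 0 := by linear_combination h4
      simpa [h2] using this
    · have : (2 : F) * g 5 l = 0 := by linear_combination h5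
      simpa [h2] using this
  have hnot : ¬ (i = c ∨ i = d) := fun h => hi4 (hneg i h).2.2.1
  have hic : i ≠ c := fun h => hnot (Or.inl h)
  have hid : i ≠ d := fun h => hnot (Or.inr h)
  have hw0 : g 1 i = g 0 i ∧ g 3 i = g 2 i := by
    have h := hcol i
    rw [if_neg hnot, one_smul, b0] at h
    have h0 := congrFun h 0
    have h2' := congrFun h 2
    simp [sp_mulVec, P0123] at h0 h2'
    exact ⟨h0, h2'⟩
  -- elements commuting with `b0` normalise
  have hcent : ∀ q ∈ H, q * b0 = b0 * q → Mon (gᵀ * q * g) := by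
    intro q hq hqb
    refine hS.comm_dl (hS.conj_mem' hg hq) hcd ?_
    have e : dl c d = gᵀ * b0 * g := by
      rw [Matrix.mul_assoc, hbg, ← Matrix.mul_assoc, hS.orth g hg, Matrix.one_mul]
    rw [e]
    have ho := hS.orth' hg
    calc gᵀ * q * g * (gᵀ * b0 * g) = gᵀ * q * (g * gᵀ) * b0 * g := by
          simp only [Matrix.mul_assoc]
      _ = gᵀ * b0 * (g * gᵀ) * q * g := by
          rw [ho, Matrix.mul_one, Matrix.mul_one, Matrix.mul_assoc gᵀ q, hqb,
            ← Matrix.mul_assoc gᵀ b0]
      _ = gᵀ * b0 * g * (gᵀ * q * g) := by simp only [Matrix.mul_assoc]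
  have hq1 : sp P0145 (fun _ => false) ∈ H := hS.mon_mem _ _ sign_P0145 par_false
  have hq1b : (sp P0145 (fun _ => false) : Matrix (Fin 6) (Fin 6) F) * b0
      = b0 * sp P0145 (fun _ => false) := by
    rw [b0, sp_mul, sp_mul, show P0145 * P0123 = P0123 * P0145 by decide]
  -- the two negated columns
  have hlam : ∀ l, l = c ∨ l = d →
      4 * (g 0 l * g 0 l) = 1 ∧ 4 * (g 2 l * g 2 l) = 1 := by
    intro l hl
    obtain ⟨e1, e3, e4, e5⟩ := hneg l hl
    have hn := dot_col_of_orth (hS.orth g hg) l l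
    simp [dotProduct, Fin.sum_univ_six, e1, e3, e4, e5] at hn
    have hl0 : g 0 l ≠ 0 := fun h0 => hm <| hS.two_point hg (c := l)
      (show (2 : Fin 6) ≠ 3 by decide) fun k k2 k3 => by
        fin_cases k <;> simp_all
    have hl2 : g 2 l ≠ 0 := fun h0 => hm <| hS.two_point hg (c := l)
      (show (0 : Fin 6) ≠ 1 by decide) fun k k2 k3 => by
        fin_cases k <;> simp_all
    rcases hS.oe hg hq1 (hcent _ hq1 hq1b) l with h | h | h
    · have := congrFun h 0
      simp [sp_mulVec, P0145, e1] at this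
      have h' : (2 : F) * g 0 l = 0 := by linear_combination -this
      exact absurd ((mul_eq_zero.mp h').resolve_left h2) hl0
    · have := congrFun h 2
      simp [sp_mulVec, P0145] at this
      have h' : (2 : F) * g 2 l = 0 := by linear_combination this
      exact absurd ((mul_eq_zero.mp h').resolve_left h2) hl2
    · simp [dotProduct, Fin.sum_univ_six, sp_mulVec, P0145, e1, e3, e4, e5] at h
      constructor
      · linear_combination hn - h
      · linear_combination hn + h
  obtain ⟨hu1, hu3, hu4, hu5⟩ := hneg c (Or.inl rfl)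
  obtain ⟨hv1, hv3, hv4, hv5⟩ := hneg d (Or.inr rfl)
  obtain ⟨hA, hB⟩ := hlam c (Or.inl rfl)
  obtain ⟨hA', hB'⟩ := hlam d (Or.inr rfl)
  have huv : g 0 c * g 0 d + g 2 c * g 2 d = 0 := by
    have h := dot_col_of_orth (hS.orth g hg) c d
    simp [dotProduct, Fin.sum_univ_six, hu1, hu3, hu4, hu5, hv1, hv3, hv4, hv5, hcd] at h
    have h' : (2 : F) * (g 0 c * g 0 d + g 2 c * g 2 d) = 0 := by linear_combination h
    exact (mul_eq_zero.mp h').resolve_left h2
  -- the column `i`
  obtain ⟨hw1, hw3⟩ := hw0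
  rw [hi2] at hw3
  have hnw : 2 * (g 0 i * g 0 i) + (g 4 i * g 4 i + g 5 i * g 5 i) = 1 := by
    have h := dot_col_of_orth (hS.orth g hg) i i
    simp [dotProduct, Fin.sum_univ_six, hw1, hw3, hi2] at h
    linear_combination h
  have hd45 : (dl 4 5 : Matrix (Fin 6) (Fin 6) F) ∈ H := hS.dl_mem (by decide)
  have hd45b : (dl 4 5 : Matrix (Fin 6) (Fin 6) F) * b0 = b0 * dl 4 5 := by
    rw [dl, b0, sp_mul, sp_mul, one_mul, mul_one]
    congr 1
    funext a
    fin_cases a <;> simp [P0123]
  have hM45 := hcent _ hd45 hd45b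
  have hd : 2 * (g 0 i * g 0 i) - (g 4 i * g 4 i + g 5 i * g 5 i) = 0 := by
    rcases hS.oe hg hd45 hM45 i with h | h | h
    · have := congrFun h 4
      simp [dl_mulVec] at this
      have h' : (2 : F) * g 4 i = 0 := by linear_combination -this
      exact absurd ((mul_eq_zero.mp h').resolve_left h2) hi4
    · refine absurd (hS.two_point hg (c := i) (show (4 : Fin 6) ≠ 5 by decide) fun k k4 k5 => ?_)
        hm
      have := congrFun h k
      simp [dl_mulVec, k4, k5] at this
      have h' : (2 : F) * g k i = 0 := by linear_combination this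
      exact (mul_eq_zero.mp h').resolve_left h2
    · simp [dotProduct, Fin.sum_univ_six, dl_mulVec, hw1, hw3, hi2] at h
      linear_combination h
  have ha2 : 4 * (g 0 i * g 0 i) = 1 := by linear_combination hnw + hd
  have ha0 : g 0 i ≠ 0 := fun h0 => by simp [h0] at ha2
  have hsum : g 5 i = g 4 i ∨ g 5 i = -g 4 i := by
    rcases hS.oe hg hq1 (hcent _ hq1 hq1b) i with h | h | h
    · have := congrFun h 4
      simp [sp_mulVec, P0145] at this
      exact Or.inl this
    · have := congrFun h 0
      simp [sp_mulVec, P0145, hw1] at this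
      have h' : (2 : F) * g 0 i = 0 := by linear_combination this
      exact absurd ((mul_eq_zero.mp h').resolve_left h2) ha0
    · simp [dotProduct, Fin.sum_univ_six, sp_mulVec, P0145, hw1, hw3, hi2] at h
      right
      have : (g 5 i + g 4 i) * (g 5 i + g 4 i) = 0 := by linear_combination h - hd
      linear_combination mul_self_eq_zero.mp this
  have hcc : 4 * (g 4 i * g 4 i) = 1 := by
    rcases hsum with e | e <;> rw [e] at hd <;>
      linear_combination ha2 - (2 : F) * hd
  -- the partner of column `i`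
  obtain ⟨σ, s, hs⟩ := hM45.exists_sp (hS.orth _ (hS.conj_mem' hg hd45))
  have hqi : dl 4 5 *ᵥ col g i = (sgn (s i) : F) • col g (σ i) := conj_col (hS.orth' hg) hs i
  set η : F := sgn (s i) with hη
  have hηη : η * η = 1 := sgn_mul_self _
  set j := σ i with hj
  have hji : ∀ k, g k j = η * (if k = 4 ∨ k = 5 then -g k i else g k i) := by
    intro k
    have h := congrFun hqi k
    rw [dl_mulVec, Pi.smul_apply, smul_eq_mul, col_apply, col_apply] at h
    rw [h, ← mul_assoc, hηη, one_mul]
  have hη0 : η ≠ 0 := sgn_ne_zero _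
  have hj4 : g 4 j = -(η * g 4 i) := by rw [hji]; simp
  have hj0 : g 0 j = η * g 0 i := by rw [hji]; simp
  have hj2 : g 2 j = 0 := by rw [hji]; simp [hi2]
  have hji' : j ≠ i := by
    intro h
    rw [h] at hj4 hj0
    have e : η = 1 := by
      have : (η - 1) * g 0 i = 0 := by linear_combination -hj0
      linear_combination (mul_eq_zero.mp this).resolve_right ha0
    rw [e] at hj4
    exact hi4 ((mul_eq_zero.mp (show (2 : F) * g 4 i = 0 by linear_combination hj4)).resolve_left h2)
  have hjne : ∀ l, l = c ∨ l = d → j ≠ l := by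
    intro l hl h
    rw [h, (hneg l hl).2.2.1] at hj4
    exact mul_ne_zero hη0 hi4 (by linear_combination hj4)
  have hjc := hjne c (Or.inl rfl)
  have hjd := hjne d (Or.inr rfl)
  -- signs
  have hex : ∀ a l : F, 4 * (l * l) = 1 → 4 * (a * a) = 1 →
      ∃ b : Bool, (sgn b : F) * l = a := by
    intro a l h1 h3
    have : (a - l) * (a + l) = 0 := by
      have h4 : (4 : F) * ((a - l) * (a + l)) = 0 := by linear_combination h3 - h1
      rcases mul_eq_zero.mp h4 with h | h
      · exact absurd (mul_self_eq_zero.mp (show (2 : F) * 2 = 0 by linear_combination h)) h2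
      · exact h
    rcases mul_eq_zero.mp this with h | h
    · exact ⟨false, by rw [sgn_false]; linear_combination -h⟩
    · exact ⟨true, by rw [sgn_true]; linear_combination -h⟩
  obtain ⟨b1, hb1⟩ := hex (g 0 i) (g 0 c) hA ha2
  obtain ⟨b2, hb2⟩ := hex (g 0 j) (g 0 d) hA' (by
    rw [hj0]; linear_combination (η * η) * ha2 + hηη)
  set τ := swap c i * swap d j with hτ
  set t : Fin 6 → Bool := fun a =>
    xor (decide ((a = c ∨ a = i) ∧ b1 = true)) (decide ((a = d ∨ a = j) ∧ b2 = true)) with ht
  have hpar : ∀ (x y : Fin 6) (b : Bool), x ≠ y →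
      par (fun a => decide ((a = x ∨ a = y) ∧ b = true)) = 1 := by
    intro x y b hxy
    cases b
    · simpa using par_false
    · simpa using par_pair hxy
  have hpt : par t = 1 := by
    rw [ht, par_xor, hpar _ _ _ hic.symm, hpar _ _ _ hjd.symm, mul_one]
  have hq' : sp τ t ∈ H := hS.mon_mem _ _ (swap_mul_swap_sign hic.symm hjd.symm) hpt
  have hτc : τ c = i := by simp [hτ, swap_apply_of_ne_of_ne hcd hjc.symm]
  have hτi : τ i = c := by simp [hτ, swap_apply_of_ne_of_ne hid hji'.symm]
  have hτd : τ d = j := by simp [hτ, swap_apply_of_ne_of_ne hjc hji']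
  have hτj : τ j = d := by simp [hτ, swap_apply_of_ne_of_ne hcd.symm hid.symm]
  set x := g * sp τ t * gᵀ with hx
  have hxg : ∀ l, x *ᵥ col g l = (sgn (t l) : F) • col g (τ l) := by
    intro l
    have : x * g = g * sp τ t := by
      rw [hx, Matrix.mul_assoc, hS.orth g hg, Matrix.mul_one]
    rw [← col_mul, this, col_mul, col_sp, mulVec_single']
  have htc : (sgn (t c) : F) = sgn b1 := by
    rw [ht]; cases b1 <;> simp [hcd, hjc.symm]
  have hti : (sgn (t i) : F) = sgn b1 := by
    rw [ht]; cases b1 <;> simp [hid, hji'.symm]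
  have htd : (sgn (t d) : F) = sgn b2 := by
    rw [ht]; cases b2 <;> simp [hcd.symm, hid.symm]
  have htj : (sgn (t j) : F) = sgn b2 := by
    rw [ht]; cases b2 <;> simp [hjc, hji']
  have hxk : ∀ k m, x m k - (if m = k then 1 else 0) =
      g k c * (sgn b1 * g m i - g m c) + g k i * (sgn b1 * g m c - g m i) +
      (g k d * (sgn b2 * g m j - g m d) + g k j * (sgn b2 * g m d - g m j)) := by
    intro k m
    have h1 := congrFun (hS.expand hg x k) m
    rw [col_apply, Finset.sum_apply] at h1
    rw [h1, ← hS.row_sum hg m k, ← Finset.sum_sub_distrib,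
      ← Finset.sum_subset (Finset.subset_univ ({c, i, d, j} : Finset (Fin 6)))]
    · rw [Finset.sum_insert, Finset.sum_insert, Finset.sum_pair hjd.symm]
      · simp only [Pi.smul_apply, smul_eq_mul, hxg, hτc, hτi, hτd, hτj, htc, hti, htd, htj,
          col_apply]
        ring
      · simp [hid, hji'.symm]
      · simp [hic.symm, hcd, hjc.symm]
    · intro l _ hl
      simp only [Finset.mem_insert, Finset.mem_singleton, not_or] at hl
      obtain ⟨l1, l2, l3, l4⟩ := hl
      have : τ l = l := by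
        simp [hτ, swap_apply_of_ne_of_ne l3 l4, swap_apply_of_ne_of_ne l1 l2]
      have t' : (sgn (t l) : F) = 1 := by rw [ht]; simp [l1, l2, l3, l4]
      simp only [Pi.smul_apply, smul_eq_mul, hxg, this, t', col_apply]
      ring
  have e1 : (sgn b1 : F) * sgn b1 = 1 := sgn_mul_self _
  have e2 : (sgn b2 : F) * sgn b2 = 1 := sgn_mul_self _
  have hi0c : (sgn b1 : F) * g 0 i = g 0 c := by
    rw [← hb1, ← mul_assoc, e1, one_mul]
  have hj0d : (sgn b2 : F) * g 0 j = g 0 d := by
    rw [← hb2, ← mul_assoc, e2, one_mul]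
  -- the first column is fixed
  have hxm : Mon x := by
    refine hS.stab _ (hS.conj_mem hg hq') 0 fun m hm0 => ?_
    have h := hxk 0 m
    rw [if_neg hm0, sub_zero] at h
    rw [h]
    linear_combination g m i * hb1 + g m c * hi0c + g m j * hb2 + g m d * hj0d
  -- the third column has two non-zero entries
  have hx22 : x 2 2 ≠ 0 := by
    have h := hxk 2 2
    rw [if_pos rfl, hi2, hj2] at h
    intro h0
    rw [h0] at h
    have h' : (2 : F) = 0 := by linear_combination (-4 : F) * h + hB + hB'
    exact h2 h'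
  have hx42 : x 4 2 ≠ 0 := by
    have h := hxk 2 4
    rw [if_neg (by decide), sub_zero, hi2, hj2, hu4, hv4, hj4] at h
    intro h0
    rw [h0] at h
    -- multiply by the first coordinates
    have h' : (2 : F) * (g 4 i * g 0 i * g 0 d * g 2 c) = 0 := by
      have k1 : (sgn b1 : F) * (g 0 c * g 0 d * g 4 i * g 2 c) = g 0 i * g 0 d * g 4 i * g 2 c := by
        rw [← hb1]; ring
      have k2 : (sgn b2 : F) * η * (g 0 c * g 0 d * g 4 i * g 2 d)
          = g 0 i * g 0 c * g 4 i * g 2 d := by
        have : g 0 i = η * g 0 j := by rw [hj0, ← mul_assoc, hηη, one_mul]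
        rw [this, ← hb2]; ring
      have k3 : g 0 c * g 2 d = -(g 0 d * g 2 c) := by
        have : g 0 c * (g 0 c * g 2 d + g 0 d * g 2 c) = 0 := by
          have k4 : g 0 c * g 0 c = g 2 c * g 2 c := by
            have h4 : (4 : F) * (g 0 c * g 0 c - g 2 c * g 2 c) = 0 := by
              linear_combination hA - hB
            rcases mul_eq_zero.mp h4 with r | r
            · exact absurd (mul_self_eq_zero.mp (show (2 : F) * 2 = 0 by linear_combination r)) h2
            · linear_combination r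
          linear_combination g 2 c * huv + g 2 d * k4
        rcases mul_eq_zero.mp this with r | r
        · rw [r] at hA; simp at hA
        · linear_combination r
      linear_combination (-(g 0 c * g 0 d)) * h - k1 + k2 + (g 0 i * g 4 i) * k3
    refine mul_ne_zero h2 (mul_ne_zero (mul_ne_zero (mul_ne_zero hi4 ha0) ?_) ?_) h'
    · intro r; rw [r] at hA'; simp at hA'
    · intro r; rw [r] at hB; simp at hB
  exact hx42 (hxm.eq_zero_of_ne_zero (by decide) hx22)


lemma P0_b0 {g : Matrix (Fin 6) (Fin 6) F} (hg : g ∈ H) {c d : Fin 6} (hcd : c ≠ d)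
    (hb : g * dl c d * gᵀ = b0) : Mon g := by
  by_contra hm
  have h2 := hS.h2
  have hbg : b0 * g = g * dl c d := by
    rw [← hb, Matrix.mul_assoc, hS.orth g hg, Matrix.mul_one]
  obtain ⟨i, hi4⟩ : ∃ i, g 4 i ≠ 0 := by
    by_contra hh
    push Not at hh
    have h := hS.row_sum hg 4 4
    simp [hh] at h
  have hnot : ¬ (i = c ∨ i = d) := by
    intro hl
    have h : b0 *ᵥ col g i = g *ᵥ col (dl c d : Matrix (Fin 6) (Fin 6) F) i := by
      rw [← col_mul, hbg, col_mul]
    rw [dl, col_sp, mulVec_single', b0] at h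
    have h4 := congrFun h 4
    simp [sp_mulVec, P0123, hl] at h4
    exact hi4 ((mul_eq_zero.mp (show (2 : F) * g 4 i = 0 by linear_combination h4)).resolve_left h2)
  have hw : g 1 i = g 0 i ∧ g 3 i = g 2 i := by
    have h : b0 *ᵥ col g i = g *ᵥ col (dl c d : Matrix (Fin 6) (Fin 6) F) i := by
      rw [← col_mul, hbg, col_mul]
    rw [dl, col_sp, mulVec_single', b0] at h
    have h0 := congrFun h 0
    have h2' := congrFun h 2
    simp [sp_mulVec, P0123, hnot] at h0 h2'
    exact ⟨h0, h2'⟩
  obtain ⟨hw1, hw3⟩ := hw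
  have hdl : ∀ a b : Fin 6, (a = 0 ∧ b = 1) ∨ (a = 4 ∧ b = 5) →
      Mon (gᵀ * dl a b * g) := by
    intro a b hab
    have hne : a ≠ b := by rcases hab with ⟨rfl, rfl⟩ | ⟨rfl, rfl⟩ <;> decide
    refine hS.comm_dl (hS.conj_mem' hg (hS.dl_mem hne)) hcd ?_
    have e : dl c d = gᵀ * b0 * g := by
      rw [Matrix.mul_assoc, hbg, ← Matrix.mul_assoc, hS.orth g hg, Matrix.one_mul]
    have hqb : (dl a b : Matrix (Fin 6) (Fin 6) F) * b0 = b0 * dl a b := by
      rw [dl, b0, sp_mul, sp_mul, one_mul, mul_one]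
      congr 1
      funext x
      rcases hab with ⟨rfl, rfl⟩ | ⟨rfl, rfl⟩ <;> fin_cases x <;> simp [P0123]
    rw [e]
    have ho := hS.orth' hg
    calc gᵀ * dl a b * g * (gᵀ * b0 * g) = gᵀ * dl a b * (g * gᵀ) * b0 * g := by
          simp only [Matrix.mul_assoc]
      _ = gᵀ * b0 * (g * gᵀ) * dl a b * g := by
          rw [ho, Matrix.mul_one, Matrix.mul_one, Matrix.mul_assoc gᵀ (dl a b), hqb,
            ← Matrix.mul_assoc gᵀ b0]
      _ = gᵀ * b0 * g * (gᵀ * dl a b * g) := by simp only [Matrix.mul_assoc]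
  have hn := dot_col_of_orth (hS.orth g hg) i i
  simp [dotProduct, Fin.sum_univ_six, hw1, hw3] at hn
  have hd : 2 * (g 0 i * g 0 i) + 2 * (g 2 i * g 2 i)
      - (g 4 i * g 4 i + g 5 i * g 5 i) = 0 := by
    rcases hS.oe hg (hS.dl_mem (show (4 : Fin 6) ≠ 5 by decide)) (hdl 4 5 (Or.inr ⟨rfl, rfl⟩)) i
      with h | h | h
    · have := congrFun h 4
      simp [dl_mulVec] at this
      exact absurd ((mul_eq_zero.mp
        (show (2 : F) * g 4 i = 0 by linear_combination -this)).resolve_left h2) hi4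
    · refine absurd (hS.two_point hg (c := i) (show (4 : Fin 6) ≠ 5 by decide) fun k k4 k5 => ?_)
        hm
      have := congrFun h k
      simp [dl_mulVec, k4, k5] at this
      exact (mul_eq_zero.mp
        (show (2 : F) * g k i = 0 by linear_combination this)).resolve_left h2
    · simp [dotProduct, Fin.sum_univ_six, dl_mulVec, hw1, hw3] at h
      linear_combination h
  have hzero : g 2 i = 0 ∨ g 0 i = 0 := by
    rcases hS.oe hg (hS.dl_mem (show (0 : Fin 6) ≠ 1 by decide)) (hdl 0 1 (Or.inl ⟨rfl, rfl⟩)) i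
      with h | h | h
    · have := congrFun h 0
      simp [dl_mulVec] at this
      exact Or.inr ((mul_eq_zero.mp
        (show (2 : F) * g 0 i = 0 by linear_combination -this)).resolve_left h2)
    · have := congrFun h 4
      simp [dl_mulVec] at this
      exact absurd ((mul_eq_zero.mp
        (show (2 : F) * g 4 i = 0 by linear_combination this)).resolve_left h2) hi4
    · simp [dotProduct, Fin.sum_univ_six, dl_mulVec, hw1, hw3] at h
      have : (2 : F) * (2 * (g 2 i * g 2 i)) = 0 := by linear_combination h + hd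
      have := (mul_eq_zero.mp ((mul_eq_zero.mp this).resolve_left h2)).resolve_left h2
      exact Or.inl (mul_self_eq_zero.mp this)
  rcases hzero with h | h
  · exact hm (hS.P0_aux hg hcd hb hi4 h)
  · refine hm (Mon.of_pull (π := P0213) (r := fun _ => false) <|
      (hS.cnj_six P0213 fun _ => false).P0_aux (hS.pull_mem hg _ _)
        (c := P0213.symm c) (d := P0213.symm d) (P0213.symm.injective.ne hcd) ?_
        (i := P0213.symm i) ?_ ?_)
    · have e1 : pull P0213 (fun _ => false) (dl c d : Matrix (Fin 6) (Fin 6) F)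
          = dl (P0213.symm c) (P0213.symm d) := by
        refine pull_sp _ _ _ _ _ _ (fun a => rfl) fun a => ?_
        simp [Equiv.eq_symm_apply]
      have e2 : pull P0213 (fun _ => false) (b0 : Matrix (Fin 6) (Fin 6) F) = b0 :=
        pull_sp _ _ _ _ _ _ (by decide) fun a => rfl
      rw [← e1, ← pull_transpose, ← pull_mul, ← pull_mul, hb, e2]
    · rw [pull_apply, Equiv.apply_symm_apply]
      simpa [P0213] using hi4
    · rw [pull_apply, Equiv.apply_symm_apply]
      simpa [P0213] using h

/-- If a conjugate of a diagonal element with two signs is monomial then so is the conjugator. -/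
lemma P0 {g : Matrix (Fin 6) (Fin 6) F} (hg : g ∈ H) {c d : Fin 6} (hcd : c ≠ d)
    (hb : Mon (g * dl c d * gᵀ)) : Mon g := by
  have hz : g * dl c d * gᵀ ∈ H := hS.conj_mem hg (hS.dl_mem hcd)
  obtain ⟨σ, s, hs⟩ := hb.exists_sp (hS.orth _ hz)
  have hzg : sp σ s * g = g * dl c d := by
    rw [← hs, Matrix.mul_assoc, hS.orth g hg, Matrix.mul_one]
  by_cases hf : ∃ k, σ k = k ∧ s k = true
  · obtain ⟨k, hk, hsk⟩ := hf
    suffices h : Mon gᵀ by
      simpa using h.transpose (hS.orth _ (hS.trans_mem g hg))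
    refine hS.two_point (hS.trans_mem g hg) hcd (c := k) fun l hlc hld => ?_
    have h1 := congrFun (congrFun hzg k) l
    have e1 : (sp σ s * g : Matrix (Fin 6) (Fin 6) F) k l = -g k l := by
      rw [Matrix.mul_apply, Finset.sum_eq_single k]
      · simp [sp_apply, hk, hsk]
      · intro b _ hb'
        simp [sp_apply, show ¬ k = σ b from fun h => hb' (σ.injective (h.symm.trans hk.symm))]
      · simp
    have e2 : (g * dl c d : Matrix (Fin 6) (Fin 6) F) k l = g k l := by
      have : col (g * dl c d) l = col g l := by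
        rw [col_mul, dl, col_sp, mulVec_single']
        simp [hlc, hld]
      exact congrFun this k
    rw [e1, e2] at h1
    simpa [hS.h2] using (show (2 : F) * g k l = 0 by linear_combination -h1)
  · push Not at hf
    have hf' : ∀ a, σ a = a → s a = false := fun a ha => by simpa using hf a ha
    have hzz : (g * dl c d * gᵀ) * (g * dl c d * gᵀ) = 1 := by
      calc _ = g * (dl c d * (gᵀ * g) * dl c d) * gᵀ := by simp only [Matrix.mul_assoc]
        _ = 1 := by rw [hS.orth g hg, Matrix.mul_one, dl_sq, Matrix.mul_one, hS.orth' hg]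
    have hz1 : g * dl c d * gᵀ ≠ 1 := by
      intro h
      have h' : (dl c d : Matrix (Fin 6) (Fin 6) F) = 1 := by
        have := congrArg (fun m => gᵀ * m * g) h
        simpa [Matrix.mul_assoc, hS.orth g hg, ← Matrix.mul_assoc gᵀ g] using this
      have := congrFun (congrFun h' c) c
      simp [dl, sp_apply] at this
      exact hS.h2 (by linear_combination -this)
    rw [hs] at hz hzz hz1
    obtain ⟨π, r, hn⟩ := hS.normal_form hz hzz hz1 hf'
    refine Mon.of_pull (π := π) (r := r) <| (hS.cnj_six π r).P0_b0 (hS.pull_mem hg π r)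
      (c := π.symm c) (d := π.symm d) (π.symm.injective.ne hcd) ?_
    have e1 : pull π r (dl c d : Matrix (Fin 6) (Fin 6) F) = dl (π.symm c) (π.symm d) := by
      refine pull_sp _ _ _ _ _ _ (fun a => rfl) fun a => ?_
      simp only [Equiv.eq_symm_apply, Perm.one_apply]
      generalize decide (π a = c ∨ π a = d) = x
      generalize r a = y
      cases x <;> cases y <;> rfl
    rw [← e1, ← pull_transpose, ← pull_mul, ← pull_mul, hs, hn]

/-- A column with two vanishing entries forces a monomial matrix. -/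
lemma two_zeros {g : Matrix (Fin 6) (Fin 6) F} (hg : g ∈ H) {a b c : Fin 6} (hab : a ≠ b)
    (ha : g a c = 0) (hb : g b c = 0) : Mon g := by
  have hM : Mon (gᵀ * dl a b * g) := by
    refine hS.fix_mon hg (hS.dl_mem hab) (c := c) (e := 1) ?_
    rw [one_smul]
    funext k
    rw [dl_mulVec]
    by_cases hk : k = a ∨ k = b
    · rcases hk with rfl | rfl <;> simp [ha, hb]
    · simp [hk]
  have h := hS.P0 (hS.trans_mem g hg) hab (by rwa [Matrix.transpose_transpose])
  simpa using h.transpose (hS.orth _ (hS.trans_mem g hg))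

/-- An element centralising a monomial involution with fixed points of both signs is
monomial. -/
lemma mixed {h : Matrix (Fin 6) (Fin 6) F} (hh : h ∈ H) {σ : Perm (Fin 6)}
    {s : Fin 6 → Bool} (hz : sp σ s ∈ H)
    (hzz : (sp σ s : Matrix (Fin 6) (Fin 6) F) * sp σ s = 1) (hc : h * sp σ s = sp σ s * h)
    {j k : Fin 6} (hj : σ j = j) (hsj : s j = true) (hk : σ k = k) (hsk : s k = false) :
    Mon h := by
  obtain ⟨hσ, hs⟩ := sp_involution hS.h2 hzz
  by_contra hm
  -- fixed points of the two signs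
  have hmix : ∀ k j, σ k = k → σ j = j → s k ≠ s j → h j k = 0 := by
    intro k j hk hj hne
    have h1 : sp σ s *ᵥ col h k = (sgn (s k) : F) • col h k := by
      rw [← col_mul, ← hc, col_mul, col_sp, hk, mulVec_single']
    have h3 := congrFun h1 j
    rw [show (sp σ s *ᵥ col h k) j = (sp σ s *ᵥ col h k) (σ j) by rw [hj], sp_mulVec_apply] at h3
    have h4 : ((sgn (s j) : F) - sgn (s k)) * h j k = 0 := by
      rw [Pi.smul_apply, smul_eq_mul, col_apply] at h3
      linear_combination h3
    refine (mul_eq_zero.mp h4).resolve_left fun e => hne (sgn_inj hS.h2 ?_).symm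
    linear_combination e
  have hkj : k ≠ j := fun e => by rw [e, hsj] at hsk; simp at hsk
  by_cases honly : ∀ x, σ x = x → x = k ∨ x = j
  · have hiff : ∀ x, σ x = x ↔ x = k ∨ x = j :=
      fun x => ⟨honly x, fun e => by rcases e with rfl | rfl <;> assumption⟩
    have hσ1 : σ ≠ 1 := by
      intro e
      obtain ⟨x, hxk, hxj⟩ := (by decide : ∀ k j : Fin 6, ∃ x, x ≠ k ∧ x ≠ j) k j
      rcases honly x (by rw [e]; rfl) with r | r
      · exact hxk r
      · exact hxj r
    rcases shape hσ hσ1 with ⟨_, hno⟩ | ⟨π, hπ⟩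
    · exact hno ⟨k, j, hkj, hiff⟩
    · have hsign : Perm.sign σ = 1 := by
        have : σ = π * P0123 * π⁻¹ := Equiv.ext fun x => by
          have := hπ (π⁻¹ x)
          simpa using this
        rw [this, Perm.sign_mul, Perm.sign_mul, Perm.sign_inv, sign_P0123, mul_one,
          Int.units_mul_self]
      have hpar : par (fun a => xor (s a) (decide (a = j))) = 1 := by
        refine par_of_fixed hσ (fun a => ?_) fun a ha => ?_
        · rw [hs]
          congr 1
          refine decide_eq_decide.mpr ⟨fun e => ?_, fun e => by rw [e, hj]⟩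
          exact σ.injective (e.trans hj.symm)
        · rcases honly a ha with rfl | rfl
          · simp [hsk, hkj]
          · simp [hsj]
      rw [par_xor, (by decide : ∀ j : Fin 6, par (fun a => decide (a = j)) = -1) j] at hpar
      have := hS.parity hz
      rw [hsign, one_mul] at this
      rw [this] at hpar
      simp at hpar
  · push Not at honly
    obtain ⟨x, hx, hxk, hxj⟩ := honly
    refine hm ?_
    cases hsx : s x
    · exact hS.two_zeros hh hxk (hmix j x hj hx (by simp [hsj, hsx]))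
        (hmix j k hj hk (by simp [hsj, hsk]))
    · exact hS.two_zeros hh hxj (hmix k x hk hx (by simp [hsk, hsx]))
        (hmix k j hk hj (by simp [hsj, hsk]))

/-- A non-monomial element centralising a monomial involution can be moved to one
centralising `b0`. -/
lemma reduce {h z : Matrix (Fin 6) (Fin 6) F} (hh : h ∈ H) (hm : ¬ Mon h) (hz : z ∈ H)
    (hzm : Mon z) (hzz : z * z = 1) (hz1 : z ≠ 1) (hz2 : z ≠ -1) (hc : h * z = z * h) :
    ∃ π r, pull π r h * b0 = b0 * pull π r h := by
  obtain ⟨σ, s, rfl⟩ := hzm.exists_sp (hS.orth _ hz)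
  obtain ⟨hσ, hs⟩ := sp_involution hS.h2 hzz
  by_cases hplus : ∀ a, σ a = a → s a = false
  · obtain ⟨π, r, hn⟩ := hS.normal_form hz hzz hz1 hplus
    exact ⟨π, r, by rw [← hn, ← pull_mul, ← pull_mul, hc]⟩
  by_cases hminus : ∀ a, σ a = a → s a = true
  · have hneg : (sp σ (fun a => !s a) : Matrix (Fin 6) (Fin 6) F) = -sp σ s := by
      ext i a
      by_cases hi : i = σ a
      · subst hi; cases e : s a <;> simp [sp_apply, e]
      · simp [sp_apply, hi]
    have hz' : sp σ (fun a => !s a) ∈ H := by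
      rw [hneg, show -(sp σ s : Matrix (Fin 6) (Fin 6) F) = -1 * sp σ s by simp]
      exact H.mul_mem hS.neg_one_mem hz
    obtain ⟨π, r, hn⟩ := hS.normal_form hz' (by rw [hneg, neg_mul_neg, hzz])
      (by rw [hneg]; exact fun e => hz2 (by rw [← e, neg_neg]))
      (fun a ha => by simp [hminus a ha])
    refine ⟨π, r, ?_⟩
    rw [← hn, ← pull_mul, ← pull_mul, hneg, Matrix.mul_neg, Matrix.neg_mul, hc]
  exfalso
  push Not at hplus hminus
  obtain ⟨j, hj, hsj⟩ := hplus
  obtain ⟨k, hk, hsk⟩ := hminus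
  rw [ne_eq, Bool.not_eq_false] at hsj
  rw [ne_eq, Bool.not_eq_true] at hsk
  exact hm (hS.mixed hh hz hzz hc hj hsj hk hsk)

/-- Two non-conjugate involutions centralise a common non-trivial involution. -/
lemma dihedral [Finite F] (K : Submonoid (Matrix (Fin 6) (Fin 6) F)) (hK : K ≤ H)
    {b s : Matrix (Fin 6) (Fin 6) F} (hb : b ∈ K) (hs : s ∈ K) (hbb : b * b = 1)
    (hss : s * s = 1) (hnc : ∀ d ∈ K, s * d ≠ d * b) :
    ∃ m : ℕ, (b * s) ^ m ≠ 1 ∧ (b * s) ^ m * (b * s) ^ m = 1 ∧
      b * (b * s) ^ m = (b * s) ^ m * b ∧ s * (b * s) ^ m = (b * s) ^ m * s := by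
  set a := b * s with ha
  have haK : a ∈ K := K.mul_mem hb hs
  have hbt : ∀ j, a ^ j * b * a ^ j = b := by
    intro j
    induction j with
    | zero => simp
    | succ j ih =>
      calc a ^ (j + 1) * b * a ^ (j + 1) = a ^ j * (a * b * a) * a ^ j := by
            nth_rewrite 2 [pow_succ']
            rw [pow_succ]
            simp only [Matrix.mul_assoc]
        _ = a ^ j * (b * s * b * (b * s)) * a ^ j := rfl
        _ = a ^ j * b * a ^ j := by
            congr 2
            calc b * s * b * (b * s) = b * s * (b * b) * s := by simp only [Matrix.mul_assoc]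
              _ = b * (s * s) := by rw [hbb, Matrix.mul_one, Matrix.mul_assoc]
              _ = b := by rw [hss, Matrix.mul_one]
        _ = b := ih
  have hfin : IsOfFinOrder a := by
    let u : (Matrix (Fin 6) (Fin 6) F)ˣ := ⟨a, aᵀ, hS.orth' (hK haK), hS.orth a (hK haK)⟩
    refine isOfFinOrder_iff_pow_eq_one.mpr ⟨orderOf u, orderOf_pos u, ?_⟩
    have := congrArg Units.val (pow_orderOf_eq_one u)
    rw [Units.val_pow_eq_pow_val, Units.val_one] at this
    exact this
  have hpos : 0 < orderOf a := hfin.orderOf_pos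
  rcases Nat.even_or_odd (orderOf a) with ⟨m, hm⟩ | ⟨m, hm⟩
  · have h1 : a ^ m * a ^ m = 1 := by rw [← pow_add, ← hm, pow_orderOf_eq_one]
    have h0 : a ^ m ≠ 1 := pow_ne_one_of_lt_orderOf (by omega) (by omega)
    have hbm : b * a ^ m = a ^ m * b := by
      calc b * a ^ m = a ^ m * a ^ m * (b * a ^ m) := by rw [h1, Matrix.one_mul]
        _ = a ^ m * (a ^ m * b * a ^ m) := by simp only [Matrix.mul_assoc]
        _ = a ^ m * b := by rw [hbt]
    refine ⟨m, h0, h1, hbm, ?_⟩
    have hs' : s = b * a := by rw [ha, ← Matrix.mul_assoc, hbb, Matrix.one_mul]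
    rw [hs', Matrix.mul_assoc, (Commute.self_pow a m).eq, ← Matrix.mul_assoc, hbm,
      Matrix.mul_assoc]
  · exfalso
    refine hnc (a ^ m * b) (K.mul_mem (pow_mem haK m) hb) ?_
    have h1 : a ^ (m + 1) * a ^ m = 1 := by
      rw [← pow_add, show m + 1 + m = 2 * m + 1 by ring, ← hm, pow_orderOf_eq_one]
    calc s * (a ^ m * b) = b * a ^ (m + 1) * b := by
          rw [pow_succ', show s = b * a by rw [ha, ← Matrix.mul_assoc, hbb, Matrix.one_mul]]
          simp only [Matrix.mul_assoc]
      _ = b * a ^ (m + 1) * b * (a ^ (m + 1) * a ^ m) := by rw [h1, Matrix.mul_one]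
      _ = b * (a ^ (m + 1) * b * a ^ (m + 1)) * a ^ m := by simp only [Matrix.mul_assoc]
      _ = a ^ m * b * b := by
          rw [hbt, hbb, Matrix.one_mul, Matrix.mul_assoc, hbb, Matrix.mul_one]

end Six

end Cfsg.Agent.C6Six
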