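import Cfsg.Agent.C6Six.Axes

/-!
# Every element of the group is monomial
-/

set_option autoImplicit false
set_option maxHeartbeats 1600000
set_option linter.unusedSectionVars false

namespace Cfsg.Agent.C6Six

open Matrix Equiv

variable {F : Type*} [Field F]

/-- `e₀ ↔ ± e₁, e₄ ↔ ± e₅` -/
def zt (b : Bool) : Matrix (Fin 6) (Fin 6) F := sp P0145 ![b, b, false, false, b, b]

lemma two_le_cases : ∀ x : Fin 6, x = 0 ∨ x = 1 ∨ x = 2 ∨ x = 3 ∨ x = 4 ∨ x = 5 := by decide

/-- A linear system with fewer equations than unknowns has a non-zero solution. -/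
lemma exists_ker {n : ℕ} (hn : n < 6) (L : Fin n → Fin 6 → F) :
    ∃ c : Fin 6 → F, c ≠ 0 ∧ ∀ k, L k ⬝ᵥ c = 0 := by
  have h : LinearMap.ker (Matrix.of L).mulVecLin ≠ ⊥ :=
    LinearMap.ker_ne_bot_of_finrank_lt (by simpa using hn)
  obtain ⟨c, hc, hc0⟩ := Submodule.exists_mem_ne_zero_of_ne_bot h
  refine ⟨c, hc0, fun k => ?_⟩
  have := congrFun (LinearMap.mem_ker.mp hc) k
  simpa [Matrix.mulVec] using this

/-- Signs and images of a permutation negating or fixing a difference. -/
lemma sp_signed_df (h2 : (2 : F) ≠ 0) {σ : Perm (Fin 6)} {s : Fin 6 → Bool} {a b : Fin 6}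
    (hab : a ≠ b) {c : Bool} (h : sp σ s *ᵥ df a b = (sgn c : F) • (df a b : Fin 6 → F)) :
    (σ a = a ∧ σ b = b ∧ s a = c ∧ s b = c) ∨
      (σ a = b ∧ σ b = a ∧ s a = (!c) ∧ s b = (!c)) := by
  have h' : sp σ (fun i => xor c (s i)) *ᵥ df a b = (df a b : Fin 6 → F) := by
    funext i
    have e := congrFun h i
    rw [sp_mulVec] at e ⊢
    rw [sgn_xor, mul_assoc, e, Pi.smul_apply, smul_eq_mul, ← mul_assoc, sgn_mul_self, one_mul]
  rcases sp_fix_df h2 hab h' with ⟨e1, e2, e3, e4⟩ | ⟨e1, e2, e3, e4⟩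
  · refine Or.inl ⟨e1, e2, ?_, ?_⟩
    · revert e3; cases c <;> cases s a <;> simp
    · revert e4; cases c <;> cases s b <;> simp
  · refine Or.inr ⟨e1, e2, ?_, ?_⟩
    · revert e3; cases c <;> cases s a <;> simp
    · revert e4; cases c <;> cases s b <;> simp

namespace Six

variable {H : Submonoid (Matrix (Fin 6) (Fin 6) F)} (hS : Six H)
include hS

lemma zt_mem (b : Bool) : (zt b : Matrix (Fin 6) (Fin 6) F) ∈ H :=
  hS.mon_mem _ _ sign_P0145 (by cases b <;> decide)

/-- The reflection pair of the last two columns of an element centralising `b0`. -/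
lemma refl_props {h : Matrix (Fin 6) (Fin 6) F} (hh : h ∈ H) (hb : h * b0 = b0 * h) :
    (∀ l, l = 4 ∨ l = 5 → h 1 l = h 0 l ∧ h 3 l = h 2 l) ∧
      h * dl 4 5 * hᵀ * b0 = b0 * (h * dl 4 5 * hᵀ) ∧
      (h * dl 4 5 * hᵀ) *ᵥ df 0 1 = df 0 1 ∧ (h * dl 4 5 * hᵀ) *ᵥ df 2 3 = df 2 3 := by
  have hl : ∀ l, l = 4 ∨ l = 5 → h 1 l = h 0 l ∧ h 3 l = h 2 l := by
    intro l hl
    have e : b0 *ᵥ col h l = col h l := by
      rw [← col_mul, ← hb, col_mul, b0, col_sp, mulVec_single', sgn_false, one_smul]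
      congr 1
      rcases hl with rfl | rfl <;> rfl
    have e0 := congrFun e 0
    have e2 := congrFun e 2
    simp [b0, sp_mulVec, P0123] at e0 e2
    exact ⟨e0, e2⟩
  refine ⟨hl, ?_, ?_, ?_⟩
  · have hdb : (dl 4 5 : Matrix (Fin 6) (Fin 6) F) * b0 = b0 * dl 4 5 := by
      rw [dl, b0, sp_mul, sp_mul, one_mul, mul_one]
      congr 1
      funext a
      fin_cases a <;> simp [P0123]
    have hbt : hᵀ * b0 = b0 * hᵀ := by
      calc hᵀ * b0 = hᵀ * b0 * (h * hᵀ) := by rw [hS.orth' hh, Matrix.mul_one]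
        _ = hᵀ * (b0 * h) * hᵀ := by simp only [Matrix.mul_assoc]
        _ = b0 * hᵀ := by rw [← hb, ← Matrix.mul_assoc hᵀ, hS.orth h hh, Matrix.one_mul]
    rw [Matrix.mul_assoc _ hᵀ, hbt, ← Matrix.mul_assoc, Matrix.mul_assoc h, hdb,
      ← Matrix.mul_assoc h, hb]
    simp only [Matrix.mul_assoc]
  · rw [hS.conj_dl_mulVec hh (by decide)]
    funext i
    simp [df, dotProduct_single, (hl 4 (Or.inl rfl)).1, (hl 5 (Or.inr rfl)).1]
  · rw [hS.conj_dl_mulVec hh (by decide)]
    funext i
    simp [df, dotProduct_single, (hl 4 (Or.inl rfl)).2, (hl 5 (Or.inr rfl)).2]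

omit hS in
lemma dot6 (x y : Fin 6 → F) :
    x ⬝ᵥ y = x 0 * y 0 + x 1 * y 1 + x 2 * y 2 + x 3 * y 3 + x 4 * y 4 + x 5 * y 5 := by
  simp [dotProduct, Fin.sum_univ_six]

lemma typeI [Finite F] {h : Matrix (Fin 6) (Fin 6) F} (hh : h ∈ H) (hm : ¬ Mon h)
    (hb : h * b0 = b0 * h)
    (hz : h * dl 4 5 * hᵀ * zt false = zt false * (h * dl 4 5 * hᵀ)) : False := by
  obtain ⟨-, hsb, hs1, hs2⟩ := hS.refl_props hh hb
  set s := h * dl 4 5 * hᵀ with hs
  have h2 := hS.h2
  have hsH : s ∈ H := hS.conj_mem hh (hS.dl_mem (by decide))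
  have hsm : ¬ Mon s := fun e => hm (hS.P0 hh (by decide) e)
  set y := s *ᵥ df 4 5 with hy
  have e1 : b0 *ᵥ y = y := by
    rw [hy, Matrix.mulVec_mulVec, ← hsb, ← Matrix.mulVec_mulVec]
    congr 1
    funext i; fin_cases i <;> simp [b0, df_apply, sp_mulVec, P0123]
  have e2 : zt false *ᵥ y = -y := by
    have e : zt false *ᵥ df 4 5 = -(df 4 5 : Fin 6 → F) := by
      funext i; fin_cases i <;> simp [zt, df_apply, sp_mulVec, P0145]
    rw [hy, Matrix.mulVec_mulVec, ← hz, ← Matrix.mulVec_mulVec, e, Matrix.mulVec_neg]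
  have a0 := congrFun e1 0
  have b0' := congrFun e2 0
  have b2 := congrFun e2 2
  have b3 := congrFun e2 3
  have b4 := congrFun e2 4
  simp [b0, sp_mulVec, P0123] at a0
  simp [zt, sp_mulVec, P0145] at b0' b2 b3 b4
  have y0 : y 0 = 0 :=
    (mul_eq_zero.mp (show (2 : F) * y 0 = 0 by linear_combination b0' - a0)).resolve_left h2
  have y1 : y 1 = 0 := a0.trans y0
  have y2 : y 2 = 0 :=
    (mul_eq_zero.mp (show (2 : F) * y 2 = 0 by linear_combination b2)).resolve_left h2
  have y3 : y 3 = 0 :=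
    (mul_eq_zero.mp (show (2 : F) * y 3 = 0 by linear_combination b3)).resolve_left h2
  have hn : y ⬝ᵥ y = (2 : F) := by
    rw [hy, dot_mulVec_of_orth (hS.orth s hsH), dot6]
    simp [df_apply]
    norm_num
  rw [dot6, y0, y1, y2, y3, b4] at hn
  have h4 : (y 4 - 1) * (y 4 + 1) = 0 := by
    refine (mul_eq_zero.mp (show (2 : F) * ((y 4 - 1) * (y 4 + 1)) = 0 by
      linear_combination hn)).resolve_left h2
  have hy5 : y 5 = -y 4 := b4
  rcases mul_eq_zero.mp h4 with e | e
  · refine hsm (hS.axes hsH hs1 hs2 ?_)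
    rw [← hy]
    funext i
    rcases two_le_cases i with rfl | rfl | rfl | rfl | rfl | rfl <;>
      simp [df_apply, y0, y1, y2, y3, hy5, sub_eq_zero.mp e]
  · have hd : (dl 4 5 : Matrix (Fin 6) (Fin 6) F) ∈ H := hS.dl_mem (by decide)
    have f1 : dl 4 5 *ᵥ df 0 1 = (df 0 1 : Fin 6 → F) := by
      funext i; fin_cases i <;> simp [df_apply, dl_mulVec]
    have f2 : dl 4 5 *ᵥ df 2 3 = (df 2 3 : Fin 6 → F) := by
      funext i; fin_cases i <;> simp [df_apply, dl_mulVec]
    have f3 : Mon (dl 4 5 * s) := by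
      refine hS.axes (H.mul_mem hd hsH) ?_ ?_ ?_
      · rw [← Matrix.mulVec_mulVec, hs1, f1]
      · rw [← Matrix.mulVec_mulVec, hs2, f2]
      · rw [← Matrix.mulVec_mulVec, ← hy]
        funext i
        rcases two_le_cases i with rfl | rfl | rfl | rfl | rfl | rfl <;>
          simp [df_apply, dl_mulVec, y0, y1, y2, y3, hy5, eq_neg_of_add_eq_zero_left e]
    refine hsm ?_
    have := (Mon.dl (F := F) 4 5).mul f3
    rwa [← Matrix.mul_assoc, dl_sq, Matrix.one_mul] at this

lemma typeII {h : Matrix (Fin 6) (Fin 6) F} (hh : h ∈ H) (hm : ¬ Mon h) (hb : h * b0 = b0 * h)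
    (hz : h * dl 4 5 * hᵀ * zt true = zt true * (h * dl 4 5 * hᵀ)) : False := by
  obtain ⟨hl, hsb, hs1, hs2⟩ := hS.refl_props hh hb
  set s := h * dl 4 5 * hᵀ with hs
  have h2 := hS.h2
  have hsH : s ∈ H := hS.conj_mem hh (hS.dl_mem (by decide))
  have hsm : ¬ Mon s := fun e => hm (hS.P0 hh (by decide) e)
  obtain ⟨hu1, hu3⟩ := hl 4 (Or.inl rfl)
  have ho := hS.orth' hh
  have hd45 : dl 4 5 = hᵀ * s * h := by
    rw [hs, ← Matrix.mul_assoc, ← Matrix.mul_assoc, hS.orth h hh, Matrix.one_mul,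
      Matrix.mul_assoc, hS.orth h hh, Matrix.mul_one]
  have hMz : Mon (hᵀ * zt true * h) := by
    refine hS.comm_dl (hS.conj_mem' hh (hS.zt_mem true)) (show (4 : Fin 6) ≠ 5 by decide) ?_
    rw [hd45]
    calc hᵀ * zt true * h * (hᵀ * s * h) = hᵀ * zt true * (h * hᵀ) * s * h := by
          simp only [Matrix.mul_assoc]
      _ = hᵀ * s * (h * hᵀ) * zt true * h := by
          rw [ho, Matrix.mul_one, Matrix.mul_one, Matrix.mul_assoc hᵀ (zt true), ← hz,
            ← Matrix.mul_assoc hᵀ s]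
      _ = hᵀ * s * h * (hᵀ * zt true * h) := by simp only [Matrix.mul_assoc]
  obtain ⟨σ, r, hσr⟩ := hMz.exists_sp (hS.orth _ (hS.conj_mem' hh (hS.zt_mem true)))
  have hcomm : (sp σ r : Matrix (Fin 6) (Fin 6) F) * dl 4 5 = dl 4 5 * sp σ r := by
    rw [← hσr, hd45]
    calc hᵀ * zt true * h * (hᵀ * s * h) = hᵀ * zt true * (h * hᵀ) * s * h := by
          simp only [Matrix.mul_assoc]
      _ = hᵀ * s * (h * hᵀ) * zt true * h := by
          rw [ho, Matrix.mul_one, Matrix.mul_one, Matrix.mul_assoc hᵀ (zt true), ← hz,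
            ← Matrix.mul_assoc hᵀ s]
      _ = hᵀ * s * h * (hᵀ * zt true * h) := by simp only [Matrix.mul_assoc]
  rw [dl, sp_mul, sp_mul] at hcomm
  have hσ4 : σ 4 = 4 ∨ σ 4 = 5 := by
    have := congrFun (sp_inj h2 hcomm).2 4
    simp only [Perm.one_apply] at this
    revert this
    generalize σ 4 = x
    generalize r 4 = y
    fin_cases x <;> cases y <;> simp
  have hzu : zt true *ᵥ col h 4 = (sgn (r 4) : F) • col h (σ 4) := conj_col ho hσr 4
  have hzapp : ∀ w : Fin 6 → F, zt true *ᵥ w = ![-w 1, -w 0, w 2, w 3, -w 5, -w 4] := by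
    intro w; funext i; fin_cases i <;> simp [zt, sp_mulVec, P0145]
  have hα : h 0 4 ≠ 0 := fun e => hm (hS.two_zeros hh (show (0 : Fin 6) ≠ 1 by decide) e (hu1 ▸ e))
  have hβ : h 2 4 ≠ 0 := fun e => hm (hS.two_zeros hh (show (2 : Fin 6) ≠ 3 by decide) e (hu3 ▸ e))
  rcases hσ4 with e | e
  · rw [e, hzapp] at hzu
    rcases sgn_cases (F := F) (r 4) with q | q
    · have := congrFun hzu 0
      simp [q, hu1] at this
      exact hα ((mul_eq_zero.mp (show (2 : F) * h 0 4 = 0 by linear_combination -this)).resolve_left h2)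
    · have := congrFun hzu 2
      simp [q] at this
      exact hβ ((mul_eq_zero.mp (show (2 : F) * h 2 4 = 0 by linear_combination this)).resolve_left h2)
  rw [e] at hzu
  set η : F := sgn (r 4) with hη
  have hηη : η * η = 1 := sgn_mul_self _
  have hv : col h 5 = η • (zt true *ᵥ col h 4) := by
    rw [hzu, smul_smul, hηη, one_smul]
  set α := h 0 4 with hαd
  set β := h 2 4 with hβd
  set p := h 4 4 with hp
  set q := h 5 4 with hq
  have hnorm : 2 * (α * α) + 2 * (β * β) + p * p + q * q = 1 := by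
    have := dot_col_of_orth (hS.orth h hh) 4 4
    rw [dot6] at this
    simp [hu1, hu3] at this
    linear_combination this
  have horth : -(2 * (α * α)) + 2 * (β * β) - 2 * (p * q) = 0 := by
    have := dot_col_of_orth (hS.orth h hh) 4 5
    rw [hv, dotProduct_smul, hzapp, dot6] at this
    simp [hu1, hu3, ← hαd, ← hβd, ← hp, ← hq] at this
    rcases this with t | t
    · exact absurd (show η = 0 from t) (sgn_ne_zero _)
    · linear_combination t
  have hA : 4 * (α * α) = 1 - (p + q) * (p + q) := by linear_combination hnorm - horth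
  have hB : 4 * (β * β) = 1 - (p - q) * (p - q) := by linear_combination hnorm + horth
  -- the action of `s`
  have hsf : ∀ (y : Fin 6 → F), s *ᵥ y = y - (2 * (col h 4 ⬝ᵥ y)) • col h 4
      - (2 * ((zt true *ᵥ col h 4) ⬝ᵥ y)) • (zt true *ᵥ col h 4) := by
    intro y
    rw [hs, hS.conj_dl_mulVec hh (by decide), hv, smul_dotProduct, smul_smul, smul_eq_mul]
    congr 2
    linear_combination (2 * ((zt true *ᵥ col h 4) ⬝ᵥ y)) * hηη
  have hsv : ∀ a b c : F, s *ᵥ ![a, a, b, b, c, c] =
      ![a - 4 * α * (2 * α * a + (p + q) * c),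
        a - 4 * α * (2 * α * a + (p + q) * c),
        b - 4 * β * (2 * β * b), b - 4 * β * (2 * β * b),
        c - 2 * (p + q) * (2 * α * a + (p + q) * c) - 2 * (p - q) * (2 * β * b),
        c - 2 * (p + q) * (2 * α * a + (p + q) * c) + 2 * (p - q) * (2 * β * b)] := by
    intro a b c
    rw [hsf]
    funext i
    simp only [Pi.sub_apply, Pi.smul_apply, smul_eq_mul, dot6, hzapp, col_apply]
    rcases two_le_cases i with rfl | rfl | rfl | rfl | rfl | rfl <;>
      simp [hu1, hu3, ← hαd, ← hβd, ← hp, ← hq] <;> ring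
  set C := 1 - 8 * (α * α) with hC
  set S := -(4 * α * (p + q)) with hSd
  set D := 1 - 8 * (β * β) with hD
  set T := -(4 * β * (p - q)) with hT
  have sf1 : s *ᵥ sm 0 1 = ![C, C, 0, 0, S, S] := by
    rw [show (sm 0 1 : Fin 6 → F) = ![1, 1, 0, 0, 0, 0] by
      funext i; fin_cases i <;> simp [sm_apply], hsv]
    funext i
    rcases two_le_cases i with rfl | rfl | rfl | rfl | rfl | rfl <;>
      simp [hC, hSd] <;> ring
  have sf3 : s *ᵥ sm 4 5 = ![S, S, 0, 0, -C, -C] := by
    rw [show (sm 4 5 : Fin 6 → F) = ![0, 0, 0, 0, 1, 1] by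
      funext i; fin_cases i <;> simp [sm_apply], hsv]
    funext i
    rcases two_le_cases i with rfl | rfl | rfl | rfl | rfl | rfl <;>
      simp [hC, hSd] <;> first | ring1 | linear_combination (-2 : F) * hA
  have sf2 : s *ᵥ sm 2 3 = ![0, 0, D, D, T, -T] := by
    rw [show (sm 2 3 : Fin 6 → F) = ![0, 0, 1, 1, 0, 0] by
      funext i; fin_cases i <;> simp [sm_apply], hsv]
    funext i
    rcases two_le_cases i with rfl | rfl | rfl | rfl | rfl | rfl <;>
      simp [hD, hT] <;> ring
  have sfk : s *ᵥ df 4 5 = ![0, 0, T, T, -D, D] := by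
    rw [hsf]
    funext i
    simp only [Pi.sub_apply, Pi.smul_apply, smul_eq_mul, dot6, hzapp, col_apply, df_apply]
    rcases two_le_cases i with rfl | rfl | rfl | rfl | rfl | rfl <;>
      simp [hu1, hu3, hD, hT, ← hαd, ← hβd, ← hp, ← hq] <;>
      first | ring1 | linear_combination (-2 : F) * hB | linear_combination (2 : F) * hB
  -- the squares of the products with `dl 0 1` and `dl 2 3`
  have hC01 : C * S = 0 := by
    set t := dl 0 1 * s * (dl 0 1 * s) with ht
    have htH : t ∈ H := by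
      have := H.mul_mem (hS.dl_mem (show (0 : Fin 6) ≠ 1 by decide)) hsH
      exact H.mul_mem this this
    have t1 : t *ᵥ df 0 1 = df 0 1 := by
      have e : dl 0 1 *ᵥ df 0 1 = -(df 0 1 : Fin 6 → F) := by
        funext i; fin_cases i <;> simp [df_apply, dl_mulVec]
      simp only [ht, ← Matrix.mulVec_mulVec, hs1, e, Matrix.mulVec_neg, neg_neg]
    have t2 : t *ᵥ df 2 3 = df 2 3 := by
      have e : dl 0 1 *ᵥ df 2 3 = (df 2 3 : Fin 6 → F) := by
        funext i; fin_cases i <;> simp [df_apply, dl_mulVec]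
      simp only [ht, ← Matrix.mulVec_mulVec, hs2, e]
    have hsH2 : s *ᵥ (s *ᵥ sm 2 3) = sm 2 3 := by
      rw [Matrix.mulVec_mulVec, hs]
      rw [show h * dl 4 5 * hᵀ * (h * dl 4 5 * hᵀ) = 1 by
        calc _ = h * (dl 4 5 * (hᵀ * h) * dl 4 5) * hᵀ := by simp only [Matrix.mul_assoc]
          _ = 1 := by rw [hS.orth h hh, Matrix.mul_one, dl_sq, Matrix.mul_one, ho],
        Matrix.one_mulVec]
    have t3 : t *ᵥ sm 2 3 = sm 2 3 := by
      have e : dl 0 1 *ᵥ (s *ᵥ sm 2 3) = s *ᵥ sm 2 3 := by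
        rw [sf2]; funext i; fin_cases i <;> simp [dl_mulVec]
      have e' : dl 0 1 *ᵥ sm 2 3 = (sm 2 3 : Fin 6 → F) := by
        funext i; fin_cases i <;> simp [sm_apply, dl_mulVec]
      simp only [ht, ← Matrix.mulVec_mulVec, e, hsH2, e']
    have tm : Mon t := by
      refine hS.col_single htH (a := 2) (b := 2) fun i hi => ?_
      have f1 := congrFun t2 i
      have f2 := congrFun t3 i
      rw [mulVec_df] at f1
      rw [mulVec_sm] at f2
      simp only [Pi.sub_apply, Pi.add_apply, col_apply, df, sm, Pi.single_eq_of_ne hi] at f1 f2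
      exact (mul_eq_zero.mp
        (show (2 : F) * t i 2 = 0 by linear_combination f1 + f2)).resolve_left h2
    have t4 : (t *ᵥ sm 0 1) 4 = -(2 * (C * S)) ∧ (t *ᵥ sm 0 1) 5 = -(2 * (C * S)) := by
      have e : dl 0 1 *ᵥ ![C, C, 0, 0, S, S] =
          ![-C, -C, 0, 0, S, S] := by funext i; fin_cases i <;> simp [dl_mulVec]
      simp only [ht, ← Matrix.mulVec_mulVec, sf1, e, hsv, dl_mulVec]
      constructor <;>
      · simp [hC, hSd]
        linear_combination (-2 : F) * ((1 - 8 * (α * α)) * 0 + (-(4 * α * (p + q))) * hA)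
    have g1 := congrFun t1 4
    have g2 := congrFun t1 5
    rw [mulVec_df] at g1 g2
    rw [mulVec_sm] at t4
    simp [df] at g1 g2
    simp at t4
    have k4 : (2 : F) * t 4 0 = -(2 * (C * S)) := by linear_combination g1 + t4.1
    have k5 : (2 : F) * t 5 0 = -(2 * (C * S)) := by linear_combination g2 + t4.2
    by_cases h40 : t 4 0 = 0
    · rw [h40] at k4
      exact (mul_eq_zero.mp (show (2 : F) * (C * S) = 0 by linear_combination k4)).resolve_left h2
    · rw [tm.eq_zero_of_ne_zero (show (4 : Fin 6) ≠ 5 by decide) h40] at k5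
      exact (mul_eq_zero.mp (show (2 : F) * (C * S) = 0 by linear_combination k5)).resolve_left h2
  have hC23 : D * T = 0 := by
    set t := dl 2 3 * s * (dl 2 3 * s) with ht
    have htH : t ∈ H := by
      have := H.mul_mem (hS.dl_mem (show (2 : Fin 6) ≠ 3 by decide)) hsH
      exact H.mul_mem this this
    have t1 : t *ᵥ df 2 3 = df 2 3 := by
      have e : dl 2 3 *ᵥ df 2 3 = -(df 2 3 : Fin 6 → F) := by
        funext i; fin_cases i <;> simp [df_apply, dl_mulVec]
      simp only [ht, ← Matrix.mulVec_mulVec, hs2, e, Matrix.mulVec_neg, neg_neg]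
    have t2 : t *ᵥ df 0 1 = df 0 1 := by
      have e : dl 2 3 *ᵥ df 0 1 = (df 0 1 : Fin 6 → F) := by
        funext i; fin_cases i <;> simp [df_apply, dl_mulVec]
      simp only [ht, ← Matrix.mulVec_mulVec, hs1, e]
    have hsH2 : s *ᵥ (s *ᵥ sm 0 1) = sm 0 1 := by
      rw [Matrix.mulVec_mulVec, hs]
      rw [show h * dl 4 5 * hᵀ * (h * dl 4 5 * hᵀ) = 1 by
        calc _ = h * (dl 4 5 * (hᵀ * h) * dl 4 5) * hᵀ := by simp only [Matrix.mul_assoc]
          _ = 1 := by rw [hS.orth h hh, Matrix.mul_one, dl_sq, Matrix.mul_one, ho],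
        Matrix.one_mulVec]
    have t3 : t *ᵥ sm 0 1 = sm 0 1 := by
      have e : dl 2 3 *ᵥ (s *ᵥ sm 0 1) = s *ᵥ sm 0 1 := by
        rw [sf1]; funext i; fin_cases i <;> simp [dl_mulVec]
      have e' : dl 2 3 *ᵥ sm 0 1 = (sm 0 1 : Fin 6 → F) := by
        funext i; fin_cases i <;> simp [sm_apply, dl_mulVec]
      simp only [ht, ← Matrix.mulVec_mulVec, e, hsH2, e']
    have tm : Mon t := by
      refine hS.col_single htH (a := 0) (b := 0) fun i hi => ?_
      have f1 := congrFun t2 i
      have f2 := congrFun t3 i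
      rw [mulVec_df] at f1
      rw [mulVec_sm] at f2
      simp only [Pi.sub_apply, Pi.add_apply, col_apply, df, sm, Pi.single_eq_of_ne hi] at f1 f2
      exact (mul_eq_zero.mp
        (show (2 : F) * t i 0 = 0 by linear_combination f1 + f2)).resolve_left h2
    have t4 : (t *ᵥ sm 2 3) 4 = -(2 * (D * T)) ∧ (t *ᵥ sm 2 3) 5 = 2 * (D * T) := by
      have e : dl 2 3 *ᵥ ![0, 0, D, D, T, -T] =
          (-D) • sm 2 3 + T • df 4 5 := by
        funext i; fin_cases i <;> simp [dl_mulVec, sm_apply, df_apply]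
      simp only [ht, ← Matrix.mulVec_mulVec, sf2, e, Matrix.mulVec_add, Matrix.mulVec_smul, sfk]
      constructor <;> simp [dl_mulVec, df_apply, sm_apply] <;> ring
    have g1 := congrFun t1 4
    have g2 := congrFun t1 5
    rw [mulVec_df] at g1 g2
    rw [mulVec_sm] at t4
    simp [df] at g1 g2
    simp at t4
    have k4 : (2 : F) * t 4 2 = -(2 * (D * T)) := by linear_combination g1 + t4.1
    have k5 : (2 : F) * t 5 2 = 2 * (D * T) := by linear_combination g2 + t4.2
    by_cases h40 : t 4 2 = 0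
    · rw [h40] at k4
      exact (mul_eq_zero.mp (show (2 : F) * (D * T) = 0 by linear_combination k4)).resolve_left h2
    · rw [tm.eq_zero_of_ne_zero (show (4 : Fin 6) ≠ 5 by decide) h40] at k5
      exact (mul_eq_zero.mp (show (2 : F) * (D * T) = 0 by linear_combination -k5)).resolve_left h2
  -- degenerate cases give a monomial reflection pair
  have hpq : p + q ≠ 0 := by
    intro e0
    have hS0 : S = 0 := by rw [hSd, e0]; ring
    have hC1 : C = -1 := by rw [hC]; rw [e0] at hA; linear_combination (-2 : F) * hA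
    refine hsm (hS.col_single hsH (a := 0) (b := 1) fun i hi => ?_)
    have f1 := congrFun hs1 i
    have f2 := congrFun sf1 i
    rw [mulVec_df] at f1
    rw [mulVec_sm] at f2
    rw [hS0, hC1] at f2
    refine (mul_eq_zero.mp (show (2 : F) * s i 0 = 0 from ?_)).resolve_left h2
    rcases two_le_cases i with rfl | rfl | rfl | rfl | rfl | rfl <;>
      simp [df_apply] at f1 f2 hi <;> linear_combination f1 + f2
  have hpq' : p - q ≠ 0 := by
    intro e0
    have hT0 : T = 0 := by rw [hT, e0]; ring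
    have hD1 : D = -1 := by rw [hD]; rw [e0] at hB; linear_combination (-2 : F) * hB
    refine hsm (hS.col_single hsH (a := 2) (b := 3) fun i hi => ?_)
    have f1 := congrFun hs2 i
    have f2 := congrFun sf2 i
    rw [mulVec_df] at f1
    rw [mulVec_sm] at f2
    rw [hT0, hD1] at f2
    refine (mul_eq_zero.mp (show (2 : F) * s i 2 = 0 from ?_)).resolve_left h2
    rcases two_le_cases i with rfl | rfl | rfl | rfl | rfl | rfl <;>
      simp [df_apply] at f1 f2 hi <;> linear_combination f1 + f2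
  have h40 : (4 : F) ≠ 0 := fun e4 =>
    h2 (mul_self_eq_zero.mp (show (2 : F) * 2 = 0 by linear_combination e4))
  have hC0 : C = 0 := (mul_eq_zero.mp hC01).resolve_right
    (neg_ne_zero.mpr (mul_ne_zero (mul_ne_zero h40 hα) hpq))
  have hD0 : D = 0 := (mul_eq_zero.mp hC23).resolve_right
    (neg_ne_zero.mpr (mul_ne_zero (mul_ne_zero h40 hβ) hpq'))
  rw [hC] at hC0
  rw [hD] at hD0
  have hab : (β - α) * (β + α) = 0 := by
    have : (2 : F) * ((4 : F) * ((β - α) * (β + α))) = 0 := by linear_combination hC0 - hD0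
    exact (mul_eq_zero.mp ((mul_eq_zero.mp this).resolve_left h2)).resolve_left h40
  obtain ⟨b, hbe⟩ : ∃ b : Bool, β = (sgn b : F) * α := by
    rcases mul_eq_zero.mp hab with e | e
    · exact ⟨false, by rw [sgn_false]; linear_combination e⟩
    · exact ⟨true, by rw [sgn_true]; linear_combination e⟩
  -- a three-cycle fixing the fifth column
  let c3 : Perm (Fin 6) := ⟨![1, 2, 0, 3, 4, 5], ![2, 0, 1, 3, 4, 5], by decide, by decide⟩
  have hc3 : Perm.sign c3 = 1 := by
    rw [show c3 = swap 0 1 * swap 1 2 by decide, swap_mul_swap_sign (by decide) (by decide)]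
  have hQ : sp c3 ![false, b, b, false, false, false] ∈ H :=
    hS.mon_mem _ _ hc3 (by cases b <;> decide)
  have hQapp : ∀ w : Fin 6 → F, sp c3 ![false, b, b, false, false, false] *ᵥ w =
      ![sgn b * w 2, w 0, sgn b * w 1, w 3, w 4, w 5] := by
    intro w; funext i; fin_cases i <;> simp [sp_mulVec, c3]
  have hbb : (sgn b : F) * sgn b = 1 := sgn_mul_self b
  have hM := hS.fix_mon hh hQ (c := 4) (e := 1) (by
    rw [one_smul, hQapp]
    funext i
    rcases two_le_cases i with rfl | rfl | rfl | rfl | rfl | rfl <;>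
      simp [hu1, hu3, ← hαd, ← hβd, ← hp, ← hq] <;>
      first | linear_combination (sgn b : F) * hbe + α * hbb | linear_combination -hbe)
  have hv' : ∀ i, h i 5 = η * (![-α, -α, β, β, -q, -p] : Fin 6 → F) i := by
    intro i
    have := congrFun hv i
    rw [hzapp] at this
    rw [col_apply] at this
    rw [this]
    fin_cases i <;> simp [hu1, hu3, ← hαd, ← hβd, ← hp, ← hq]
  have hη0 : η ≠ 0 := sgn_ne_zero _
  rcases hS.oe hh hQ hM 5 with t | t | t
  · have := congrFun t 0
    rw [hQapp] at this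
    simp [hv'] at this
    have k : (2 : F) * (η * α) = 0 := by
      linear_combination this - ((sgn b : F) * η) * hbe - (η * α) * hbb
    exact mul_ne_zero hη0 hα ((mul_eq_zero.mp k).resolve_left h2)
  · have := congrFun t 1
    rw [hQapp] at this
    simp [hv'] at this
    exact mul_ne_zero hη0 hα ((mul_eq_zero.mp
      (show (2 : F) * (η * α) = 0 by linear_combination -this)).resolve_left h2)
  · rw [dot6, hQapp] at t
    simp [hv'] at t
    have k : (η * η) * (p * p + q * q) = 0 := by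
      linear_combination t - (η * η) * (β - (sgn b : F) * α) * hbe + (η * η) * (α * α) * hbb
    rw [hηη, one_mul] at k
    exact h2 (by linear_combination (4 : F) * k - 4 * hnorm - hC0 - hD0)


lemma b0_pull_fix {π : Perm (Fin 6)} {r : Fin 6 → Bool} (hp : ∀ a, P0123 (π a) = π (P0123 a))
    (hr : ∀ a, r (P0123 a) = r a) :
    pull π r (b0 : Matrix (Fin 6) (Fin 6) F) = b0 := by
  refine pull_sp π P0123 P0123 r _ _ hp fun a => ?_
  rw [hr]
  cases r a <;> rfl

/-- No non-monomial element centralises `b0`. -/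
lemma no_comm_b0 [Finite F] {h : Matrix (Fin 6) (Fin 6) F} (hh : h ∈ H)
    (hb : h * b0 = b0 * h) : Mon h := by
  by_contra hm
  obtain ⟨hl, hsb, hs1, hs2⟩ := hS.refl_props hh hb
  set t := h * dl 4 5 * hᵀ with ht
  have h2 := hS.h2
  have hd01 : (dl 0 1 : Matrix (Fin 6) (Fin 6) F) ∈ H := hS.dl_mem (by decide)
  have htH : t ∈ H := hS.conj_mem hh (hS.dl_mem (by decide))
  have htm : ¬ Mon t := fun e => hm (hS.P0 hh (by decide) e)
  have htt : t * t = 1 := by
    calc t * t = h * (dl 4 5 * (hᵀ * h) * dl 4 5) * hᵀ := by rw [ht]; simp only [Matrix.mul_assoc]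
      _ = 1 := by rw [hS.orth h hh, Matrix.mul_one, dl_sq, Matrix.mul_one, hS.orth' hh]
  -- the stabiliser of the line through the first difference
  let K : Submonoid (Matrix (Fin 6) (Fin 6) F) :=
    { carrier := {g | g ∈ H ∧ ∃ c : Bool, g *ᵥ df 0 1 = (sgn c : F) • df 0 1}
      one_mem' := ⟨H.one_mem, false, by simp⟩
      mul_mem' := by
        intro g g' h1 h3
        obtain ⟨c, hc⟩ := h1.2
        obtain ⟨c', hc'⟩ := h3.2
        refine ⟨H.mul_mem h1.1 h3.1, xor c c', ?_⟩
        rw [← Matrix.mulVec_mulVec, hc', Matrix.mulVec_smul, hc, smul_smul, sgn_xor,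
          mul_comm] }
  have hap : dl 0 1 *ᵥ df 0 1 = -(df 0 1 : Fin 6 → F) := by
    funext i; fin_cases i <;> simp [df_apply, dl_mulVec]
  have hap2 : dl 0 1 *ᵥ df 2 3 = (df 2 3 : Fin 6 → F) := by
    funext i; fin_cases i <;> simp [df_apply, dl_mulVec]
  have haK : (dl 0 1 : Matrix (Fin 6) (Fin 6) F) ∈ K := ⟨hd01, true, by simp [hap]⟩
  have htK : t ∈ K := ⟨htH, false, by simp [hs1]⟩
  obtain ⟨m, hm1, hm2, hm3, hm4⟩ := hS.dihedral K (fun g hg => hg.1) haK htK (dl_sq 0 1) htt (by
    intro d hd hdc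
    obtain ⟨c, hc⟩ := hd.2
    have := congrArg (fun z => z *ᵥ df 0 1) hdc
    simp only [← Matrix.mulVec_mulVec, hap, hc, Matrix.mulVec_smul, hs1,
      Matrix.mulVec_neg] at this
    have h0 := congrFun this 0
    simp [df_apply] at h0
    have h3 : (2 : F) * sgn c = 0 := by linear_combination h0
    exact mul_ne_zero h2 (sgn_ne_zero _) h3)
  set z := (dl 0 1 * t) ^ m with hz
  have hzK : z ∈ K := pow_mem (K.mul_mem haK htK) m
  have hzm : Mon z := hS.comm_dl hzK.1 (by decide) hm3.symm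
  have hz2 : z *ᵥ df 2 3 = df 2 3 := by
    rw [hz]
    clear_value z
    clear hz hm1 hm2 hm3 hm4 hzK hzm z
    induction m with
    | zero => simp
    | succ m ih => rw [pow_succ, ← Matrix.mulVec_mulVec, ← Matrix.mulVec_mulVec, hs2, hap2, ih]
  have hzb : z * b0 = b0 * z := by
    have hab : (dl 0 1 : Matrix (Fin 6) (Fin 6) F) * b0 = b0 * dl 0 1 := by
      rw [dl, b0, sp_mul, sp_mul, one_mul, mul_one]
      congr 1
      funext a
      fin_cases a <;> simp [P0123]
    have hc : Commute (dl 0 1 * t) b0 := Commute.mul_left hab hsb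
    exact (hc.pow_left m).eq
  -- a vector fixed by both involutions
  have hzne : z ≠ -b0 := by
    intro e
    obtain ⟨c, hc0, hc⟩ := exists_ker (show 5 < 6 by norm_num)
      ![Pi.single (0 : Fin 6) (1 : F), Pi.single 1 1, df 2 3, col h 4, col h 5]
    have c0 : c 0 = 0 := by simpa using hc 0
    have c1 : c 1 = 0 := by simpa using hc 1
    have c2 : c 2 = c 3 := by
      have := hc 2
      simp [df, sub_dotProduct] at this
      exact sub_eq_zero.mp this
    have c4 : col h 4 ⬝ᵥ c = 0 := by simpa using hc 3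
    have c5 : col h 5 ⬝ᵥ c = 0 := by simpa using hc 4
    have ea : dl 0 1 *ᵥ c = c := by
      funext i; fin_cases i <;> simp [dl_mulVec, c0, c1]
    have et : t *ᵥ c = c := by
      rw [ht, hS.conj_dl_mulVec hh (by decide), c4, c5]
      simp
    have ez : z *ᵥ c = c := by
      rw [hz]
      clear_value z
      clear hz hm1 hm2 hm3 hm4 hzK hzm hz2 hzb e z
      induction m with
      | zero => simp
      | succ m ih => rw [pow_succ, ← Matrix.mulVec_mulVec, ← Matrix.mulVec_mulVec, et, ea, ih]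
    have eb : b0 *ᵥ c = c := by
      funext i; fin_cases i <;> simp [b0, sp_mulVec, P0123, c0, c1, c2]
    rw [e, Matrix.neg_mulVec, eb] at ez
    refine hc0 (funext fun i => ?_)
    have := congrFun ez i
    simp at this
    exact (mul_eq_zero.mp (show (2 : F) * c i = 0 by linear_combination -this)).resolve_left h2
  obtain ⟨σ, s, hsp⟩ := hzm.exists_sp (hS.orth z hzK.1)
  have hzH : sp σ s ∈ H := hsp ▸ hzK.1
  have hzz : (sp σ s : Matrix (Fin 6) (Fin 6) F) * sp σ s = 1 := hsp ▸ hm2
  have htz : t * sp σ s = sp σ s * t := hsp ▸ hm4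
  obtain ⟨c, hc⟩ := hzK.2
  rw [hsp] at hc hz2
  obtain ⟨hσσ, hss⟩ := sp_involution h2 hzz
  have hA := sp_signed_df h2 (show (0 : Fin 6) ≠ 1 by decide) hc
  have hB := sp_fix_df h2 (show (2 : Fin 6) ≠ 3 by decide) hz2
  have hmixed : ∀ i j, σ i = i → σ j = j → s i = s j := by
    intro i j hi hj
    cases ei : s i <;> cases ej : s j <;> try rfl
    · exact absurd (hS.mixed htH hzH hzz htz hj ej hi ei) htm
    · exact absurd (hS.mixed htH hzH hzz htz hi ei hj ej) htm
  have hbad : ∀ (τ : Perm (Fin 6)) (u : Fin 6 → Bool), (∀ i, σ i = τ i) → (∀ i, s i = u i) →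
      Perm.sign τ * par u = -1 → False := by
    intro τ u e1 e2 e3
    have hp := hS.parity hzH
    rw [Equiv.ext e1, funext e2, e3] at hp
    exact absurd hp (by decide)
  have hflip : ∀ x : Bool, (sp σ (fun a => xor x (s a)) : Matrix (Fin 6) (Fin 6) F)
      = (sgn x : F) • sp σ s := by
    intro x
    ext i a
    by_cases hi : i = σ a
    · subst hi; simp [sp_apply, sgn_xor]
    · simp [sp_apply, hi]
  have htflip : ∀ x : Bool, t * sp σ (fun a => xor x (s a)) = sp σ (fun a => xor x (s a)) * t := by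
    intro x
    rw [hflip, Matrix.mul_smul, Matrix.smul_mul, htz]
  have hfin : ∀ a b : Fin 6, a ≠ b → ∀ x : Bool,
      (sp σ (fun a => xor x (s a)) : Matrix (Fin 6) (Fin 6) F) * b0 = dl a b → False := by
    intro a b hab x e
    refine htm (hS.comm_dl htH hab ?_)
    rw [← e, ← Matrix.mul_assoc, htflip, Matrix.mul_assoc, hsb, Matrix.mul_assoc]
  -- relabelling to the two normal forms
  have hnormal : ∀ (π : Perm (Fin 6)) (r : Fin 6 → Bool) (x b : Bool),
      (∀ a, P0123 (π a) = π (P0123 a)) → (∀ a, r (P0123 a) = r a) → π 4 = 4 → π 5 = 5 →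
      pull π r (sp σ (fun a => xor x (s a))) = (zt b : Matrix (Fin 6) (Fin 6) F) → False := by
    intro π r x b hπ hr p4 p5 e
    have eb : pull π r (b0 : Matrix (Fin 6) (Fin 6) F) = b0 := hS.b0_pull_fix hπ hr
    have ed : pull π r (dl 4 5 : Matrix (Fin 6) (Fin 6) F) = dl 4 5 := by
      refine pull_sp _ _ _ _ _ _ (fun a => rfl) fun a => ?_
      have q : (π a = 4 ∨ π a = 5) ↔ (a = 4 ∨ a = 5) := by
        conv_lhs => rw [← p4, ← p5, π.injective.eq_iff, π.injective.eq_iff]
      simp only [Perm.one_apply]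
      rw [decide_eq_decide.mpr q]
      cases decide (a = 4 ∨ a = 5) <;> cases r a <;> rfl
    have h' := hS.pull_mem hh π r
    have hm' : ¬ Mon (pull π r h) := fun q => hm q.of_pull
    have hb' : pull π r h * b0 = b0 * pull π r h := by
      rw [← eb, ← pull_mul, ← pull_mul, hb]
    have hz' : pull π r h * dl 4 5 * (pull π r h)ᵀ * zt b
        = zt b * (pull π r h * dl 4 5 * (pull π r h)ᵀ) := by
      rw [← ed, ← pull_transpose, ← pull_mul, ← pull_mul, ← ht, ← e, ← pull_mul, ← pull_mul,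
        htflip]
    cases b
    · exact (hS.cnj_six π r).typeI h' hm' hb' hz'
    · exact (hS.cnj_six π r).typeII h' hm' hb' hz'
  have hC : (σ 4 = 4 ∧ σ 5 = 5 ∧ s 5 = s 4) ∨ (σ 4 = 5 ∧ σ 5 = 4 ∧ s 5 = s 4) := by
    have h01 : ∀ i, i = 4 ∨ i = 5 → σ i = 4 ∨ σ i = 5 := by
      intro i hi
      have n : ∀ a b : Fin 6, (σ a = a ∧ σ b = b) ∨ (σ a = b ∧ σ b = a) → i ≠ a → i ≠ b →
          σ i ≠ a ∧ σ i ≠ b := by
        intro a b e ia ib
        rcases e with ⟨e1, e2⟩ | ⟨e1, e2⟩
        · exact ⟨fun q => ia (σ.injective (q.trans e1.symm)),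
            fun q => ib (σ.injective (q.trans e2.symm))⟩
        · exact ⟨fun q => ib (σ.injective (q.trans e2.symm)),
            fun q => ia (σ.injective (q.trans e1.symm))⟩
      have n1 := n 0 1 (hA.imp (fun q => ⟨q.1, q.2.1⟩) fun q => ⟨q.1, q.2.1⟩)
        (by omega) (by omega)
      have n2 := n 2 3 (hB.imp (fun q => ⟨q.1, q.2.1⟩) fun q => ⟨q.1, q.2.1⟩)
        (by omega) (by omega)
      rcases two_le_cases (σ i) with q | q | q | q | q | q
      · exact absurd q n1.1
      · exact absurd q n1.2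
      · exact absurd q n2.1
      · exact absurd q n2.2
      · exact Or.inl q
      · exact Or.inr q
    rcases h01 4 (Or.inl rfl) with q | q
    · have q5 : σ 5 = 5 := (h01 5 (Or.inr rfl)).resolve_left fun e =>
        absurd (σ.injective (e.trans q.symm)) (by decide)
      exact Or.inl ⟨q, q5, hmixed 5 4 q5 q⟩
    · have q5 : σ 5 = 4 := (h01 5 (Or.inr rfl)).resolve_right fun e =>
        absurd (σ.injective (e.trans q.symm)) (by decide)
      exact Or.inr ⟨q, q5, by rw [← q, hss]⟩
  rcases hA with ⟨a0, a1, as0, as1⟩ | ⟨a0, a1, as0, as1⟩ <;>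
    rcases hB with ⟨b2, b3, bs2, bs3⟩ | ⟨b2, b3, bs2, bs3⟩ <;>
    rcases hC with ⟨c4, c5, cs⟩ | ⟨c4, c5, cs⟩
  · -- no transposition
    refine hm1 ?_
    rw [hsp, ← sp_one]
    have e0 : s 0 = false := (hmixed 0 2 a0 b2).trans bs2
    have e4 : s 4 = false := (hmixed 4 2 c4 b2).trans bs2
    rw [show σ = 1 from Equiv.ext fun i => by fin_cases i <;> simp [*],
      show s = fun _ => false from funext fun i => by fin_cases i <;> simp_all]
  · have e0 : s 0 = false := (hmixed 0 2 a0 b2).trans bs2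
    refine hbad (swap 4 5) ![false, false, false, false, s 4, s 4] (fun i => ?_) (fun i => ?_) ?_
    · fin_cases i <;> simp [*, swap_apply_def]
    · fin_cases i <;> simp_all
    · cases s 4 <;> decide
  · have e4 : s 4 = c := (hmixed 4 0 c4 a0).trans as0
    refine hbad (swap 2 3) ![c, c, true, true, c, c] (fun i => ?_) (fun i => ?_) ?_
    · fin_cases i <;> simp [*, swap_apply_def]
    · fin_cases i <;> simp_all
    · cases c <;> decide
  · -- `(2 3)(4 5)`
    refine hnormal P0213 ![false, false, false, false, false, !(s 4)] c (!c) (by decide) ?_ rfl rfl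
      (pull_sp _ _ _ _ _ _ (fun a => ?_) fun a => ?_)
    · intro a; fin_cases a <;> simp [P0123]
    · fin_cases a <;> simp [*, P0213, P0145]
    · fin_cases a <;> simp [P0213, P0145, as0, as1, bs2, bs3, cs] <;> cases c <;> cases s 4 <;>
        simp
  · have e4 : s 4 = false := (hmixed 4 2 c4 b2).trans bs2
    refine hbad (swap 0 1) ![!c, !c, false, false, false, false] (fun i => ?_) (fun i => ?_) ?_
    · fin_cases i <;> simp [*, swap_apply_def]
    · fin_cases i <;> simp_all
    · cases c <;> decide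
  · -- `(0 1)(4 5)`
    refine hnormal 1 ![false, false, false, false, false, xor (!c) (s 4)] false (!c)
      (fun a => rfl) ?_ rfl rfl (pull_sp _ _ _ _ _ _ (fun a => ?_) fun a => ?_)
    · intro a; fin_cases a <;> simp [P0123]
    · fin_cases a <;> simp [*, P0145]
    · fin_cases a <;> simp [P0145, as0, as1, bs2, bs3, cs] <;> cases c <;> cases s 4 <;> simp
  · -- `(0 1)(2 3)`
    have hsig : σ = P0123 := Equiv.ext fun i => by fin_cases i <;> simp [*, P0123]
    have hsv : s = ![!c, !c, true, true, s 4, s 4] := funext fun i => by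
      fin_cases i <;> simp_all
    have hkey : ∀ x : Bool, (sp σ (fun a => xor x (s a)) : Matrix (Fin 6) (Fin 6) F) * b0 =
        sp 1 (fun a => xor x (![!c, !c, true, true, s 4, s 4] a)) := by
      intro x
      rw [b0, sp_mul, hsig, show P0123 * P0123 = 1 by decide]
      congr 1
      funext a
      fin_cases a <;> simp [P0123, as0, as1, bs2, bs3, cs]
    cases ec : c <;> cases e4 : s 4
    · refine hfin 4 5 (by decide) true ?_
      rw [hkey, ec, e4, dl]
      congr 1
      funext a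
      fin_cases a <;> rfl
    · refine hzne ?_
      rw [hsp, hsig, hsv, ec, e4]
      ext i a
      fin_cases i <;> fin_cases a <;> simp [b0, sp_apply, P0123]
    · refine hfin 2 3 (by decide) false ?_
      rw [hkey, ec, e4, dl]
      congr 1
      funext a
      fin_cases a <;> rfl
    · refine hfin 0 1 (by decide) true ?_
      rw [hkey, ec, e4, dl]
      congr 1
      funext a
      fin_cases a <;> rfl
  · refine hbad (swap 0 1 * (swap 2 3 * swap 4 5)) ![!c, !c, true, true, s 4, s 4] (fun i => ?_)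
      (fun i => ?_) ?_
    · fin_cases i <;> simp [*, swap_apply_def]
    · fin_cases i <;> simp_all
    · cases c <;> cases s 4 <;> decide

/-- Every element of the group is monomial. -/
theorem all_mon [Finite F] {g : Matrix (Fin 6) (Fin 6) F} (hg : g ∈ H) : Mon g := by
  by_contra hm
  have h2 := hS.h2
  set t := g * dl 0 1 * gᵀ with ht
  have htH : t ∈ H := hS.conj_mem hg (hS.dl_mem (by decide))
  have htm : ¬ Mon t := fun e => hm (hS.P0 hg (by decide) e)
  have htt : t * t = 1 := by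
    calc t * t = g * (dl 0 1 * (gᵀ * g) * dl 0 1) * gᵀ := by rw [ht]; simp only [Matrix.mul_assoc]
      _ = 1 := by rw [hS.orth g hg, Matrix.mul_one, dl_sq, Matrix.mul_one, hS.orth' hg]
  obtain ⟨m, hm1, hm2, hm3, hm4⟩ := hS.dihedral H le_rfl hS.involution_mem_b0 htH b0_sq htt (by
    intro d hd e
    have hb : dᵀ * g * dl 0 1 * (dᵀ * g)ᵀ = b0 := by
      rw [Matrix.transpose_mul, Matrix.transpose_transpose]
      calc dᵀ * g * dl 0 1 * (gᵀ * d) = dᵀ * (t * d) := by rw [ht]; simp only [Matrix.mul_assoc]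
        _ = b0 := by rw [e, ← Matrix.mul_assoc, hS.orth d hd, Matrix.one_mul]
    have hk : dᵀ * g ∈ H := H.mul_mem (hS.trans_mem d hd) hg
    have hkm := hS.P0 hk (show (0 : Fin 6) ≠ 1 by decide) (hb ▸ Mon.of_sp _ _)
    obtain ⟨σ, r, hσ⟩ := hkm.exists_sp (hS.orth _ hk)
    rw [hσ] at hb
    have h1 : (sp σ r : Matrix (Fin 6) (Fin 6) F) * dl 0 1 = b0 * sp σ r := by
      rw [← hb, Matrix.mul_assoc, sp_transpose_mul, Matrix.mul_one]
    rw [dl, b0, sp_mul, sp_mul] at h1
    obtain ⟨e1, e2⟩ := sp_inj h2 h1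
    have f := congrFun e2 0
    simp only [Perm.one_apply] at f
    revert f
    cases r 0 <;> simp)
  set z := (b0 * t) ^ m with hz
  have hzH : z ∈ H := pow_mem (H.mul_mem hS.involution_mem_b0 htH) m
  have hzneg : z ≠ -1 := by
    intro e
    obtain ⟨c, hc0, hc⟩ := exists_ker (F := F) (show 4 < 6 by norm_num)
      ![(df 0 1 : Fin 6 → F), df 2 3, col g 0, col g 1]
    have c0 : c 0 = c 1 := by
      have := hc 0; simp [df, sub_dotProduct] at this; exact sub_eq_zero.mp this
    have c2 : c 2 = c 3 := by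
      have := hc 1; simp [df, sub_dotProduct] at this; exact sub_eq_zero.mp this
    have c4 : col g 0 ⬝ᵥ c = 0 := by simpa using hc 2
    have c5 : col g 1 ⬝ᵥ c = 0 := by simpa using hc 3
    have et : t *ᵥ c = c := by
      rw [ht, hS.conj_dl_mulVec hg (by decide), c4, c5]
      simp
    have eb : b0 *ᵥ c = c := by
      funext i; fin_cases i <;> simp [b0, sp_mulVec, P0123, c0, c2]
    have ez : z *ᵥ c = c := by
      rw [hz]
      clear_value z
      clear hz hm1 hm2 hm3 hm4 hzH e z
      induction m with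
      | zero => simp
      | succ m ih => rw [pow_succ, ← Matrix.mulVec_mulVec, ← Matrix.mulVec_mulVec, et, eb, ih]
    rw [e, Matrix.neg_mulVec, Matrix.one_mulVec] at ez
    refine hc0 (funext fun i => ?_)
    have := congrFun ez i
    simp at this
    exact (mul_eq_zero.mp (show (2 : F) * c i = 0 by linear_combination -this)).resolve_left h2
  by_cases hzm : Mon z
  · obtain ⟨π, r, e⟩ := hS.reduce htH htm hzH hzm hm2 hm1 hzneg hm4
    exact htm ((hS.cnj_six π r).no_comm_b0 (hS.pull_mem htH π r) e).of_pull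
  · exact hzm (hS.no_comm_b0 hzH hm3.symm)

end Six

end Cfsg.Agent.C6Six
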