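import Cfsg.Agent.C6Six.Pauli

/-!
# Relations between the Pauli matrices
-/

set_option autoImplicit false
set_option linter.unusedSectionVars false
set_option linter.unusedSimpArgs false
set_option maxHeartbeats 4000000

namespace Cfsg.Agent.C6Six

open Matrix Equiv

variable {F : Type*} [Field F]

lemma ee_eq {t : F} (ht : t * t = -1) :
    ee t 0 = qq t 1 * qq t 3 * qq t 4 ∧ ee t 1 = -(qq t 1 * qq t 2 * qq t 4) ∧
    ee t 2 = (-t) • (qq t 4 * qq t 5) ∧ ee t 3 = qq t 2 * qq t 3 * qq t 4 ∧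
    qq t 5 = (-t) • (qq t 1 * qq t 2 * (qq t 3 * qq t 4)) := by
  obtain ⟨a1, a2, a3, a4, a5⟩ := qq_eq t
  refine ⟨?_, ?_, ?_, ?_, ?_⟩ <;>
    (ext a b; fin_cases a <;> fin_cases b <;>
      simp [ee, a1, a2, a3, a4, a5, Matrix.mul_apply, Fin.sum_univ_succ, ht])

lemma qq_as_ee {t : F} (ht : t * t = -1) :
    qq t 1 = -(ee t 0 * ee t 1 * ee t 2) ∧ qq t 2 = -(ee t 3 * ee t 1 * ee t 2) ∧
    qq t 3 = -(ee t 0 * ee t 3 * ee t 2) ∧ qq t 4 = -(ee t 0 * ee t 3 * ee t 1) ∧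
    qq t 5 = t • (ee t 0 * ee t 3 * (ee t 1 * ee t 2)) := by
  obtain ⟨a1, a2, a3, a4, a5⟩ := qq_eq t
  refine ⟨?_, ?_, ?_, ?_, ?_⟩ <;>
    (ext a b; fin_cases a <;> fin_cases b <;>
      simp [ee, a1, a2, a3, a4, a5, Matrix.mul_apply, Fin.sum_univ_succ, ht])

lemma phi_one_add_qq {t : F} (ht : t * t = -1) (h2 : (2 : F) ≠ 0) {k : Fin 6} (hk : k ≠ 0) :
    phi t (1 + qq t k) = (2 : F) • sp (swap 0 k) (fun a => decide (a = k)) := by
  obtain ⟨a1, a2, a3, a4, a5⟩ := qq_eq t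
  refine Matrix.ext_iff_mulVec.mpr fun c => ?_
  rw [phi_mulVec ht h2, Matrix.smul_mulVec]
  funext l
  rw [Pi.smul_apply, sp_mulVec, smul_eq_mul]
  fin_cases k <;>
    first
      | exact absurd rfl hk
      | (fin_cases l <;>
          simp [a1, a2, a3, a4, a5, crd, mk, Matrix.mul_apply, Fin.sum_univ_succ, swap_apply_def,
            Matrix.one_apply] <;>
          (try field_simp) <;> (try ring_nf) <;>
          (try simp only [(t_pows ht).1, (t_pows ht).2.1, (t_pows ht).2.2.1]) <;> (try ring1))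

/-- A product of two quarter turns. -/
lemma phi_turns {t : F} (ht : t * t = -1) (h2 : (2 : F) ≠ 0) {k l : Fin 6} (hk : k ≠ 0) (hl : l ≠ 0) :
    phi t ((2 : F)⁻¹ • ((1 + qq t k) * (1 + qq t l))) =
      sp (swap 0 k) (fun a => decide (a = k)) * sp (swap 0 l) (fun a => decide (a = l)) ∧
    ((2 : F)⁻¹ • ((1 + qq t k) * (1 + qq t l))).det = 1 := by
  constructor
  · rw [phi_smul, phi_mul ht h2, phi_one_add_qq ht h2 hk, phi_one_add_qq ht h2 hl,
      Matrix.smul_mul, Matrix.mul_smul, smul_smul, smul_smul,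
      show (2 : F)⁻¹ * 2⁻¹ * 2 * 2 = 1 by field_simp, one_smul]
  · rw [det_smul, det_mul, qq_add_one_det ht hk, qq_add_one_det ht hl, Fintype.card_fin]
    field_simp
    norm_num

end Cfsg.Agent.C6Six
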