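import Cfsg.Agent.C6Six.Std

/-!
# The Pauli matrices in the standard basis
-/

set_option autoImplicit false
set_option linter.unusedSectionVars false
set_option linter.unusedSimpArgs false
set_option maxHeartbeats 4000000

namespace Cfsg.Agent.C6Six

open Matrix Equiv

variable {F : Type*} [Field F]

/-- The quotient of the `k`-th and the first standard alternating matrices. -/
def qq (t : F) (k : Fin 6) : Matrix (Fin 4) (Fin 4) F :=
  -(mk t (Pi.single k 1) * mk t (Pi.single 0 1))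

/-- Four anticommuting involutions in monomial shape. -/
def ee (t : F) : Fin 4 → Matrix (Fin 4) (Fin 4) F :=
  ![!![1, 0, 0, 0; 0, -1, 0, 0; 0, 0, -1, 0; 0, 0, 0, 1],
    !![0, 1, 0, 0; 1, 0, 0, 0; 0, 0, 0, 1; 0, 0, 1, 0],
    !![0, t, 0, 0; -t, 0, 0, 0; 0, 0, 0, t; 0, 0, -t, 0],
    !![0, 0, 1, 0; 0, 0, 0, -1; 1, 0, 0, 0; 0, -1, 0, 0]]

lemma qq_zero (t : F) : qq t 0 = 1 := by
  ext a b
  fin_cases a <;> fin_cases b <;> simp [qq, mk, Matrix.mul_apply, Fin.sum_univ_succ]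

/-- The five non-trivial quotients, written out. -/
lemma qq_eq (t : F) :
    qq t 1 = !![t, 0, 0, 0; 0, t, 0, 0; 0, 0, -t, 0; 0, 0, 0, -t] ∧
    qq t 2 = !![0, 0, t, 0; 0, 0, 0, t; t, 0, 0, 0; 0, t, 0, 0] ∧
    qq t 3 = !![0, 0, 0, -t; 0, 0, t, 0; 0, t, 0, 0; -t, 0, 0, 0] ∧
    qq t 4 = !![0, 0, 0, -1; 0, 0, -1, 0; 0, 1, 0, 0; 1, 0, 0, 0] ∧
    qq t 5 = !![0, 0, 1, 0; 0, 0, 0, -1; -1, 0, 0, 0; 0, 1, 0, 0] := by
  refine ⟨?_, ?_, ?_, ?_, ?_⟩ <;>
    (ext a b; fin_cases a <;> fin_cases b <;> simp [qq, mk, Matrix.mul_apply, Fin.sum_univ_succ])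

lemma qq_sq {t : F} (ht : t * t = -1) {k : Fin 6} (hk : k ≠ 0) :
    qq t k * qq t k = -1 := by
  obtain ⟨a1, a2, a3, a4, a5⟩ := qq_eq t
  fin_cases k <;>
    first
      | exact absurd rfl hk
      | (ext a b; fin_cases a <;> fin_cases b <;>
          simp [a1, a2, a3, a4, a5, Matrix.mul_apply, Fin.sum_univ_succ, ht])

lemma qq_anti {t : F} (ht : t * t = -1) {j k : Fin 6} (hj : j ≠ 0) (hk : k ≠ 0) (hjk : j ≠ k) :
    qq t j * qq t k = -(qq t k * qq t j) := by
  obtain ⟨a1, a2, a3, a4, a5⟩ := qq_eq t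
  fin_cases j <;> fin_cases k <;>
    first
      | exact absurd rfl hj
      | exact absurd rfl hk
      | exact absurd rfl hjk
      | (ext a b; fin_cases a <;> fin_cases b <;>
          simp [a1, a2, a3, a4, a5, Matrix.mul_apply, Fin.sum_univ_succ, ht])

lemma t_pows {t : F} (ht : t * t = -1) :
    t ^ 2 = -1 ∧ t ^ 3 = -t ∧ t ^ 4 = 1 ∧ t ^ 5 = t ∧ t ^ 6 = -1 :=
  ⟨by linear_combination ht, by linear_combination t * ht,
    by linear_combination (t * t - 1) * ht, by linear_combination t * (t * t - 1) * ht,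
    by linear_combination (t * t * t * t - t * t + 1) * ht⟩

lemma qq_det {t : F} (ht : t * t = -1) (k : Fin 6) : (qq t k).det = 1 := by
  obtain ⟨a1, a2, a3, a4, a5⟩ := qq_eq t
  fin_cases k <;>
    simp [qq_zero, a1, a2, a3, a4, a5, Matrix.det_succ_row_zero, Fin.sum_univ_succ,
      Fin.succAbove, ht] <;>
    (try ring_nf) <;> (try simp only [(t_pows ht).1, (t_pows ht).2.1, (t_pows ht).2.2.1]) <;>
    (try ring1)

lemma qq_add_one_det {t : F} (ht : t * t = -1) {k : Fin 6} (hk : k ≠ 0) :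
    (1 + qq t k).det = 4 := by
  obtain ⟨a1, a2, a3, a4, a5⟩ := qq_eq t
  fin_cases k <;>
    first
      | exact absurd rfl hk
      | (simp [a1, a2, a3, a4, a5, Matrix.det_succ_row_zero, Fin.sum_univ_succ, Fin.succAbove,
          Matrix.one_apply] <;>
          (try ring_nf) <;>
          (try simp only [(t_pows ht).1, (t_pows ht).2.1, (t_pows ht).2.2.1]) <;>
          (try ring1))

lemma phi_qq {t : F} (ht : t * t = -1) (h2 : (2 : F) ≠ 0) {k : Fin 6} (hk : k ≠ 0) :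
    phi t (qq t k) = dl 0 k := by
  obtain ⟨a1, a2, a3, a4, a5⟩ := qq_eq t
  refine Matrix.ext_iff_mulVec.mpr fun c => ?_
  rw [phi_mulVec ht h2]
  funext l
  rw [dl_mulVec]
  fin_cases k <;>
    first
      | exact absurd rfl hk
      | (fin_cases l <;>
          simp [a1, a2, a3, a4, a5, crd, mk, Matrix.mul_apply, Fin.sum_univ_succ] <;>
          (try field_simp) <;> (try ring_nf) <;>
          (try simp only [(t_pows ht).1, (t_pows ht).2.1, (t_pows ht).2.2.1]) <;> (try ring1))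

end Cfsg.Agent.C6Six
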