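import Cfsg.Prelude.Def_GeometricClasses
import Cfsg.Prelude.Def_LieClassical
import Cfsg.Agent.C6Dim4.Action
import Cfsg.Agent.C6Dim4.Sp
import Cfsg.Agent.C6Six.Pauli

/-!
# The data used for the maximality of the normaliser of a symplectic-type group in dimension four
-/

set_option autoImplicit false
set_option linter.unusedSectionVars false

namespace Cfsg.Agent.C6Six

open Matrix

variable {F : Type*} [Field F]

/-- The indexing under which the standard symplectic matrix becomes `mk t (Pi.single 0 1)`. -/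
def idx : Fin 2 ⊕ Fin 2 ≃ Fin 4 where
  toFun := Sum.elim ![1, 3] ![0, 2]
  invFun := ![Sum.inr 0, Sum.inl 0, Sum.inr 1, Sum.inl 1]
  left_inv := by decide
  right_inv := by decide

lemma reindex_J (t : F) :
    Matrix.reindex idx idx (Matrix.J (Fin 2) F) = mk t (Pi.single 0 1) := by
  ext a b
  fin_cases a <;> fin_cases b <;> simp [idx, Matrix.J, mk]

/-- Embedding of matrices through a field map and a change of basis. -/
def emb {F₀ : Type*} [Field F₀] (φ : F₀ →+* F) (W : GL (Fin 4) F)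
    (A : Matrix (Fin 2 ⊕ Fin 2) (Fin 2 ⊕ Fin 2) F₀) : Matrix (Fin 4) (Fin 4) F :=
  (W : Matrix (Fin 4) (Fin 4) F) * (Matrix.reindex idx idx A).map φ *
    ((W⁻¹ : GL (Fin 4) F) : Matrix (Fin 4) (Fin 4) F)

/-- The data.  `P` carries the standard basis to one adapted to the frame `Φ`, and `W` carries the
standard symplectic space over `F₀` onto a symplectic space inside `F⁴` whose isometries are the
elements of `S` fixing the alternating matrix `P * Y₀ * Pᵀ`. -/
structure Setting (F₀ : Type*) [Field F₀] [Fintype F₀] (R S : Subgroup (GL (Fin 4) F)) where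
  t : F
  ht : t * t = -1
  h2 : (2 : F) ≠ 0
  Φ : C6Dim4.Frame R
  P : GL (Fin 4) F
  hP : ∀ j : Fin 4, (Φ.γ j.castSucc : Matrix (Fin 4) (Fin 4) F) * P = P * ee t j
  scalar_mem : ∃ u ∈ R, (u : Matrix (Fin 4) (Fin 4) F) = t • 1
  S_det : ∀ x ∈ S, (x : Matrix (Fin 4) (Fin 4) F).det = 1
  R_mem : ∀ u ∈ R, (u : Matrix (Fin 4) (Fin 4) F).det = 1 → u ∈ S
  ga_mem : ∀ u ∈ R, ∀ v ∈ R, u * u = -1 → v * v = -1 → ∀ x : GL (Fin 4) F,
    (x : Matrix (Fin 4) (Fin 4) F) = (2 : F)⁻¹ • ((1 + (u : Matrix (Fin 4) (Fin 4) F)) *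
      (1 + (v : Matrix (Fin 4) (Fin 4) F))) →
    (x : Matrix (Fin 4) (Fin 4) F).det = 1 → x ∈ S
  p : ℕ
  hp : p.Prime
  hp2 : p ≠ 2
  hF₀ : Fintype.card F₀ = p
  φ : F₀ →+* F
  W : GL (Fin 4) F
  emb_mem : ∀ A ∈ Cfsg.spGL 2 F₀, ∀ x : GL (Fin 4) F,
    (x : Matrix (Fin 4) (Fin 4) F) = emb φ W A → x ∈ S
  emb_surj : ∀ x ∈ S, (x : Matrix (Fin 4) (Fin 4) F) * ((P : Matrix (Fin 4) (Fin 4) F) *
      mk t (Pi.single 0 1) * (P : Matrix (Fin 4) (Fin 4) F)ᵀ) *
        (x : Matrix (Fin 4) (Fin 4) F)ᵀ = (P : Matrix (Fin 4) (Fin 4) F) *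
      mk t (Pi.single 0 1) * (P : Matrix (Fin 4) (Fin 4) F)ᵀ →
    ∃ A ∈ Cfsg.spGL 2 F₀, (x : Matrix (Fin 4) (Fin 4) F) = emb φ W A
  proper : ∃ x ∈ S, ¬ Mon (phi t (((P⁻¹ * x * P : GL (Fin 4) F)) : Matrix (Fin 4) (Fin 4) F))
  top : ∀ M : Subgroup (GL (Fin 4) F), M ≤ S →
    (∀ x ∈ S, ∀ c : F, c = 1 ∨ c = -1 → (x : Matrix (Fin 4) (Fin 4) F) *
      ((P : Matrix (Fin 4) (Fin 4) F) * mk t (Pi.single 0 1) *
        (P : Matrix (Fin 4) (Fin 4) F)ᵀ) * (x : Matrix (Fin 4) (Fin 4) F)ᵀ =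
      c • ((P : Matrix (Fin 4) (Fin 4) F) * mk t (Pi.single 0 1) *
        (P : Matrix (Fin 4) (Fin 4) F)ᵀ) → x ∈ M) →
    ∀ y ∈ M, (∀ c : F, (y : Matrix (Fin 4) (Fin 4) F) *
      ((P : Matrix (Fin 4) (Fin 4) F) * mk t (Pi.single 0 1) *
        (P : Matrix (Fin 4) (Fin 4) F)ᵀ) * (y : Matrix (Fin 4) (Fin 4) F)ᵀ ≠
      c • ((P : Matrix (Fin 4) (Fin 4) F) * mk t (Pi.single 0 1) *
        (P : Matrix (Fin 4) (Fin 4) F)ᵀ)) → M = S

/-- A basis adapted to a frame. -/
theorem exists_basis {R : Subgroup (GL (Fin 4) F)} (Φ : C6Dim4.Frame R) {t : F} (ht : t * t = -1) :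
    ∃ P : GL (Fin 4) F,
      ∀ j : Fin 4, (Φ.γ j.castSucc : Matrix (Fin 4) (Fin 4) F) * P = P * ee t j := by
  set g : Fin 4 → Matrix (Fin 4) (Fin 4) F := fun j => (Φ.γ j.castSucc : Matrix (Fin 4) (Fin 4) F)
    with hg
  have sq : ∀ j, g j * g j = 1 := fun j => by
    rw [hg, ← Units.val_mul, Φ.sq, Units.val_one]
  have an : ∀ i j, i ≠ j → g i * g j = -(g j * g i) := fun i j h => by
    rw [hg, ← Units.val_mul, Φ.anti _ _ (fun e => h (Fin.castSucc_injective _ e)), Units.val_neg,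
      Units.val_mul]
  have h2 := Φ.h2
  set B := t • (g 1 * g 2) with hB
  have hBB : B * B = 1 := by
    have : g 1 * g 2 * (g 1 * g 2) = -1 := by
      calc g 1 * g 2 * (g 1 * g 2) = g 1 * (g 2 * g 1) * g 2 := by simp only [Matrix.mul_assoc]
        _ = -1 := by rw [an 2 1 (by decide), Matrix.mul_neg, Matrix.neg_mul, ← Matrix.mul_assoc,
                      sq, Matrix.one_mul, sq]
    rw [hB, Matrix.smul_mul, Matrix.mul_smul, smul_smul, this, ht, neg_one_smul, neg_neg]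
  have hAB : g 0 * B = B * g 0 := by
    rw [hB, Matrix.mul_smul, Matrix.smul_mul]
    congr 1
    rw [← Matrix.mul_assoc, an 0 1 (by decide), Matrix.neg_mul, Matrix.mul_assoc,
      an 0 2 (by decide), Matrix.mul_neg, neg_neg, Matrix.mul_assoc]
  -- a common fixed vector
  have hE : (1 + g 0) * (1 + B) ≠ 0 := by
    intro h
    have h' := congrArg Matrix.trace h
    have tr : ∀ a b : Matrix (Fin 4) (Fin 4) F, b * b = 1 → a * b = -(b * a) → a.trace = 0 := by
      intro a b hb hab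
      have e : a = -(b * a * b) := by
        calc a = a * b * b := by rw [Matrix.mul_assoc, hb, Matrix.mul_one]
          _ = -(b * a * b) := by rw [hab, Matrix.neg_mul]
      have := congrArg Matrix.trace e
      rw [Matrix.trace_neg, Matrix.trace_mul_comm, ← Matrix.mul_assoc, hb, Matrix.one_mul] at this
      exact (mul_eq_zero.mp
        (show (2 : F) * a.trace = 0 by linear_combination this)).resolve_left h2
    have t0 : (g 0).trace = 0 := tr _ _ (sq 1) (an 0 1 (by decide))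
    have t1 : B.trace = 0 := by
      rw [hB, Matrix.trace_smul, tr (g 1 * g 2) (g 1) (sq 1) ?_, smul_zero]
      rw [Matrix.mul_assoc, an 2 1 (by decide), Matrix.mul_neg]
    have t2 : (g 0 * B).trace = 0 := by
      rw [hB, Matrix.mul_smul, Matrix.trace_smul, tr (g 0 * (g 1 * g 2)) (g 3) (sq 3) ?_,
        smul_zero]
      calc g 0 * (g 1 * g 2) * g 3 = g 0 * (g 1 * (g 2 * g 3)) := by simp only [Matrix.mul_assoc]
        _ = -(g 3 * (g 0 * (g 1 * g 2))) := by
          rw [an 2 3 (by decide), Matrix.mul_neg, Matrix.mul_neg, ← Matrix.mul_assoc (g 1),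
            an 1 3 (by decide), Matrix.neg_mul, Matrix.mul_neg, neg_neg, Matrix.mul_assoc (g 3),
            ← Matrix.mul_assoc (g 0), an 0 3 (by decide), Matrix.neg_mul, Matrix.mul_assoc (g 3)]
    rw [Matrix.add_mul, Matrix.mul_add, Matrix.mul_add, Matrix.one_mul, Matrix.one_mul,
      Matrix.mul_one, Matrix.trace_add, Matrix.trace_add, Matrix.trace_add, Matrix.trace_one,
      t0, t1, t2, Matrix.trace_zero, Fintype.card_fin] at h'
    exact h2 (mul_self_eq_zero.mp (show (2 : F) * 2 = 0 by push_cast at h'; linear_combination h'))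
  obtain ⟨k, hk⟩ : ∃ k, (fun a => ((1 + g 0) * (1 + B)) a k) ≠ (0 : Fin 4 → F) := by
    by_contra hh
    push Not at hh
    exact hE (Matrix.ext fun a b => congrFun (hh b) a)
  set v : Fin 4 → F := fun a => ((1 + g 0) * (1 + B)) a k with hv
  have hv' : v = ((1 + g 0) * (1 + B)) *ᵥ Pi.single k 1 := by
    funext a
    simp [hv]
  have v0 : g 0 *ᵥ v = v := by
    have e : g 0 * (1 + g 0) = 1 + g 0 := by
      rw [Matrix.mul_add, Matrix.mul_one, sq, add_comm]
    rw [hv', Matrix.mulVec_mulVec, ← Matrix.mul_assoc, e]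
  have v1 : B *ᵥ v = v := by
    have e : B * (1 + g 0) = (1 + g 0) * B := by
      rw [Matrix.mul_add, Matrix.add_mul, Matrix.one_mul, Matrix.mul_one, hAB]
    have e' : B * (1 + B) = 1 + B := by
      rw [Matrix.mul_add, Matrix.mul_one, hBB, add_comm]
    rw [hv', Matrix.mulVec_mulVec, ← Matrix.mul_assoc, e, Matrix.mul_assoc, e']
  have v12 : g 2 *ᵥ v = (-t) • (g 1 *ᵥ v) := by
    have h := congrArg (fun w => (-t) • (g 1 *ᵥ w)) v1
    simp only [hB, Matrix.smul_mulVec, Matrix.mulVec_smul, Matrix.mulVec_mulVec, smul_smul,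
      ← Matrix.mul_assoc, sq, Matrix.one_mul] at h
    rw [show -t * t = 1 by linear_combination -ht, one_smul] at h
    exact h
  let Pm : Matrix (Fin 4) (Fin 4) F :=
    Matrix.of fun a c => ![v, g 1 *ᵥ v, g 3 *ᵥ v, g 1 *ᵥ (g 3 *ᵥ v)] c a
  have hcol : ∀ j c, (g j * Pm) *ᵥ Pi.single c 1 =
      g j *ᵥ ![v, g 1 *ᵥ v, g 3 *ᵥ v, g 1 *ᵥ (g 3 *ᵥ v)] c := by
    intro j c
    rw [← Matrix.mulVec_mulVec]
    congr 1
    funext a
    simp [Pm, Matrix.mulVec, dotProduct_single]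
  have an' : ∀ i j, i ≠ j → ∀ w, g i *ᵥ (g j *ᵥ w) = -(g j *ᵥ (g i *ᵥ w)) := fun i j h w => by
    rw [Matrix.mulVec_mulVec, an i j h, Matrix.neg_mulVec, ← Matrix.mulVec_mulVec]
  have sq' : ∀ j w, g j *ᵥ (g j *ᵥ w) = w := fun j w => by
    rw [Matrix.mulVec_mulVec, sq, Matrix.one_mulVec]
  have key : ∀ j, g j * Pm = Pm * ee t j := by
    intro j
    refine Matrix.ext_of_mulVec_single fun c => ?_
    rw [hcol]
    have e : (Pm * ee t j) *ᵥ Pi.single c 1 =
        ∑ b, ee t j b c • ![v, g 1 *ᵥ v, g 3 *ᵥ v, g 1 *ᵥ (g 3 *ᵥ v)] b := by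
      funext a
      simp [Matrix.mul_apply, Pm, Fin.sum_univ_four, mul_comm]
    rw [e, Fin.sum_univ_four]
    fin_cases j <;> fin_cases c <;>
      simp [-Matrix.mulVec_mulVec, ee, v0, v12, sq', an' 0 1 (by decide), an' 0 3 (by decide), an' 2 1 (by decide),
        an' 2 3 (by decide), an' 3 1 (by decide), Matrix.mulVec_smul, Matrix.mulVec_neg]
  -- the four columns are eigenvectors for distinct pairs of eigenvalues
  have hdet : Pm.det ≠ 0 := by
    intro hd
    obtain ⟨x, hx0, hx⟩ := Matrix.exists_mulVec_eq_zero_iff.mpr hd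
    have h0 : ∀ j, Pm *ᵥ (ee t j *ᵥ x) = 0 := fun j => by
      rw [Matrix.mulVec_mulVec, ← key j, ← Matrix.mulVec_mulVec, hx, Matrix.mulVec_zero]
    have hz : ∀ y : Fin 4 → F, Pm *ᵥ y = 0 → y 0 = 0 := by
      intro y hy
      have a0 : Pm *ᵥ (ee t 0 *ᵥ y) = 0 := by
        rw [Matrix.mulVec_mulVec, ← key 0, ← Matrix.mulVec_mulVec, hy, Matrix.mulVec_zero]
      have a2 : Pm *ᵥ (ee t 2 *ᵥ y) = 0 := by
        rw [Matrix.mulVec_mulVec, ← key 2, ← Matrix.mulVec_mulVec, hy, Matrix.mulVec_zero]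
      have a1 : Pm *ᵥ (ee t 1 *ᵥ (ee t 2 *ᵥ y)) = 0 := by
        rw [Matrix.mulVec_mulVec, ← key 1, ← Matrix.mulVec_mulVec, a2, Matrix.mulVec_zero]
      have a01 : Pm *ᵥ (ee t 0 *ᵥ (ee t 1 *ᵥ (ee t 2 *ᵥ y))) = 0 := by
        rw [Matrix.mulVec_mulVec, ← key 0, ← Matrix.mulVec_mulVec, a1, Matrix.mulVec_zero]
      have e : y + ee t 0 *ᵥ y + t • (ee t 1 *ᵥ (ee t 2 *ᵥ y)) +
          t • (ee t 0 *ᵥ (ee t 1 *ᵥ (ee t 2 *ᵥ y))) = Pi.single 0 (4 * y 0) := by
        funext a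
        simp only [Pi.add_apply, Pi.smul_apply, smul_eq_mul]
        fin_cases a <;>
          simp [-Matrix.mulVec_mulVec, ee, Matrix.mulVec, dotProduct, Fin.sum_univ_four] <;>
          ((try ring_nf) <;> (try simp only [show t ^ 2 = -1 by linear_combination ht]) <;> (try ring1))
      have h := congrArg (fun z => Pm *ᵥ z) e
      simp only [Matrix.mulVec_add, Matrix.mulVec_smul, hy, a0, a1, a01, smul_zero, add_zero] at h
      by_contra hy0
      refine hk (funext fun a => ?_)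
      have h4 := congrFun h a
      simp [Pm] at h4
      rcases h4 with h4 | h4
      · exact h4
      · rcases h4 with h4 | h4
        · exact absurd (mul_self_eq_zero.mp
            (show (2 : F) * 2 = 0 by linear_combination h4)) h2
        · exact absurd h4 hy0
    refine hx0 (funext fun a => ?_)
    have r0 := hz x hx
    have r1 := hz _ (h0 1)
    have r3 := hz _ (h0 3)
    have r13 := hz _ (show Pm *ᵥ (ee t 3 *ᵥ (ee t 1 *ᵥ x)) = 0 by
      rw [Matrix.mulVec_mulVec, ← key 3, ← Matrix.mulVec_mulVec, h0 1, Matrix.mulVec_zero])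
    simp [ee, Matrix.mulVec, dotProduct, Fin.sum_univ_four] at r1 r3 r13
    fin_cases a <;> simp [r0, r1, r3, r13]
  exact ⟨Matrix.GeneralLinearGroup.mkOfDetNeZero Pm hdet, key⟩

end Cfsg.Agent.C6Six
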