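import Cfsg.Agent.C6Six.Main
import Cfsg.Agent.C6Six.Pauli2
import Cfsg.Agent.C6Six.Setting
import Cfsg.Agent.C6Units.SpMax

/-!
# The normaliser of a symplectic-type group of order 64 is maximal
-/

set_option autoImplicit false
set_option linter.unusedSectionVars false

namespace Cfsg.Agent.C6Six

open Matrix Equiv

variable {F : Type*} [Field F] {F₀ : Type*} [Field F₀] [Fintype F₀]

lemma emb_mul (φ : F₀ →+* F) (W : GL (Fin 4) F)
    (A B : Matrix (Fin 2 ⊕ Fin 2) (Fin 2 ⊕ Fin 2) F₀) :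
    emb φ W (A * B) = emb φ W A * emb φ W B := by
  have e : Matrix.reindex idx idx (A * B) = Matrix.reindex idx idx A * Matrix.reindex idx idx B := by
    simp [Matrix.reindex_apply, Matrix.submatrix_mul_equiv]
  simp only [emb, e, Matrix.map_mul, Matrix.mul_assoc, Units.inv_mul_cancel_left]

lemma emb_one (φ : F₀ →+* F) (W : GL (Fin 4) F) :
    emb φ W (1 : Matrix (Fin 2 ⊕ Fin 2) (Fin 2 ⊕ Fin 2) F₀) = 1 := by
  simp [emb, Matrix.reindex_apply]

/-- `emb` on invertible matrices. -/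
def embU (φ : F₀ →+* F) (W : GL (Fin 4) F) : GL (Fin 2 ⊕ Fin 2) F₀ →* GL (Fin 4) F :=
  Units.map { toFun := emb φ W, map_one' := emb_one φ W, map_mul' := emb_mul φ W }

lemma coe_embU (φ : F₀ →+* F) (W : GL (Fin 4) F) (A : GL (Fin 2 ⊕ Fin 2) F₀) :
    (embU φ W A : Matrix (Fin 4) (Fin 4) F) = emb φ W A := rfl

lemma emb_injective (φ : F₀ →+* F) (W : GL (Fin 4) F) : Function.Injective (emb φ W) := by
  intro A B h
  have h' := congrArg (fun M => ((W⁻¹ : GL (Fin 4) F) : Matrix (Fin 4) (Fin 4) F) * M * W) h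
  simp only [emb, ← Matrix.mul_assoc, Units.inv_mul, Matrix.one_mul] at h'
  simp only [Matrix.mul_assoc, Units.inv_mul, Matrix.mul_one] at h'
  exact (Matrix.reindex idx idx).injective (Matrix.map_injective φ.injective h')

lemma embU_injective (φ : F₀ →+* F) (W : GL (Fin 4) F) : Function.Injective (embU φ W) :=
  fun _ _ h => Units.ext (emb_injective φ W (congrArg Units.val h))

lemma embU_neg (φ : F₀ →+* F) (W : GL (Fin 4) F) (A : GL (Fin 2 ⊕ Fin 2) F₀) :
    embU φ W (-A) = -embU φ W A := by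
  refine Units.ext ?_
  rw [coe_embU, Units.val_neg, Units.val_neg, coe_embU]
  have e : (Matrix.reindex idx idx (-(A : Matrix (Fin 2 ⊕ Fin 2) (Fin 2 ⊕ Fin 2) F₀))).map φ =
      -(Matrix.reindex idx idx (A : Matrix (Fin 2 ⊕ Fin 2) (Fin 2 ⊕ Fin 2) F₀)).map φ := by
    ext i j
    simp
  simp only [emb, e, Matrix.mul_neg, Matrix.neg_mul]

/-- Diagonal matrices. -/
def Dg (h : Matrix (Fin 6) (Fin 6) F) : Prop := ∀ i a, i ≠ a → h i a = 0

lemma Dg.of_dl (a b : Fin 6) : Dg (dl a b : Matrix (Fin 6) (Fin 6) F) := by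
  intro i j hij
  simp [dl, sp_apply, hij]

lemma Dg.smul {h : Matrix (Fin 6) (Fin 6) F} (hh : Dg h) (c : F) : Dg (c • h) := by
  intro i a hia
  simp [hh i a hia]

lemma Dg.mul {h k : Matrix (Fin 6) (Fin 6) F} (hh : Dg h) (hk : Dg k) : Dg (h * k) := by
  intro i a hia
  rw [Matrix.mul_apply]
  refine Finset.sum_eq_zero fun j _ => ?_
  by_cases hij : i = j
  · rw [hk j a (hij ▸ hia), mul_zero]
  · rw [hh i j hij, zero_mul]

lemma Dg.one : Dg (1 : Matrix (Fin 6) (Fin 6) F) := fun _ _ h => Matrix.one_apply_ne h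

/-- The eigen-columns of a diagonal form. -/
lemma Mon.of_normalising {h : Matrix (Fin 6) (Fin 6) F} (h2 : (2 : F) ≠ 0) (ho : h * hᵀ = 1)
    (hd : ∀ k : Fin 6, k ≠ 0 → Dg (hᵀ * C6Six.dl 0 k * h)) : Mon h := by
  intro a
  by_contra hc
  push Not at hc
  obtain ⟨i, -, hi⟩ := hc 0
  obtain ⟨j, hji, hj⟩ := hc i
  obtain ⟨k, hk, hx⟩ := (by decide : ∀ i j : Fin 6, j ≠ i → ∃ k : Fin 6, k ≠ 0 ∧
    (((i = 0 ∨ i = k) ∧ ¬ (j = 0 ∨ j = k)) ∨ (¬ (i = 0 ∨ i = k) ∧ (j = 0 ∨ j = k)))) i j hji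
  set D := hᵀ * C6Six.dl 0 k * h with hD
  have e : C6Six.dl 0 k *ᵥ col h a = D a a • col h a := by
    have e1 : C6Six.dl 0 k * h = h * D := by
      rw [hD, ← Matrix.mul_assoc, ← Matrix.mul_assoc, ho, Matrix.one_mul]
    have e2 : col D a = Pi.single a (D a a) := by
      funext l
      by_cases hl : l = a
      · subst hl; simp
      · simp [hl, hd k hk l a hl, ← hD]
        exact hd k hk l a hl
    rw [← col_mul, e1, col_mul, e2, mulVec_single']
  have ei := congrFun e i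
  have ej := congrFun e j
  rw [C6Six.dl_mulVec] at ei ej
  simp only [Pi.smul_apply, smul_eq_mul, col_apply] at ei ej
  rcases hx with ⟨x1, x2⟩ | ⟨x1, x2⟩
  · rw [if_pos x1] at ei
    rw [if_neg x2] at ej
    have k1 : D a a = 1 :=
      mul_right_cancel₀ hj (show D a a * h j a = 1 * h j a by rw [← ej, one_mul])
    rw [k1, one_mul] at ei
    exact hi ((mul_eq_zero.mp
      (show (2 : F) * h i a = 0 by linear_combination -ei)).resolve_left h2)
  · rw [if_neg x1] at ei
    rw [if_pos x2] at ej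
    have k1 : D a a = 1 :=
      mul_right_cancel₀ hi (show D a a * h i a = 1 * h i a by rw [← ei, one_mul])
    rw [k1, one_mul] at ej
    exact hj ((mul_eq_zero.mp
      (show (2 : F) * h j a = 0 by linear_combination -ej)).resolve_left h2)

namespace Setting

variable [Fintype F] {R S : Subgroup (GL (Fin 4) F)} (σ : Setting F₀ R S)

/-- An element in the adapted basis. -/
def std (x : GL (Fin 4) F) : Matrix (Fin 4) (Fin 4) F := ((σ.P⁻¹ * x * σ.P : GL (Fin 4) F) : Matrix _ _ F)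

/-- The action on alternating matrices. -/
def psi (x : GL (Fin 4) F) : Matrix (Fin 6) (Fin 6) F := phi σ.t (σ.std x)

lemma std_mul (x y : GL (Fin 4) F) : σ.std (x * y) = σ.std x * σ.std y := by
  rw [std, std, std, ← Units.val_mul]
  congr 1
  group

lemma std_one : σ.std 1 = 1 := by simp [std]

lemma std_injective : Function.Injective σ.std := fun x y h => by
  have := Units.ext h
  simpa using this

lemma std_eq (x : GL (Fin 4) F) : σ.std x =
    ((σ.P⁻¹ : GL (Fin 4) F) : Matrix (Fin 4) (Fin 4) F) * x * (σ.P : Matrix (Fin 4) (Fin 4) F) := rfl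

lemma P_std (x : GL (Fin 4) F) :
    (σ.P : Matrix (Fin 4) (Fin 4) F) * σ.std x = (x : Matrix (Fin 4) (Fin 4) F) * σ.P := by
  rw [std_eq, Matrix.mul_assoc _ (x : Matrix (Fin 4) (Fin 4) F), Units.mul_inv_cancel_left]

lemma std_of_val {x : GL (Fin 4) F} {M : Matrix (Fin 4) (Fin 4) F}
    (h : (x : Matrix (Fin 4) (Fin 4) F) * σ.P = (σ.P : Matrix (Fin 4) (Fin 4) F) * M) :
    σ.std x = M := by
  rw [std_eq, Matrix.mul_assoc, h, Units.inv_mul_cancel_left]

lemma std_det (x : GL (Fin 4) F) : (σ.std x).det = (x : Matrix (Fin 4) (Fin 4) F).det := by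
  rw [std_eq, Matrix.det_units_conj']

lemma std_neg (x : GL (Fin 4) F) : σ.std (-x) = -σ.std x := by
  simp [std_eq, Matrix.mul_neg, Matrix.neg_mul]

lemma psi_mul (x y : GL (Fin 4) F) : σ.psi (x * y) = σ.psi x * σ.psi y := by
  rw [psi, psi, psi, std_mul, phi_mul σ.ht σ.h2]

lemma psi_one : σ.psi 1 = 1 := by rw [psi, std_one, phi_one σ.ht σ.h2]

lemma psi_orth {x : GL (Fin 4) F} (hx : x ∈ S) : (σ.psi x)ᵀ * σ.psi x = 1 :=
  phi_orth σ.ht σ.h2 ((σ.std_det x).trans (σ.S_det x hx))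

lemma psi_inv {x : GL (Fin 4) F} (hx : x ∈ S) : σ.psi x⁻¹ = (σ.psi x)ᵀ := by
  calc σ.psi x⁻¹ = (σ.psi x)ᵀ * σ.psi x * σ.psi x⁻¹ := by rw [σ.psi_orth hx, Matrix.one_mul]
    _ = _ := by rw [Matrix.mul_assoc, ← psi_mul, mul_inv_cancel, psi_one, Matrix.mul_one]

/-- The distinguished alternating matrix. -/
def Z : Matrix (Fin 4) (Fin 4) F :=
  (σ.P : Matrix (Fin 4) (Fin 4) F) * C6Six.mk σ.t (Pi.single 0 1) * (σ.P : Matrix (Fin 4) (Fin 4) F)ᵀ

lemma moves_Z (x : GL (Fin 4) F) (c : F) :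
    (x : Matrix (Fin 4) (Fin 4) F) * σ.Z * (x : Matrix (Fin 4) (Fin 4) F)ᵀ = c • σ.Z ↔
      col (σ.psi x) 0 = Pi.single 0 c := by
  have e : (x : Matrix (Fin 4) (Fin 4) F) * σ.Z * (x : Matrix (Fin 4) (Fin 4) F)ᵀ =
      (σ.P : Matrix (Fin 4) (Fin 4) F) * C6Six.mk σ.t (col (σ.psi x) 0) *
        (σ.P : Matrix (Fin 4) (Fin 4) F)ᵀ := by
    have h1 : C6Six.mk σ.t (col (σ.psi x) 0) = σ.std x * C6Six.mk σ.t (Pi.single 0 1) * (σ.std x)ᵀ := by
      rw [conj_mk σ.ht σ.h2, mulVec_single', one_smul]; rfl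
    rw [h1]
    calc _ = ((x : Matrix (Fin 4) (Fin 4) F) * (σ.P : Matrix (Fin 4) (Fin 4) F)) *
          C6Six.mk σ.t (Pi.single 0 1) *
          ((x : Matrix (Fin 4) (Fin 4) F) * (σ.P : Matrix (Fin 4) (Fin 4) F))ᵀ := by
          simp only [Z, Matrix.transpose_mul, Matrix.mul_assoc]
      _ = _ := by rw [← P_std]; simp only [Matrix.transpose_mul, Matrix.mul_assoc]
  have e' : c • σ.Z = (σ.P : Matrix (Fin 4) (Fin 4) F) * C6Six.mk σ.t (Pi.single 0 c) *
      (σ.P : Matrix (Fin 4) (Fin 4) F)ᵀ := by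
    rw [show (Pi.single 0 c : Fin 6 → F) = c • Pi.single 0 1 by simp [← Pi.single_smul], mk_smul,
      Z, Matrix.mul_smul, Matrix.smul_mul]
  rw [e, e']
  constructor
  · intro h
    have hT : IsUnit ((σ.P : Matrix (Fin 4) (Fin 4) F)ᵀ) :=
      (Matrix.isUnit_iff_isUnit_det _).mpr (by
        rw [det_transpose]; exact (Matrix.isUnit_iff_isUnit_det _).mp σ.P.isUnit)
    have := congrArg (crd σ.t) (σ.P.isUnit.mul_left_cancel (hT.mul_right_cancel h))
    rwa [crd_mk σ.ht σ.h2, crd_mk σ.ht σ.h2] at this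
  · intro h; rw [h]

lemma t_ne : σ.t ≠ 0 := fun h => one_ne_zero (α := F) (by
  have := σ.ht
  rw [h] at this
  linear_combination this)

/-- The scalar of order four. -/
noncomputable def iR : GL (Fin 4) F := σ.scalar_mem.choose

lemma iR_mem : σ.iR ∈ R := σ.scalar_mem.choose_spec.1

lemma iR_val : (σ.iR : Matrix (Fin 4) (Fin 4) F) = σ.t • 1 := σ.scalar_mem.choose_spec.2

lemma iR_sc : C6Dim4.IsSc σ.iR := ⟨σ.t, σ.iR_val⟩

lemma std_iR : σ.std σ.iR = σ.t • 1 := by
  simp [std_eq, iR_val, Matrix.mul_smul, Matrix.smul_mul]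

lemma std_gamma (j : Fin 4) : σ.std (σ.Φ.γ j.castSucc) = ee σ.t j := σ.std_of_val (σ.hP j)

lemma exists_qR (k : Fin 6) : ∃ u ∈ R, σ.std u = qq σ.t k := by
  obtain ⟨a1, a2, a3, a4, a5⟩ := qq_as_ee σ.ht
  have g := fun j : Fin 4 => σ.Φ.mem j.castSucc
  have n := fun {u : GL (Fin 4) F} (hu : u ∈ R) =>
    (show -u ∈ R by rw [← neg_one_mul]; exact mul_mem σ.Φ.neg hu)
  rcases two_le_cases k with rfl | rfl | rfl | rfl | rfl | rfl
  · exact ⟨1, one_mem R, by rw [std_one, qq_zero]⟩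
  · exact ⟨_, n (mul_mem (mul_mem (g 0) (g 1)) (g 2)),
      by rw [a1, std_neg, std_mul, std_mul, std_gamma, std_gamma, std_gamma]⟩
  · exact ⟨_, n (mul_mem (mul_mem (g 3) (g 1)) (g 2)),
      by rw [a2, std_neg, std_mul, std_mul, std_gamma, std_gamma, std_gamma]⟩
  · exact ⟨_, n (mul_mem (mul_mem (g 0) (g 3)) (g 2)),
      by rw [a3, std_neg, std_mul, std_mul, std_gamma, std_gamma, std_gamma]⟩
  · exact ⟨_, n (mul_mem (mul_mem (g 0) (g 3)) (g 1)),
      by rw [a4, std_neg, std_mul, std_mul, std_gamma, std_gamma, std_gamma]⟩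
  · exact ⟨_, mul_mem σ.iR_mem (mul_mem (mul_mem (g 0) (g 3)) (mul_mem (g 1) (g 2))), by
      rw [a5, std_mul, std_mul, std_mul, std_mul, std_gamma, std_gamma, std_gamma, std_gamma,
        std_iR, Matrix.smul_mul, Matrix.one_mul]⟩

/-- The quotients as elements of the group. -/
noncomputable def qR (k : Fin 6) : GL (Fin 4) F := (σ.exists_qR k).choose

lemma qR_mem (k : Fin 6) : σ.qR k ∈ R := (σ.exists_qR k).choose_spec.1

lemma std_qR (k : Fin 6) : σ.std (σ.qR k) = qq σ.t k := (σ.exists_qR k).choose_spec.2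

lemma qR_S (k : Fin 6) : σ.qR k ∈ S :=
  σ.R_mem _ (σ.qR_mem k) (by rw [← σ.std_det, std_qR, qq_det σ.ht])

lemma qR_sq {k : Fin 6} (hk : k ≠ 0) : σ.qR k * σ.qR k = -1 :=
  σ.std_injective (by rw [std_mul, std_qR, qq_sq σ.ht hk, std_neg, std_one])

lemma psi_qR {k : Fin 6} (hk : k ≠ 0) : σ.psi (σ.qR k) = dl 0 k := by
  rw [psi, std_qR, phi_qq σ.ht σ.h2 hk]

/-- A subgroup containing the scalars of `R` and the first four involutions contains `R`. -/
lemma R_le_of {K : Subgroup (GL (Fin 4) F)} (hsc : ∀ u ∈ R, C6Dim4.IsSc u → u ∈ K)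
    (hg : ∀ j : Fin 4, σ.Φ.γ j.castSucc ∈ K) : R ≤ K := by
  classical
  set Φ := σ.Φ
  set e := Φ.γ (Fin.last 4) with he
  set m := Φ.γ (0 : Fin 4).castSucc * Φ.γ (1 : Fin 4).castSucc * Φ.γ (2 : Fin 4).castSucc *
    Φ.γ (3 : Fin 4).castSucc with hm
  have tw : ∀ a b : Fin 4, C6Dim4.Tw (Φ.γ a.castSucc) (Φ.γ b.castSucc) (decide (a ≠ b)) := by
    intro a b
    by_cases hab : a = b
    · subst hab; simp [C6Dim4.Tw, C6Dim4.sgn]
    · simpa [C6Dim4.Tw, C6Dim4.sgn, hab] using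
        Φ.anti _ _ (fun h => hab (Fin.castSucc_injective _ h))
  have hem : C6Dim4.IsSc (e * m) := by
    refine Φ.scal _ (mul_mem (Φ.mem _) (mul_mem (mul_mem (mul_mem (Φ.mem _) (Φ.mem _)) (Φ.mem _))
      (Φ.mem _))) fun b => ?_
    have h1 : C6Dim4.Tw e (Φ.γ b.castSucc) true := Φ.anti _ _ (Fin.castSucc_lt_last b).ne'
    have h3 := h1.mul ((((tw 0 b).mul (tw 1 b)).mul (tw 2 b)).mul (tw 3 b))
    fin_cases b <;> simpa [C6Dim4.Tw, C6Dim4.sgn, hm, he] using h3
  have hmK : m ∈ K := mul_mem (mul_mem (mul_mem (hg 0) (hg 1)) (hg 2)) (hg 3)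
  have heK : e ∈ K := by
    have h1 : e * m ∈ K := hsc _ (mul_mem (Φ.mem _)
      (mul_mem (mul_mem (mul_mem (Φ.mem _) (Φ.mem _)) (Φ.mem _)) (Φ.mem _))) hem
    simpa using mul_mem h1 (inv_mem hmK)
  have hd : ∀ i, Φ.dlt i ∈ K := fun i => mul_mem heK (hg i)
  intro u hu
  have h1 : u * (Φ.rep (Φ.sig u))⁻¹ ∈ K :=
    hsc _ (mul_mem hu (inv_mem (Φ.rep_mem _))) (Φ.decomp hu)
  have h3 : Φ.rep (Φ.sig u) ∈ K := by
    have : ∀ (b : Bool) i, (if b then Φ.dlt i else 1) ∈ K := fun b i => by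
      cases b
      exacts [one_mem _, hd i]
    exact mul_mem (mul_mem (mul_mem (this _ _) (this _ _)) (this _ _)) (this _ _)
  simpa using mul_mem h1 h3

/-- A subgroup containing the scalars of `R` and the five quotients contains `R`. -/
lemma R_le_of_qR {K : Subgroup (GL (Fin 4) F)} (hsc : ∀ u ∈ R, C6Dim4.IsSc u → u ∈ K)
    (hq : ∀ k : Fin 6, k ≠ 0 → σ.qR k ∈ K) : R ≤ K := by
  obtain ⟨b0, b1, b2, b3, -⟩ := ee_eq σ.ht
  refine σ.R_le_of hsc fun j => ?_
  have q := fun k : Fin 6 => fun h : k ≠ 0 => hq k h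
  have hneg : (-1 : GL (Fin 4) F) ∈ K := hsc _ σ.Φ.neg C6Dim4.isSc_neg_one
  obtain rfl | rfl | rfl | rfl := (by decide : ∀ j : Fin 4, j = 0 ∨ j = 1 ∨ j = 2 ∨ j = 3) j
  · rw [σ.std_injective (a₁ := σ.Φ.γ (0 : Fin 4).castSucc) (a₂ := σ.qR 1 * σ.qR 3 * σ.qR 4)
      (by rw [std_gamma, std_mul, std_mul, std_qR, std_qR, std_qR, b0])]
    exact mul_mem (mul_mem (q 1 (by decide)) (q 3 (by decide))) (q 4 (by decide))
  · rw [σ.std_injective (a₁ := σ.Φ.γ (1 : Fin 4).castSucc)
      (a₂ := -1 * (σ.qR 1 * σ.qR 2 * σ.qR 4))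
      (by rw [std_gamma, std_mul, std_mul, std_mul, std_qR, std_qR, std_qR, std_neg, std_one, b1,
        neg_one_mul])]
    exact mul_mem hneg (mul_mem (mul_mem (q 1 (by decide)) (q 2 (by decide))) (q 4 (by decide)))
  · rw [σ.std_injective (a₁ := σ.Φ.γ (2 : Fin 4).castSucc)
      (a₂ := -1 * σ.iR * (σ.qR 4 * σ.qR 5))
      (by rw [std_gamma, std_mul, std_mul, std_mul, std_qR, std_qR, std_neg, std_one, std_iR, b2,
        neg_one_mul, Matrix.neg_mul, Matrix.smul_mul, Matrix.one_mul, neg_smul])]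
    exact mul_mem (mul_mem hneg (hsc _ σ.iR_mem σ.iR_sc))
      (mul_mem (q 4 (by decide)) (q 5 (by decide)))
  · rw [σ.std_injective (a₁ := σ.Φ.γ (3 : Fin 4).castSucc) (a₂ := σ.qR 2 * σ.qR 3 * σ.qR 4)
      (by rw [std_gamma, std_mul, std_mul, std_qR, std_qR, std_qR, b3])]
    exact mul_mem (mul_mem (q 2 (by decide)) (q 3 (by decide))) (q 4 (by decide))

/-- Sufficient for normalising `R`. -/
lemma normal_of {x : GL (Fin 4) F} (h : ∀ k : Fin 6, k ≠ 0 → x * σ.qR k * x⁻¹ ∈ R) :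
    x ∈ Geo.subgroupNormalizer R := by
  refine C6Dim4.mem_nz fun u hu => ?_
  have := σ.R_le_of_qR (K := R.comap (MulAut.conj x).toMonoidHom) ?_ (fun k hk => by
    show x * σ.qR k * x⁻¹ ∈ R
    exact h k hk) hu
  · exact this
  · intro v hv hs
    show x * v * x⁻¹ ∈ R
    rwa [← hs.comm x, mul_inv_cancel_right]

lemma psi_R {u : GL (Fin 4) F} (hu : u ∈ R) : Dg (σ.psi u) := by
  let K : Subgroup (GL (Fin 4) F) :=
    { carrier := {v | v ∈ R ∧ Dg (σ.psi v)}
      one_mem' := ⟨one_mem R, by rw [psi_one]; exact Dg.one⟩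
      mul_mem' := fun a b => ⟨mul_mem a.1 b.1, by rw [psi_mul]; exact a.2.mul b.2⟩
      inv_mem' := by
        intro v hv
        refine ⟨inv_mem hv.1, ?_⟩
        rcases σ.Φ.sqr v hv.1 with e | e
        · rw [inv_eq_of_mul_eq_one_right e]; exact hv.2
        · rw [inv_eq_of_mul_eq_one_right (show v * -v = 1 by rw [mul_neg, e, neg_neg]), psi,
            std_neg, ← neg_one_smul F (σ.std v), phi_smul, neg_one_mul, neg_neg, one_smul]
          exact hv.2 }
  refine (σ.R_le_of_qR (K := K) (fun v hv hs => ⟨hv, ?_⟩) (fun k hk => ⟨σ.qR_mem k, ?_⟩) hu).2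
  · obtain ⟨c, hc⟩ := hs
    have : σ.std v = c • 1 := by simp [std_eq, hc, Matrix.mul_smul, Matrix.smul_mul]
    rw [psi, this, phi_smul, phi_one σ.ht σ.h2]
    exact Dg.one.smul _
  · rw [psi_qR σ hk]; exact Dg.of_dl 0 k

lemma mon_of_normal {x : GL (Fin 4) F} (hx : x ∈ S) (hN : x ∈ Geo.subgroupNormalizer R) :
    Mon (σ.psi x) := by
  refine Mon.of_normalising σ.h2 (mul_eq_one_comm.mp (σ.psi_orth hx)) fun k hk => ?_
  rw [← σ.psi_inv hx, ← σ.psi_qR hk, ← psi_mul, ← psi_mul]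
  have hu : x⁻¹ * σ.qR k * x ∈ R := by
    simpa using (Subgroup.mem_normalizer_iff.1 (inv_mem hN) (σ.qR k)).1 (σ.qR_mem k)
  exact σ.psi_R hu

lemma normal_of_mon {x : GL (Fin 4) F} (hx : x ∈ S) (hm : Mon (σ.psi x)) :
    x ∈ Geo.subgroupNormalizer R := by
  obtain ⟨π, r, hπ⟩ := hm.exists_sp (σ.psi_orth hx)
  have hY : ∀ k : Fin 6, C6Six.mk σ.t (Pi.single k 1) = qq σ.t k * C6Six.mk σ.t (Pi.single 0 1) := by
    intro k
    have h0 : C6Six.mk σ.t (Pi.single 0 1) * C6Six.mk σ.t (Pi.single 0 1) = -1 := by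
      ext a b; fin_cases a <;> fin_cases b <;> simp [C6Six.mk, Matrix.mul_apply, Fin.sum_univ_succ]
    rw [qq, Matrix.neg_mul, Matrix.mul_assoc, h0, Matrix.mul_neg, neg_neg, Matrix.mul_one]
  have hcol : ∀ k, σ.std x * C6Six.mk σ.t (Pi.single k 1) * (σ.std x)ᵀ =
      (sgn (r k) : F) • C6Six.mk σ.t (Pi.single (π k) 1) := by
    intro k
    rw [conj_mk σ.ht σ.h2, mulVec_single', one_smul, show phi σ.t (σ.std x) = sp π r from hπ,
      col_sp, ← mk_smul]
    congr 1
    simp [← Pi.single_smul]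
  refine σ.normal_of fun k _ => ?_
  have hU : IsUnit (C6Six.mk σ.t (Pi.single 0 1) : Matrix (Fin 4) (Fin 4) F) := by
    refine Matrix.isUnit_iff_isUnit_det _ |>.mpr ?_
    rw [isUnit_iff_ne_zero]
    simp [C6Six.mk, Matrix.det_succ_row_zero, Fin.sum_univ_succ, Fin.succAbove]
  have key : σ.std (x * σ.qR k * x⁻¹ * σ.qR (π 0)) =
      ((sgn (r k) : F) * sgn (r 0)) • σ.std (σ.qR (π k)) := by
    refine hU.mul_right_cancel ?_
    rw [std_mul, std_mul, std_mul, Matrix.mul_assoc _ (σ.std (σ.qR (π 0))), std_qR, std_qR, std_qR,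
      ← hY, Matrix.smul_mul, ← hY]
    have h0 : C6Six.mk σ.t (Pi.single (π 0) 1) =
        (sgn (r 0) : F) • (σ.std x * C6Six.mk σ.t (Pi.single 0 1) * (σ.std x)ᵀ) := by
      rw [hcol, smul_smul, sgn_mul_self, one_smul]
    rw [h0, Matrix.mul_smul]
    calc (sgn (r 0) : F) • (σ.std x * qq σ.t k * σ.std x⁻¹ *
          (σ.std x * C6Six.mk σ.t (Pi.single 0 1) * (σ.std x)ᵀ))
        = (sgn (r 0) : F) • (σ.std x * qq σ.t k * (σ.std x⁻¹ * σ.std x) *
            C6Six.mk σ.t (Pi.single 0 1) * (σ.std x)ᵀ) := by simp only [Matrix.mul_assoc]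
      _ = ((sgn (r k) : F) * sgn (r 0)) • C6Six.mk σ.t (Pi.single (π k) 1) := by
        rw [← std_mul, inv_mul_cancel, std_one, Matrix.mul_one, Matrix.mul_assoc (σ.std x), ← hY,
          hcol, smul_smul, mul_comm]
  have hR : x * σ.qR k * x⁻¹ * σ.qR (π 0) ∈ R := by
    rw [← sgn_xor] at key
    cases hb : xor (r k) (r 0) <;> rw [hb] at key
    · rw [sgn_false, one_smul] at key
      rw [σ.std_injective key]; exact σ.qR_mem _
    · rw [sgn_true, neg_one_smul, ← std_neg] at key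
      rw [σ.std_injective key, ← neg_one_mul]; exact mul_mem σ.Φ.neg (σ.qR_mem _)
  simpa using mul_mem hR (inv_mem (σ.qR_mem (π 0)))

/-- The elements of the group preserving the distinguished matrix. -/
def Stab (M : Subgroup (GL (Fin 4) F)) (x : GL (Fin 4) F) : Prop :=
  x ∈ M ∧ col (σ.psi x) 0 = Pi.single 0 1

lemma scalar_of_emb {u : Matrix (Fin 2 ⊕ Fin 2) (Fin 2 ⊕ Fin 2) F₀} {c : F}
    (hc : emb σ.φ σ.W u = c • 1) : u = u (Sum.inl 0) (Sum.inl 0) • 1 := by
  refine emb_injective σ.φ σ.W ?_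
  have h1 : (Matrix.reindex idx idx u).map σ.φ = c • 1 := by
    have := congrArg (fun M => ((σ.W⁻¹ : GL (Fin 4) F) : Matrix (Fin 4) (Fin 4) F) * M * σ.W) hc
    simp only [emb, ← Matrix.mul_assoc, Units.inv_mul, Matrix.one_mul, Matrix.mul_smul,
      Matrix.smul_mul, Matrix.mul_one] at this
    simpa [Matrix.mul_assoc] using this
  have h2 : σ.φ (u (Sum.inl 0) (Sum.inl 0)) = c := by
    have := congrFun (congrFun h1 (idx (Sum.inl 0))) (idx (Sum.inl 0))
    simpa using this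
  rw [hc, emb]
  simp [Matrix.reindex_apply, Matrix.submatrix_smul, Matrix.map_smul', h2, Matrix.mul_smul,
    Matrix.smul_mul]

/-- The embedded symplectic dichotomy. -/
theorem stab_cases {M : Subgroup (GL (Fin 4) F)}
    (hNM : Geo.subgroupNormalizer R ⊓ S ≤ M) (hMS : M ≤ S) :
    (∀ x, σ.Stab M x → Mon (σ.psi x)) ∨ (∀ x ∈ S, col (σ.psi x) 0 = Pi.single 0 1 → x ∈ M) := by
  haveI := Fact.mk σ.hp
  haveI : CharP F₀ σ.p := charP_of_card_eq_prime σ.hF₀
  set f := embU σ.φ σ.W with hf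
  have finj : Function.Injective f := embU_injective _ _
  have fneg : ∀ A, f (-A) = -f A := embU_neg _ _
  have fS : ∀ A ∈ spGL 2 F₀, f A ∈ S := fun A hA => σ.emb_mem A hA _ rfl
  have surj : ∀ x ∈ S, col (σ.psi x) 0 = Pi.single 0 1 → ∃ A ∈ spGL 2 F₀, f A = x := by
    intro x hx hc
    have h := (σ.moves_Z x 1).mpr hc
    rw [one_smul] at h
    obtain ⟨A, hA, e⟩ := σ.emb_surj x hx h
    exact ⟨A, hA, Units.ext e.symm⟩
  -- the five involutions
  have hg : ∀ k : Fin 5, ∃ A ∈ spGL 2 F₀, f A = σ.iR * σ.qR k.succ := by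
    intro k
    have hk : k.succ ≠ (0 : Fin 6) := Fin.succ_ne_zero k
    have hS' : σ.iR * σ.qR k.succ ∈ S := by
      refine σ.R_mem _ (mul_mem σ.iR_mem (σ.qR_mem _)) ?_
      rw [← σ.std_det, std_mul, std_iR, std_qR, det_mul, qq_det σ.ht, det_smul, det_one,
        Fintype.card_fin]
      linear_combination (σ.t * σ.t - 1) * σ.ht
    refine surj _ hS' ?_
    rw [psi, std_mul, std_iR, std_qR, Matrix.smul_mul, Matrix.one_mul, phi_smul,
      phi_qq σ.ht σ.h2 hk, σ.ht]
    funext i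
    by_cases hi : i = 0
    · subst hi; simp [dl, sp_apply]
    · simp [dl, sp_apply, hi]
  choose A hA hAf using hg
  set R1 : Subgroup (GL (Fin 2 ⊕ Fin 2) F₀) := R.comap f ⊓ spGL 2 F₀ with hR1
  have hAR : ∀ k, A k ∈ R1 := fun k =>
    ⟨show f (A k) ∈ R by rw [hAf]; exact mul_mem σ.iR_mem (σ.qR_mem _), hA k⟩
  have hneg : (-1 : GL (Fin 2 ⊕ Fin 2) F₀) ∈ spGL 2 F₀ := C6Dim4.mem_sp.2 (by simp)
  have h2' : (2 : F₀) ≠ 0 := fun e =>
    σ.h2 ((map_ofNat σ.φ 2).symm.trans ((congrArg σ.φ e).trans (map_zero _)))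
  have sfA : ∀ k, σ.std (f (A k)) = σ.t • qq σ.t k.succ := fun k => by
    rw [hAf, std_mul, std_iR, std_qR, Matrix.smul_mul, Matrix.one_mul]
  have hiRc : ∀ {g h : GL (Fin 4) F}, g * (σ.iR * h) = σ.iR * h * g → g * h = h * g := by
    intro g h e
    rw [← mul_assoc, ← σ.iR_sc.comm g, mul_assoc, mul_assoc] at e
    exact mul_left_cancel e
  let Φ1 : C6Dim4.Frame R1 :=
    { γ := A
      h2 := h2'
      card4 := by simp
      mem := hAR
      neg := ⟨show f (-1) ∈ R by rw [fneg, map_one]; exact σ.Φ.neg, hneg⟩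
      sq := fun k => finj (σ.std_injective (by
        rw [map_mul, std_mul, sfA, map_one, std_one, Matrix.smul_mul, Matrix.mul_smul, smul_smul,
          qq_sq σ.ht (Fin.succ_ne_zero k), σ.ht, neg_one_smul, neg_neg]))
      anti := fun i j hij => finj (σ.std_injective (by
        rw [map_mul, std_mul, fneg, map_mul, std_neg, std_mul, sfA, sfA, Matrix.smul_mul,
          Matrix.mul_smul, Matrix.smul_mul, Matrix.mul_smul,
          qq_anti σ.ht (Fin.succ_ne_zero i) (Fin.succ_ne_zero j)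
            (fun h => hij (Fin.succ_injective _ h)), smul_neg, smul_neg]))
      sqr := fun u hu => by
        rcases σ.Φ.sqr (f u) hu.1 with e | e
        · exact Or.inl (finj (by rw [map_mul, e, map_one]))
        · exact Or.inr (finj (by rw [map_mul, e, fneg, map_one]))
      cc := fun u hu v hv => by
        rcases σ.Φ.cc (f u) hu.1 (f v) hv.1 with e | e
        · exact Or.inl (finj (by rw [map_mul, map_mul, e]))
        · exact Or.inr (finj (by rw [map_mul, fneg, map_mul, e]))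
      scal := fun u hu h => by
        have hq : ∀ k : Fin 6, k ≠ 0 → f u * σ.qR k = σ.qR k * f u := by
          have h4 : ∀ j : Fin 4, f u * σ.qR j.castSucc.succ = σ.qR j.castSucc.succ * f u :=
            fun j => hiRc (by rw [← hAf, ← map_mul, h j, map_mul])
          have c1 := h4 0; have c2 := h4 1; have c3 := h4 2; have c4 := h4 3
          intro k hk
          rcases two_le_cases k with rfl | rfl | rfl | rfl | rfl | rfl
          · exact absurd rfl hk
          · exact c1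
          · exact c2
          · exact c3
          · exact c4
          · have e5 : σ.qR 5 = -1 * σ.iR * (σ.qR 1 * σ.qR 2 * (σ.qR 3 * σ.qR 4)) :=
              σ.std_injective (by
                simp only [std_mul, std_qR, std_iR, std_neg, std_one, neg_one_mul, Matrix.neg_mul,
                  Matrix.smul_mul, Matrix.one_mul]
                rw [(ee_eq σ.ht).2.2.2.2, neg_smul])
            rw [e5]
            have a : Commute (f u) (-1 * σ.iR) :=
              Commute.mul_right (C6Dim4.isSc_neg_one.comm (f u)).symm (σ.iR_sc.comm (f u)).symm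
            have d1 : Commute (f u) (σ.qR 1) := c1
            have d2 : Commute (f u) (σ.qR 2) := c2
            have d3 : Commute (f u) (σ.qR 3) := c3
            have d4 : Commute (f u) (σ.qR 4) := c4
            exact a.mul_right ((d1.mul_right d2).mul_right (d3.mul_right d4))
        have hK := σ.R_le_of_qR (K := Subgroup.centralizer {f u})
          (fun v _ hv => Subgroup.mem_centralizer_iff.2 fun y hy => by
            rw [Set.mem_singleton_iff] at hy; rw [hy, hv.comm])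
          (fun k hk => Subgroup.mem_centralizer_iff.2 fun y hy => by
            rw [Set.mem_singleton_iff] at hy; rw [hy, hq k hk])
        obtain ⟨c, hc⟩ := σ.Φ.scal (f u) hu.1 fun j =>
          Subgroup.mem_centralizer_iff.1 (hK (σ.Φ.mem _)) _ rfl
        have hc' : emb σ.φ σ.W (u : Matrix _ _ F₀) = c • 1 := hc
        refine ⟨(u : Matrix (Fin 2 ⊕ Fin 2) (Fin 2 ⊕ Fin 2) F₀) (Sum.inl 0) (Sum.inl 0), ?_⟩
        exact σ.scalar_of_emb hc'
      comm := fun X hX => by
        set Y := emb σ.φ σ.W X with hY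
        let K : Subgroup (GL (Fin 4) F) :=
          { carrier := {v | Y * (v : Matrix (Fin 4) (Fin 4) F) = (v : Matrix (Fin 4) (Fin 4) F) * Y}
            one_mem' := by simp
            mul_mem' := fun {a b} (ha : Y * _ = _) (hb : Y * _ = _) => by
              show Y * _ = _
              rw [Units.val_mul, ← Matrix.mul_assoc, ha, Matrix.mul_assoc, hb, ← Matrix.mul_assoc]
            inv_mem' := fun {a} (ha : Y * _ = _) => by
              show Y * _ = _
              rw [Units.eq_inv_mul_iff_mul_eq, ← Matrix.mul_assoc, ← ha, Matrix.mul_assoc,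
                Units.mul_inv, Matrix.mul_one] }
        have hK := σ.R_le_of_qR (K := K) (fun v _ hv => by
            obtain ⟨c, hc⟩ := hv
            show Y * _ = _
            rw [hc, Matrix.mul_smul, Matrix.smul_mul, Matrix.mul_one, Matrix.one_mul])
          (fun k hk => by
            obtain ⟨l, rfl⟩ : ∃ l : Fin 5, l.succ = k := ⟨k.pred hk, Fin.succ_pred k hk⟩
            show Y * _ = _
            have h1 := congrArg (emb σ.φ σ.W) (hX (A l) (hAR l))
            rw [emb_mul, emb_mul, ← hY, ← coe_embU, show embU σ.φ σ.W (A l) = f (A l) from rfl,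
              hAf, Units.val_mul, iR_val, Matrix.smul_mul, Matrix.one_mul, Matrix.mul_smul,
              Matrix.smul_mul] at h1
            exact smul_right_injective _ σ.t_ne h1)
        obtain ⟨c, hc⟩ := σ.Φ.comm Y fun v hv => hK hv
        exact ⟨_, σ.scalar_of_emb hc⟩ }
  have hR1sp : R1 ≤ spGL 2 F₀ := inf_le_right
  have hnorm : ∀ g : GL (Fin 2 ⊕ Fin 2) F₀, g ∈ Geo.subgroupNormalizer R1 →
      f g ∈ Geo.subgroupNormalizer R := by
    intro g hgN
    refine σ.normal_of fun k hk => ?_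
    obtain ⟨l, rfl⟩ : ∃ l : Fin 5, l.succ = k := ⟨k.pred hk, Fin.succ_pred k hk⟩
    have h1 : f (g * A l * g⁻¹) ∈ R := ((Subgroup.mem_normalizer_iff.1 hgN _).1 (hAR l)).1
    rw [map_mul, map_mul, map_inv, hAf, ← mul_assoc, ← σ.iR_sc.comm (f g), mul_assoc σ.iR,
      mul_assoc σ.iR] at h1
    simpa using mul_mem (inv_mem σ.iR_mem) h1
  have hNM1 : Geo.subgroupNormalizer R1 ⊓ spGL 2 F₀ ≤ M.comap f ⊓ spGL 2 F₀ :=
    fun g hg => ⟨hNM ⟨hnorm g hg.1, fS g hg.2⟩, hg.2⟩
  rcases C6Units.le_or_top Φ1 hR1sp hNM1 inf_le_right σ.hF₀ σ.hp2 with h | h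
  · left
    rintro x ⟨hxM, hc⟩
    obtain ⟨B, hB, rfl⟩ := surj x (hMS hxM) hc
    exact σ.mon_of_normal (hMS hxM) (hnorm B (h ⟨hxM, hB⟩))
  · right
    intro x hx hc
    obtain ⟨B, hB, rfl⟩ := surj x hx hc
    exact (h hB).1

/-- The monoid of induced matrices. -/
def image (M : Subgroup (GL (Fin 4) F)) : Submonoid (Matrix (Fin 6) (Fin 6) F) :=
  M.toSubmonoid.map ({ toFun := σ.psi, map_one' := σ.psi_one, map_mul' := σ.psi_mul } :
    GL (Fin 4) F →* Matrix (Fin 6) (Fin 6) F)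

lemma mem_image {M : Subgroup (GL (Fin 4) F)} {h : Matrix (Fin 6) (Fin 6) F} :
    h ∈ σ.image M ↔ ∃ x ∈ M, σ.psi x = h := Iff.rfl

lemma turn {M : Subgroup (GL (Fin 4) F)} (hNM : Geo.subgroupNormalizer R ⊓ S ≤ M)
    {k l : Fin 6} (hk : k ≠ 0) (hl : l ≠ 0) :
    ∃ x, (x ∈ M ∧ x ∈ S) ∧ σ.psi x =
      sp (swap 0 k) (fun a => decide (a = k)) * sp (swap 0 l) (fun a => decide (a = l)) := by
  obtain ⟨h1, h3⟩ := phi_turns σ.ht σ.h2 hk hl
  set T := (2 : F)⁻¹ • ((1 + qq σ.t k) * (1 + qq σ.t l)) with hT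
  let y : GL (Fin 4) F := Matrix.GeneralLinearGroup.mkOfDetNeZero T (by rw [h3]; exact one_ne_zero)
  set x := σ.P * y * σ.P⁻¹ with hx
  have hstd : σ.std x = T := by
    rw [std, hx, show σ.P⁻¹ * (σ.P * y * σ.P⁻¹) * σ.P = y by group]; rfl
  have hdet : (x : Matrix (Fin 4) (Fin 4) F).det = 1 := by rw [← σ.std_det, hstd, h3]
  have hxS : x ∈ S := by
    refine σ.ga_mem _ (σ.qR_mem k) _ (σ.qR_mem l) (σ.qR_sq hk) (σ.qR_sq hl) x ?_ hdet
    have e : ∀ u : GL (Fin 4) F, (1 + (u : Matrix (Fin 4) (Fin 4) F)) * σ.P =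
        (σ.P : Matrix (Fin 4) (Fin 4) F) * (1 + σ.std u) := fun u => by
      rw [Matrix.add_mul, Matrix.mul_add, P_std, Matrix.one_mul, Matrix.mul_one]
    have h4 : (x : Matrix (Fin 4) (Fin 4) F) * σ.P = (σ.P : Matrix (Fin 4) (Fin 4) F) * T := by
      rw [← hstd, P_std]
    have h5 : (2 : F)⁻¹ • ((1 + (σ.qR k : Matrix (Fin 4) (Fin 4) F)) *
        (1 + (σ.qR l : Matrix (Fin 4) (Fin 4) F))) * σ.P =
        (σ.P : Matrix (Fin 4) (Fin 4) F) * T := by
      rw [Matrix.smul_mul, Matrix.mul_assoc, e, ← Matrix.mul_assoc, e, std_qR, std_qR, hT,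
        Matrix.mul_smul, Matrix.mul_assoc]
    exact σ.P.isUnit.mul_right_cancel (h4.trans h5.symm)
  have hpsi : σ.psi x = sp (swap 0 k) (fun a => decide (a = k)) *
      sp (swap 0 l) (fun a => decide (a = l)) := by rw [psi, hstd, h1]
  exact ⟨x, ⟨hNM ⟨σ.normal_of_mon hxS (hpsi ▸ (Mon.of_sp _ _).mul (Mon.of_sp _ _)), hxS⟩, hxS⟩,
    hpsi⟩

include σ in
theorem maximal :
    Geo.IsMaximalIn S (Geo.subgroupNormalizer R ⊓ S) := by
  refine ⟨lt_of_le_of_ne inf_le_right fun e => ?_, fun M hNM hMS => ?_⟩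
  · obtain ⟨x, hx, hnm⟩ := σ.proper
    have hN : x ∈ Geo.subgroupNormalizer R ⊓ S := by rw [e]; exact hx
    exact hnm (σ.mon_of_normal hx hN.1)
  have hq : ∀ k : Fin 6, k ≠ 0 → σ.qR k ∈ M := fun k _ =>
    hNM ⟨Subgroup.le_normalizer (σ.qR_mem k), σ.qR_S k⟩
  rcases σ.stab_cases hNM hMS with hstab | htop
  swap
  · right
    obtain ⟨y, ⟨hyM, -⟩, hy⟩ := σ.turn hNM (show (1 : Fin 6) ≠ 0 by decide)
      (show (2 : Fin 6) ≠ 0 by decide)
    refine σ.top M hMS (fun x hx c hc hxZ => ?_) y hyM fun c hc => ?_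
    · have hcol := (σ.moves_Z x c).mp hxZ
      rcases hc with rfl | rfl
      · exact htop x hx hcol
      · have h1 : x * σ.qR 1 ∈ M := by
          refine htop _ (mul_mem hx (σ.qR_S 1)) ?_
          rw [psi_mul, col_mul, σ.psi_qR (by decide), dl, col_sp, mulVec_single', Perm.one_apply, hcol]
          simp [← Pi.single_smul, ← Pi.single_neg]
        simpa using mul_mem h1 (inv_mem (hq 1 (by decide)))
    · have hcol := congrFun ((σ.moves_Z y c).mp hc) 2
      rw [hy, col_mul, col_sp, sp_single] at hcol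
      simp [swap_apply_def] at hcol
  left
  refine le_antisymm (fun x hx => ⟨σ.normal_of_mon (hMS hx) ?_, hMS hx⟩) hNM
  set H := σ.image M with hH
  have hmem : ∀ x ∈ M, σ.psi x ∈ H := fun x hx => ⟨x, hx, rfl⟩
  -- signed permutations
  have hsign : ∀ s : Fin 6 → Bool, par s = 1 → sp 1 s ∈ H := by
    have hB : ∀ (b : Bool) (k : Fin 6), k ≠ 0 →
        sp 1 (fun i => b && decide (i = 0 ∨ i = k)) ∈ H := by
      intro b k hk
      cases b
      · simpa [sp_one] using H.one_mem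
      · have := hmem _ (hq k hk)
        rw [σ.psi_qR hk] at this
        unfold dl at this
        simpa using this
    intro s hs
    have e : s = fun i => xor (s 1 && decide (i = 0 ∨ i = 1)) (xor (s 2 && decide (i = 0 ∨ i = 2))
        (xor (s 3 && decide (i = 0 ∨ i = 3)) (xor (s 4 && decide (i = 0 ∨ i = 4))
          (s 5 && decide (i = 0 ∨ i = 5))))) := by
      revert s; decide
    rw [e]
    have key : ∀ u v : Fin 6 → Bool, sp 1 u ∈ H → sp 1 v ∈ H →
        sp 1 (fun i => xor (u i) (v i)) ∈ H := fun u v hu hv => by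
      have := H.mul_mem hu hv
      rwa [sp_mul, one_mul] at this
    exact key _ _ (hB _ 1 (by decide)) (key _ _ (hB _ 2 (by decide)) (key _ _ (hB _ 3 (by decide))
      (key _ _ (hB _ 4 (by decide)) (hB _ 5 (by decide)))))
  let A : Perm (Fin 6) → Prop := fun π => ∃ s, sp π s ∈ H
  have Amul : ∀ {a b}, A a → A b → A (a * b) := by
    rintro a b ⟨s, hs⟩ ⟨r, hr⟩
    exact ⟨_, by rw [← sp_mul]; exact H.mul_mem hs hr⟩
  have A1 : A 1 := ⟨fun _ => false, by rw [sp_one]; exact H.one_mem⟩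
  have Apair : ∀ k l : Fin 6, k ≠ 0 → l ≠ 0 → A (swap 0 k * swap 0 l) := by
    intro k l hk hl
    obtain ⟨y, ⟨hyM, -⟩, hy⟩ := σ.turn hNM hk hl
    rw [sp_mul] at hy
    exact ⟨_, hy ▸ hmem y hyM⟩
  have A01 : ∀ a b : Fin 6, a ≠ b → A (swap a b * swap 0 1) := by
    intro a b hab
    by_cases ha : a = 0
    · subst ha; exact Apair b 1 hab.symm (by decide)
    by_cases hb : b = 0
    · subst hb; rw [Equiv.swap_comm]; exact Apair a 1 ha (by decide)
    have e : swap a b = swap 0 a * swap 0 b * swap 0 a := by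
      rw [Equiv.swap_comm 0 b, swap_mul_swap_mul_swap hb hab.symm]
    rw [e, mul_assoc _ (swap 0 a) (swap 0 1)]
    exact Amul (Apair a b ha hb) (Apair a 1 ha (by decide))
  have A10 : ∀ a b : Fin 6, a ≠ b → A (swap 0 1 * swap a b) := by
    intro a b hab
    by_cases ha : a = 0
    · subst ha; exact Apair 1 b (by decide) hab.symm
    by_cases hb : b = 0
    · subst hb; rw [Equiv.swap_comm a]; exact Apair 1 a (by decide) ha
    have e : swap a b = swap 0 a * swap 0 b * swap 0 a := by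
      rw [Equiv.swap_comm 0 b, swap_mul_swap_mul_swap hb hab.symm]
    rw [e, mul_assoc (swap 0 a), ← mul_assoc]
    exact Amul (Apair 1 a (by decide) ha) (Apair b a hb ha)
  have Aall : ∀ π : Perm (Fin 6), (Perm.sign π = 1 → A π) ∧
      (Perm.sign π = -1 → A (swap 0 1 * π)) := by
    intro π
    induction π using Equiv.Perm.swap_induction_on with
    | one => exact ⟨fun _ => A1, fun h => absurd h (by simp)⟩
    | swap_mul g a b hab ih =>
      rcases Int.units_eq_one_or (Perm.sign g) with e | e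
      · refine ⟨fun h => ?_, fun _ => ?_⟩
        · rw [Perm.sign_mul, Perm.sign_swap hab, e] at h; exact absurd h (by decide)
        · rw [← mul_assoc]; exact Amul (A10 a b hab) (ih.1 e)
      · refine ⟨fun _ => ?_, fun h => ?_⟩
        · have := Amul (A01 a b hab) (ih.2 e)
          rwa [mul_assoc, ← mul_assoc (swap 0 1), Equiv.swap_mul_self, one_mul] at this
        · rw [Perm.sign_mul, Perm.sign_swap hab, e] at h; exact absurd h (by decide)
  have hdet : ∀ h ∈ H, h.det = 1 := by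
    rintro h ⟨y, hy, rfl⟩
    exact phi_det σ.ht σ.h2 ((σ.std_det y).trans (σ.S_det y (hMS hy)))
  have hmon : ∀ π s, Perm.sign π = 1 → par s = 1 → sp π s ∈ H := by
    intro π s hπ hs
    obtain ⟨r, hr⟩ := (Aall π).1 hπ
    have hpr : par r = 1 := by
      have h := hdet _ hr
      rw [sp_det, hπ, one_mul] at h
      rcases Int.units_eq_one_or (par r) with e | e
      · exact e
      · rw [e] at h; push_cast at h; exact absurd (by linear_combination -h) σ.h2
    have h1 := H.mul_mem hr (hsign (fun a => xor (r a) (s a)) (by rw [par_xor, hpr, hs, one_mul]))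
    rw [sp_mul, mul_one] at h1
    convert h1 using 2
    funext a
    simp only [Perm.one_apply]
    cases r a <;> cases s a <;> rfl
  have hsix : Six H := by
    refine ⟨σ.h2, ?_, ?_, hdet, hmon, ?_⟩
    · rintro h ⟨y, hy, rfl⟩; exact σ.psi_orth (hMS hy)
    · rintro h ⟨y, hy, rfl⟩; exact ⟨y⁻¹, M.inv_mem hy, σ.psi_inv (hMS hy)⟩
    intro h hh a ha
    obtain ⟨π, hπ, hπa⟩ := exists_move a 0
    set q : Matrix (Fin 6) (Fin 6) F := sp π (fun _ => false) with hqdef
    have hqH : q ∈ H := hmon π _ hπ par_false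
    have hqtH : qᵀ ∈ H := by
      rw [hqdef, sp_transpose]
      exact hmon _ _ (by rw [Perm.sign_inv, hπ]) (by simpa using par_false)
    set h' := qᵀ * h * q with hh'
    have hh'H : h' ∈ H := H.mul_mem (H.mul_mem hqtH hh) hqH
    suffices hm' : Mon h' by
      have e : h = q * h' * qᵀ := by
        rw [hh', ← Matrix.mul_assoc, ← Matrix.mul_assoc, sp_mul_transpose, Matrix.one_mul,
          Matrix.mul_assoc, sp_mul_transpose, Matrix.mul_one]
      rw [e, hqdef]
      refine ((Mon.of_sp _ _).mul hm').mul ?_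
      rw [sp_transpose]; exact Mon.of_sp _ _
    obtain ⟨y, hy, hye⟩ := hh'H
    change σ.psi y = h' at hye
    have hc : col h' 0 = Pi.single 0 (h a a) := by
      have e1 : col h a = Pi.single a (h a a) := by
        funext i
        by_cases hi : i = a
        · subst hi; simp
        · simp [hi, ha i hi]
      rw [hh', Matrix.mul_assoc, col_mul, col_mul, hqdef, col_sp, sgn_false, hπa, mulVec_single',
        one_smul, e1, sp_transpose, sp_single, ← hπa]
      simp
    have hn : (h a a - 1) * (h a a + 1) = 0 := by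
      have h1 := dot_col_of_orth (σ.psi_orth (hMS hy)) 0 0
      rw [if_pos rfl, hye, hc, single_dotProduct] at h1
      simp at h1
      linear_combination h1
    rcases mul_eq_zero.mp hn with e | e
    · rw [← hye]
      exact hstab y ⟨hy, by rw [hye, hc, sub_eq_zero.mp e]⟩
    · have h1 : Mon (σ.psi (y * σ.qR 1)) := by
        refine hstab _ ⟨mul_mem hy (hq 1 (by decide)), ?_⟩
        rw [psi_mul, col_mul, σ.psi_qR (by decide), dl, col_sp, mulVec_single', Perm.one_apply, hye, hc,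
          eq_neg_of_add_eq_zero_left e]
        simp [← Pi.single_smul, ← Pi.single_neg]
      have e2 : σ.psi y = σ.psi (y * σ.qR 1) * dl 0 1 := by
        rw [psi_mul, σ.psi_qR (by decide), Matrix.mul_assoc, dl_sq, Matrix.mul_one]
      rw [← hye, e2]
      exact h1.mul (Mon.dl _ _)
  exact hsix.all_mon (hmem x hx)

end Setting

end Cfsg.Agent.C6Six
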