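import Cfsg.Agent.C6Six.Setting
import Cfsg.Agent.C6Dim4.Build
import Cfsg.Agent.C6Dim4.Linear
import Cfsg.Agent.Aschbacher.Composite.Six
import Cfsg.Agent.GeomMax32.Linear

/-!
The data for the special linear group `SL₄(p)` and a symplectic-type group of order `2⁶` (helper66).
-/

set_option autoImplicit false
set_option linter.unusedSectionVars false
set_option maxHeartbeats 1000000
set_option linter.deprecated false
set_option linter.style.haveILetI false

namespace Cfsg.Agent.C6Six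

open Matrix

variable {F : Type*} [Field F]

lemma mk_zero_sq (t : F) : mk t (Pi.single 0 1) * mk t (Pi.single 0 1) = -1 := by
  rw [← neg_eq_iff_eq_neg]
  exact qq_zero t

/-- Elements fixing `P Y₀ Pᵀ` are symplectic in the coordinates given by `P`. -/
lemma sl_emb_surj [Fintype F] (t : F) (P x : GL (Fin 4) F)
    (hx : (x : Matrix (Fin 4) (Fin 4) F) * ((P : Matrix (Fin 4) (Fin 4) F) *
      mk t (Pi.single 0 1) * (P : Matrix (Fin 4) (Fin 4) F)ᵀ) *
        (x : Matrix (Fin 4) (Fin 4) F)ᵀ = (P : Matrix (Fin 4) (Fin 4) F) *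
      mk t (Pi.single 0 1) * (P : Matrix (Fin 4) (Fin 4) F)ᵀ) :
    ∃ A ∈ Cfsg.spGL 2 F, (x : Matrix (Fin 4) (Fin 4) F) = emb (RingHom.id F) P A := by
  set Y := mk t (Pi.single 0 (1 : F)) with hY
  set Pm := (P : Matrix (Fin 4) (Fin 4) F) with hPm
  set Q := ((P⁻¹ : GL (Fin 4) F) : Matrix (Fin 4) (Fin 4) F) with hQ
  have hPQ : Pm * Q = 1 := by rw [hPm, hQ, ← Units.val_mul, mul_inv_cancel, Units.val_one]
  have hQP : Q * Pm = 1 := by rw [hPm, hQ, ← Units.val_mul, inv_mul_cancel, Units.val_one]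
  set B := Q * (x : Matrix (Fin 4) (Fin 4) F) * Pm with hB
  have hBY : B * Y * Bᵀ = Y := by
    have e : B * Y * Bᵀ = Q * (Pm * Y * Pmᵀ) * Qᵀ := by
      conv_rhs => rw [← hx]
      simp only [hB, Matrix.transpose_mul, Matrix.mul_assoc]
    rw [e, ← Matrix.mul_assoc, ← Matrix.mul_assoc, hQP, Matrix.one_mul, Matrix.mul_assoc,
      ← Matrix.transpose_mul, hQP, Matrix.transpose_one, Matrix.mul_one]
  set A := (Matrix.reindexAlgEquiv F F idx).symm B with hA
  have hBA : Matrix.reindex idx idx A = B := by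
    rw [hA, ← Matrix.reindexAlgEquiv_apply F F, AlgEquiv.apply_symm_apply]
  have hAJ : A * Matrix.J (Fin 2) F * Aᵀ = Matrix.J (Fin 2) F := by
    apply (Matrix.reindexAlgEquiv F F idx).injective
    rw [map_mul, map_mul, Matrix.reindexAlgEquiv_apply, Matrix.reindexAlgEquiv_apply,
      Matrix.reindexAlgEquiv_apply, ← Matrix.transpose_reindex, hBA, reindex_J t, ← hY, hBY]
  have hAmem : A ∈ Matrix.symplecticGroup (Fin 2) F := SymplecticGroup.mem_iff.2 hAJ
  refine ⟨Matrix.GeneralLinearGroup.mkOfDetNeZero A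
    (by rw [SymplecticGroup.det_eq_one hAmem]; exact one_ne_zero), ?_, ?_⟩
  · exact C6Dim4.mem_sp.2 (SymplecticGroup.mem_iff'.1 hAmem)
  · show (x : Matrix (Fin 4) (Fin 4) F) = Pm * (Matrix.reindex idx idx A).map (RingHom.id F) * Q
    rw [hBA, RingHom.coe_id, Matrix.map_id, hB, ← Matrix.mul_assoc, ← Matrix.mul_assoc, hPQ,
      Matrix.one_mul, Matrix.mul_assoc, hPQ, Matrix.mul_one]

/-- A transvection whose image in degree six is not monomial. -/
lemma sl_proper [Fintype F] {t : F} (ht : t * t = -1) (h2 : (2 : F) ≠ 0) (P : GL (Fin 4) F) :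
    ∃ x ∈ Geo.specialLinear (Fin 4) F,
      ¬ Mon (phi t (((P⁻¹ * x * P : GL (Fin 4) F)) : Matrix (Fin 4) (Fin 4) F)) := by
  set T := Matrix.transvection (0 : Fin 4) 1 (1 : F) with hT
  have hd : T.det = 1 := Matrix.det_transvection_of_ne _ _ (by decide) _
  set g := Matrix.GeneralLinearGroup.mkOfDetNeZero T (by rw [hd]; exact one_ne_zero) with hg
  refine ⟨P * g * P⁻¹, C6Dim4.mem_sl.2 ?_, ?_⟩
  · rw [Units.val_mul, Units.val_mul, Matrix.det_mul, Matrix.det_mul, mul_comm, ← mul_assoc,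
      ← Matrix.det_mul, ← Units.val_mul, inv_mul_cancel, Units.val_one, Matrix.det_one, one_mul]
    exact hd
  · rw [show P⁻¹ * (P * g * P⁻¹) * P = g by group]
    intro hm
    obtain ⟨b, hb⟩ := hm 4
    change ∀ i, i ≠ b → phi t T i 4 = 0 at hb
    have ht0 : t ≠ 0 := fun h => by simp [h] at ht
    have h4 : phi t T 4 4 ≠ 0 := by
      simp [phi, crd, mk, hT, Matrix.transvection, Matrix.mul_apply, Fin.sum_univ_four,
        Matrix.one_apply, Matrix.single, h2, one_add_one_eq_two]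
    have h5 : phi t T 5 4 ≠ 0 := by
      simp [phi, crd, mk, hT, Matrix.transvection, Matrix.mul_apply, Fin.sum_univ_four,
        Matrix.one_apply, Matrix.single, h2, one_add_one_eq_two]
    have e4 : (4 : Fin 6) = b := by_contra fun h => h4 (hb 4 h)
    have e5 : (5 : Fin 6) = b := by_contra fun h => h5 (hb 5 h)
    exact absurd (e4.trans e5.symm) (by decide)

/-- A subgroup of the special linear group containing all symplectic similitudes of `P Y₀ Pᵀ` and
moving that line is the whole group. -/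
lemma sl_top [Fintype F] {t : F} (ht : t * t = -1) (h2 : (2 : F) ≠ 0) (P : GL (Fin 4) F)
    (M : Subgroup (GL (Fin 4) F)) (hM : M ≤ Geo.specialLinear (Fin 4) F)
    (hsim : ∀ x ∈ Geo.specialLinear (Fin 4) F, ∀ c : F, c = 1 ∨ c = -1 →
      (x : Matrix (Fin 4) (Fin 4) F) *
      ((P : Matrix (Fin 4) (Fin 4) F) * mk t (Pi.single 0 1) *
        (P : Matrix (Fin 4) (Fin 4) F)ᵀ) * (x : Matrix (Fin 4) (Fin 4) F)ᵀ =
      c • ((P : Matrix (Fin 4) (Fin 4) F) * mk t (Pi.single 0 1) *
        (P : Matrix (Fin 4) (Fin 4) F)ᵀ) → x ∈ M)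
    {y : GL (Fin 4) F} (hy : y ∈ M) (hmove : ∀ c : F, (y : Matrix (Fin 4) (Fin 4) F) *
      ((P : Matrix (Fin 4) (Fin 4) F) * mk t (Pi.single 0 1) *
        (P : Matrix (Fin 4) (Fin 4) F)ᵀ) * (y : Matrix (Fin 4) (Fin 4) F)ᵀ ≠
      c • ((P : Matrix (Fin 4) (Fin 4) F) * mk t (Pi.single 0 1) *
        (P : Matrix (Fin 4) (Fin 4) F)ᵀ)) :
    M = Geo.specialLinear (Fin 4) F := by
  set Y := mk t (Pi.single 0 (1 : F)) with hY
  set Pm := (P : Matrix (Fin 4) (Fin 4) F) with hPm
  set Q := ((P⁻¹ : GL (Fin 4) F) : Matrix (Fin 4) (Fin 4) F) with hQ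
  have hPQ : Pm * Q = 1 := by rw [hPm, hQ, ← Units.val_mul, mul_inv_cancel, Units.val_one]
  have hQP : Q * Pm = 1 := by rw [hPm, hQ, ← Units.val_mul, inv_mul_cancel, Units.val_one]
  have hYY : Y * Y = -1 := mk_zero_sq t
  set Z := Pm * Y * Pmᵀ with hZ
  set W := Qᵀ * Y * Q with hW
  have hZW : Z * W = -1 := by
    calc Pm * Y * Pmᵀ * (Qᵀ * Y * Q) = Pm * Y * (Pmᵀ * Qᵀ) * Y * Q := by
          simp only [Matrix.mul_assoc]
      _ = Pm * (Y * Y) * Q := by
          rw [← Matrix.transpose_mul, hQP, Matrix.transpose_one, Matrix.mul_one]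
          simp only [Matrix.mul_assoc]
      _ = -1 := by rw [hYY, Matrix.mul_neg, Matrix.mul_one, Matrix.neg_mul, hPQ]
  have hWZ : W * Z = -1 := by
    have h1 : Z * (-W) = 1 := by rw [Matrix.mul_neg, hZW, neg_neg]
    have h2' := mul_eq_one_comm.mp h1
    rw [Matrix.neg_mul] at h2'
    rw [← h2', neg_neg]
  let f : (Fin 4 → F) → (Fin 4 → F) → F := fun u v => u ⬝ᵥ (W *ᵥ v)
  have hWT : Wᵀ = -W := by
    rw [hW, Matrix.transpose_mul, Matrix.transpose_mul, Matrix.transpose_transpose, hY, mk_transpose,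
      Matrix.neg_mul, Matrix.mul_neg, Matrix.mul_assoc]
  have hskew : ∀ v w, f v w = -f w v := fun v w => by
    show v ⬝ᵥ (W *ᵥ w) = -(w ⬝ᵥ (W *ᵥ v))
    rw [Matrix.dotProduct_mulVec v W w, ← Matrix.mulVec_transpose, hWT, Matrix.neg_mulVec,
      neg_dotProduct, dotProduct_comm]
  have hW0 : ∀ v, W *ᵥ v = 0 → v = 0 := fun v hv => by
    have := congrArg (Z *ᵥ ·) hv
    simpa [Matrix.mulVec_mulVec, hZW, Matrix.mulVec_zero, Matrix.neg_mulVec] using this
  have hf : Geo.IsSymplecticForm f :=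
    { bilinear :=
        { add_left := fun x y v => add_dotProduct x y _
          smul_left := fun c x v => by simp [f]
          add_right := fun v x y => by simp [f, Matrix.mulVec_add, dotProduct_add]
          smul_right := fun c v x => by simp [f, Matrix.mulVec_smul] }
      skew := hskew
      alternating := fun v => (mul_eq_zero.mp
        (show (2 : F) * f v v = 0 by linear_combination hskew v v)).resolve_left h2
      nondegenerate := fun v hv => by
        obtain ⟨i, hi⟩ := Function.ne_iff.mp fun h => hv (hW0 v h)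
        have h1 : f (Pi.single i 1) v ≠ 0 := by simpa [f] using hi
        exact ⟨⟨_, h1⟩, ⟨Pi.single i 1, by rw [hskew, neg_ne_zero]; exact h1⟩⟩ }
  have key : ∀ g : GL (Fin 4) F, g ∈ Geo.similarityGroup f → ∃ c : F,
      (g : Matrix (Fin 4) (Fin 4) F) * Z * (g : Matrix (Fin 4) (Fin 4) F)ᵀ = c • Z := by
    rintro g ⟨c, hc⟩
    set G := (g : Matrix (Fin 4) (Fin 4) F) with hG
    have e : Gᵀ * W * G = (c : F) • W := by
      ext i j
      have := hc (Pi.single i 1) (Pi.single j 1)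
      simp only [f] at this
      rw [Matrix.mulVec_mulVec, dotProduct_comm, Matrix.dotProduct_mulVec,
        ← Matrix.mulVec_transpose, Matrix.mulVec_mulVec, dotProduct_comm] at this
      simpa [Matrix.mul_assoc] using this
    have e1 : Z * Gᵀ * W * G = -((c : F) • (1 : Matrix (Fin 4) (Fin 4) F)) := by
      rw [Matrix.mul_assoc, Matrix.mul_assoc, ← Matrix.mul_assoc Gᵀ, e, Matrix.mul_smul, hZW, smul_neg]
    have e2 : G * (Z * Gᵀ * W) = -((c : F) • (1 : Matrix (Fin 4) (Fin 4) F)) := by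
      have h1 : (-((c : F)⁻¹) • (Z * Gᵀ * W)) * G = 1 := by
        rw [Matrix.smul_mul, e1, neg_smul, smul_neg, neg_neg, smul_smul, inv_mul_cancel₀ c.ne_zero,
          one_smul]
      have h2' := congrArg ((-(c : F)) • ·) (mul_eq_one_comm.mp h1)
      simp only [Matrix.mul_smul, smul_smul, neg_mul_neg, mul_inv_cancel₀ c.ne_zero, one_smul] at h2'
      rw [h2', neg_smul]
    refine ⟨c, ?_⟩
    have e3 := congrArg (· * Z) e2
    simp only [Matrix.mul_assoc, hWZ, Matrix.mul_neg, Matrix.mul_one, Matrix.neg_mul, Matrix.smul_mul,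
      Matrix.one_mul, neg_inj] at e3
    rw [Matrix.mul_assoc, e3]
  have hpf : ∀ (a : F) (N : Matrix (Fin 4) (Fin 4) F), pfaff (a • N) = a * a * pfaff N := fun a N => by
    simp [pfaff]; ring
  have hZ0 : pfaff Z ≠ 0 := by
    rw [hZ, pfaff_conj _ _ (mk_transpose _ _) h2, pfaff_mk ht]
    simpa using ((Matrix.isUnit_iff_isUnit_det _).1 P.isUnit).ne_zero
  have hZT : Zᵀ = -Z := by
    rw [hZ, Matrix.transpose_mul, Matrix.transpose_mul, Matrix.transpose_transpose, hY, mk_transpose,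
      Matrix.neg_mul, Matrix.mul_neg, Matrix.mul_assoc]
  have hHM : Geo.similarityGroup f ⊓ Geo.specialLinear (Fin 4) F ≤ M := by
    rintro g ⟨hg, hg1⟩
    obtain ⟨c, hc⟩ := key g hg
    refine hsim g hg1 c (mul_self_eq_one_iff.mp ?_) hc
    have h1 := congrArg pfaff hc
    rw [pfaff_conj _ _ hZT h2, C6Dim4.mem_sl.1 hg1, one_mul, hpf] at h1
    exact mul_right_cancel₀ hZ0 (h1.symm.trans (one_mul _).symm)
  rcases (GeomMax32.Linear.symplectic 4 le_rfl f hf).2 M hHM hM with h | h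
  · rw [h] at hy
    obtain ⟨c, hc⟩ := key y hy.1
    exact absurd hc (hmove c)
  · exact h

/-- The data for `SL₄(p)`. -/
theorem sl_setting [Fintype F] (p : ℕ) (R : Subgroup (GL (Fin 4) F)) (hp : p.Prime)
    (hF : Fintype.card F = p) (h4 : p % 4 = 1) (hR : Geo.IsLinearSymplecticTypeData 2 R) :
    Nonempty (Setting F R (Geo.specialLinear (Fin 4) F)) := by
  haveI : Fact p.Prime := ⟨hp⟩
  haveI : CharP F p := charP_of_card_eq_prime hF
  have hp2 : p ≠ 2 := by omega
  have h2 : (2 : F) ≠ 0 := C6Dim4.two_ne hp2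
  have hSC := (Aschbacher.symplecticData (by simp) hR).2.2.1
  obtain ⟨hs, hi, q, e, hrq, -, hd⟩ := hR
  have hZ : Nat.card (Subgroup.center R) = 4 := by
    rcases hd with ⟨h, -⟩ | ⟨-, -, h, -⟩ | ⟨-, -, h, -⟩
    · exact absurd h (by decide)
    · exact h
    · simp at h
  have h64 : Nat.card R = 64 := by rw [hSC.card_eq, hZ, Fintype.card_fin]; norm_num
  have Pr := C6Dim4.pre_of h2 (Fintype.card_fin 4) hs hi (Or.inl ⟨h64, hZ⟩)
  obtain ⟨i₀, hiR, hi₀, his⟩ := C6Dim4.exists_i (Fintype.card_fin 4) hs hi Pr hZ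
  obtain ⟨Φ⟩ := C6Dim4.frame_four Pr hiR hi₀ his
  obtain ⟨t, htm⟩ := id his
  have ht : t * t = -1 := by
    have := congrArg Units.val hi₀
    rw [Units.val_mul, htm, Units.val_neg, Units.val_one, Matrix.smul_mul, Matrix.one_mul, smul_smul,
      ← neg_one_smul F (1 : Matrix (Fin 4) (Fin 4) F)] at this
    exact smul_left_injective F (one_ne_zero (α := Matrix (Fin 4) (Fin 4) F)) this
  obtain ⟨P, hP⟩ := exists_basis Φ ht
  exact ⟨{
    t := t
    ht := ht
    h2 := h2
    Φ := Φ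
    P := P
    hP := hP
    scalar_mem := ⟨i₀, hiR, htm⟩
    S_det := fun x hx => C6Dim4.mem_sl.1 hx
    R_mem := fun u _ h => C6Dim4.mem_sl.2 h
    ga_mem := fun _ _ _ _ _ _ x _ h => C6Dim4.mem_sl.2 h
    p := p
    hp := hp
    hp2 := hp2
    hF₀ := hF
    φ := RingHom.id F
    W := P
    emb_mem := fun A hA x hx => by
      refine C6Dim4.mem_sl.2 ?_
      rw [hx, emb, Matrix.det_mul, Matrix.det_mul, RingHom.coe_id, Matrix.map_id,
        Matrix.det_reindex_self, C6Dim4.det_sp hA, mul_one, ← Matrix.det_mul, ← Units.val_mul,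
        mul_inv_cancel, Units.val_one, Matrix.det_one]
    emb_surj := fun x _ hx => sl_emb_surj t P x hx
    proper := sl_proper ht h2 P
    top := fun M hM hsim y hy hmove => sl_top ht h2 P M hM hsim hy hmove }⟩

end Cfsg.Agent.C6Six
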