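import Cfsg.Agent.C6Six.Maximal
import Cfsg.Agent.C6Six.SLSetting

/-!
The normaliser of a symplectic-type group of order `2⁶` is maximal in `SL₄(p)` (helper66).
-/

set_option autoImplicit false

namespace Cfsg.Agent.C6Six

/-- The normaliser of a symplectic-type group of order `2⁶` is maximal in `SL₄(p)`. -/
theorem sl_maximal {F : Type*} [Field F] [Fintype F] (p : ℕ) (R : Subgroup (Matrix.GeneralLinearGroup (Fin 4) F))
    (hp : p.Prime) (hF : Fintype.card F = p) (h4 : p % 4 = 1) (hR : Cfsg.Geo.IsLinearSymplecticTypeData 2 R) :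
    Cfsg.Geo.IsMaximalIn (Cfsg.Geo.specialLinear (Fin 4) F)
      (Cfsg.Geo.subgroupNormalizer R ⊓ Cfsg.Geo.specialLinear (Fin 4) F) := by
  obtain ⟨s⟩ := sl_setting p R hp hF h4 hR
  exact s.maximal

end Cfsg.Agent.C6Six
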