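import Cfsg.Agent.C6Six.SUSetting
import Cfsg.Agent.C6Six.Maximal

/-!
# The normaliser of a symplectic-type group is maximal in `SU₄(p)` (clause 9 of S5783)
-/

set_option autoImplicit false

namespace Cfsg.Agent.C6Six

theorem su_maximal {F : Type*} [Field F] [Fintype F] (q : ℕ) (hF : Fintype.card F = q ^ 2) :
    (∀ (p : ℕ) (R : Subgroup (Matrix.GeneralLinearGroup (Fin 4) F)), p.Prime → q = p → p % 4 = 3 → Cfsg.Geo.IsSymplecticTypeGroup 2 R → Cfsg.Geo.ActsAbsolutelyIrreducibly (Cfsg.Geo.matrixSet R) → R ≤ Cfsg.GU 4 F q → Nat.card R = 64 → Nat.card (Subgroup.center R) = 4 → Cfsg.Geo.IsMaximalIn (Cfsg.GU 4 F q ⊓ Cfsg.Geo.specialLinear (Fin 4) F) (Cfsg.Geo.subgroupNormalizer R ⊓ (Cfsg.GU 4 F q ⊓ Cfsg.Geo.specialLinear (Fin 4) F))) := by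
  intro p R hp hqp hp4 hS habs hRU hcard hZ
  obtain ⟨F₀, _, ⟨s⟩⟩ := su_setting q hF p R hp hqp hp4 hS habs hRU hcard hZ
  exact s.maximal

end Cfsg.Agent.C6Six
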