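import Cfsg.Agent.C6Six.Setting
import Cfsg.Agent.C6Dim4.Build
import Cfsg.Agent.C6Dim4.Unitary
import Cfsg.Agent.C6Dim4.Linear
import Cfsg.Agent.SU4Geo98.SubfieldSp

/-!
# The unitary setting (helper98)
-/

set_option autoImplicit false
set_option linter.unusedSectionVars false
set_option linter.unusedSimpArgs false
set_option maxHeartbeats 2000000

namespace Cfsg.Agent.C6Six

open Matrix

variable {F : Type*} [Field F]

/-- The change of coordinates from the symplectic to the unitary frame. -/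
def tm (t l : F) : Matrix (Fin 4) (Fin 4) F :=
  !![1, t, 0, 0; -l, l * t, 0, 0; 0, 0, 1, t; 0, 0, -l, l * t]

/-- The inverse of `tm`. -/
def tmi (t l : F) : Matrix (Fin 4) (Fin 4) F :=
  (2 * l * t)⁻¹ • !![l * t, -t, 0, 0; l, 1, 0, 0; 0, 0, l * t, -t; 0, 0, l, 1]

lemma tm_mul_tmi {t l : F} (h : 2 * l * t ≠ 0) : tm t l * tmi t l = 1 := by
  rw [tmi, Matrix.mul_smul, inv_smul_eq_iff₀ h]
  ext a b
  fin_cases a <;> fin_cases b <;> simp [tm, Matrix.mul_apply, Fin.sum_univ_four] <;> ring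

/-- The first standard alternating matrix. -/
abbrev y0 (t : F) : Matrix (Fin 4) (Fin 4) F := mk t (Pi.single 0 1)

lemma y0_sq (t : F) : y0 t * y0 t = -1 := by
  ext a b
  fin_cases a <;> fin_cases b <;> simp [mk, Matrix.mul_apply, Fin.sum_univ_four]

lemma tm_y0 (t l : F) : tm t l * y0 t * (tm t l)ᵀ = (2 * l * t) • y0 t := by
  ext a b
  fin_cases a <;> fin_cases b <;> simp [tm, mk, Matrix.mul_apply, Fin.sum_univ_four] <;> ring

lemma conjT_of_y0 {t : F} (h2 : (2 : F) ≠ 0) {B : Matrix (Fin 4) (Fin 4) F} {c : F}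
    (h : Bᵀ * y0 t * B = c • y0 t) (hc : c ≠ 0) : B * y0 t * Bᵀ = c • y0 t := by
  have hY : ∀ X : Matrix (Fin 4) (Fin 4) F, y0 t * (y0 t * X) = -X := fun X => by
    rw [← Matrix.mul_assoc, y0_sq, Matrix.neg_mul, Matrix.one_mul]
  have h1 : (-(c⁻¹)) • (y0 t * Bᵀ * y0 t) * B = 1 := by
    rw [Matrix.smul_mul, Matrix.mul_assoc (y0 t) Bᵀ, Matrix.mul_assoc (y0 t), h, Matrix.mul_smul,
      y0_sq, smul_smul, neg_mul, inv_mul_cancel₀ hc, neg_one_smul, neg_neg]
  have h2' := mul_eq_one_comm.mp h1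
  rw [Matrix.mul_smul] at h2'
  have h3 := congrArg (fun X => (-c) • (X * y0 t)) h2'
  simp only [Matrix.smul_mul, smul_smul, Matrix.one_mul] at h3
  rw [show -c * -c⁻¹ = 1 by field_simp, one_smul] at h3
  simp only [Matrix.mul_assoc, y0_sq, Matrix.mul_neg, Matrix.mul_one] at h3
  rw [neg_smul, neg_inj, ← Matrix.mul_assoc] at h3
  exact h3

lemma sq_of_conj {t : F} (ht : t * t = -1) (h2 : (2 : F) ≠ 0) {B : Matrix (Fin 4) (Fin 4) F} {c : F}
    (hB : B.det = 1) (h : B * y0 t * Bᵀ = c • y0 t) : c * c = 1 := by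
  have e := pfaff_conj B (y0 t) (mk_transpose t _) h2
  rw [h, hB, one_mul, ← mk_smul, pfaff_mk ht, pfaff_mk ht] at e
  simpa [smul_dotProduct, dotProduct_smul] using e

/-- A scalar matrix from the commutation with the four monomial involutions. -/
lemma eq_smul_one_of_ee {t : F} (ht : t * t = -1) (h2 : (2 : F) ≠ 0)
    {G : Matrix (Fin 4) (Fin 4) F} (h : ∀ j, G * ee t j = ee t j * G) : G = G 0 0 • 1 := by
  have t0 : t ≠ 0 := fun e => by simp [e] at ht
  have a0 : ∀ a b, (G * ee t 0) a b = (ee t 0 * G) a b := fun a b => by rw [h]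
  have a1 : ∀ a b, (G * ee t 1) a b = (ee t 1 * G) a b := fun a b => by rw [h]
  have a2 : ∀ a b, (G * ee t 2) a b = (ee t 2 * G) a b := fun a b => by rw [h]
  have a3 : ∀ a b, (G * ee t 3) a b = (ee t 3 * G) a b := fun a b => by rw [h]
  have z : ∀ x : F, x = -x → x = 0 := fun x e =>
    (mul_eq_zero.mp (show (2 : F) * x = 0 by linear_combination e)).resolve_left h2
  have z' : ∀ x : F, -x = x → x = 0 := fun x e => z x e.symm
  have b01 := a0 0 1
  have b10 := a0 1 0
  have b02 := a0 0 2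
  have b20 := a0 2 0
  have b13 := a0 1 3
  have b31 := a0 3 1
  have b23 := a0 2 3
  have b32 := a0 3 2
  simp [ee, Matrix.mul_apply, Fin.sum_univ_four] at b01 b10 b02 b20 b13 b31 b23 b32
  have c1 := a1 0 2
  have c2 := a2 0 2
  have c1' := a1 2 0
  have c2' := a2 2 0
  have c3 := a1 0 1
  have c4 := a1 2 3
  have c5 := a3 0 2
  simp [ee, Matrix.mul_apply, Fin.sum_univ_four] at c1 c2 c1' c2' c3 c4 c5
  have g03 : G 0 3 = 0 := z _ (mul_left_cancel₀ t0 (by linear_combination -c2 + t * c1))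
  have g30 : G 3 0 = 0 := z _ (mul_left_cancel₀ t0 (by
    linear_combination (-c2' - t * c1') * 1))
  have g12 : G 1 2 = 0 := by first | linear_combination g03 - c1 | linear_combination g03 + c1
  have g21 : G 2 1 = 0 := by first | linear_combination g30 - c1' | linear_combination g30 + c1'
  have g01 : G 0 1 = 0 := z _ (by first | linear_combination b01 | linear_combination -b01)
  have g10 : G 1 0 = 0 := z _ (by first | linear_combination b10 | linear_combination -b10)
  have g02 : G 0 2 = 0 := z _ (by first | linear_combination b02 | linear_combination -b02)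
  have g20 : G 2 0 = 0 := z _ (by first | linear_combination b20 | linear_combination -b20)
  have g13 : G 1 3 = 0 := z _ (by first | linear_combination b13 | linear_combination -b13)
  have g31 : G 3 1 = 0 := z _ (by first | linear_combination b31 | linear_combination -b31)
  have g23 : G 2 3 = 0 := z _ (by first | linear_combination b23 | linear_combination -b23)
  have g32 : G 3 2 = 0 := z _ (by first | linear_combination b32 | linear_combination -b32)
  have g11 : G 1 1 = G 0 0 := by first | linear_combination c3 | linear_combination -c3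
  have g22 : G 2 2 = G 0 0 := by first | linear_combination c5 | linear_combination -c5
  have g33 : G 3 3 = G 0 0 := by
    first
      | linear_combination g22 + c4
      | linear_combination g22 - c4
  ext a b
  fin_cases a <;> fin_cases b <;>
    simp [g03, g30, g12, g21, g01, g10, g02, g20, g13, g31, g23, g32, g11, g22, g33]

/-- The data for the maximality of the normaliser of a symplectic-type group in `SU₄(p)`. -/
theorem su_setting {F : Type*} [Field F] [Fintype F] (q : ℕ) (hF : Fintype.card F = q ^ 2)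
    (p : ℕ) (R : Subgroup (Matrix.GeneralLinearGroup (Fin 4) F)) (hp : p.Prime) (hqp : q = p)
    (hp4 : p % 4 = 3) (hS : Cfsg.Geo.IsSymplecticTypeGroup 2 R)
    (habs : Cfsg.Geo.ActsAbsolutelyIrreducibly (Cfsg.Geo.matrixSet R)) (hRU : R ≤ Cfsg.GU 4 F q)
    (hcard : Nat.card R = 64) (hZ : Nat.card (Subgroup.center R) = 4) :
    ∃ (F₀ : Subfield F) (_ : Fintype F₀),
      Nonempty (Setting F₀ R (Cfsg.GU 4 F q ⊓ Cfsg.Geo.specialLinear (Fin 4) F)) := by
  classical
  subst hqp
  haveI : Fact q.Prime := ⟨hp⟩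
  haveI hchar : CharP F q := charP_of_card_eq_prime_pow hF
  letI : StarRing F := Forms59.starRingOfCard hF
  have hs : ∀ x : F, star x = x ^ q := fun x => rfl
  have h2 : (2 : F) ≠ 0 := C6Dim4.two_ne (p := q) (by rintro rfl; norm_num at hp4)
  have hpre := C6Dim4.pre_of h2 (Fintype.card_fin 4) hS habs (Or.inl ⟨hcard, hZ⟩)
  obtain ⟨i₀, hiR, hi, his⟩ := C6Dim4.exists_i (Fintype.card_fin 4) hS habs hpre hZ
  obtain ⟨Φ⟩ := C6Dim4.frame_four hpre hiR hi his
  obtain ⟨t, ht'⟩ := his
  have ht : t * t = -1 := by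
    have h := congrArg Units.val hi
    rw [Units.val_mul, ht', Matrix.smul_mul, Matrix.one_mul, smul_smul, Units.val_neg,
      Units.val_one] at h
    simpa using congrFun (congrFun h 0) 0
  have t0 : t ≠ 0 := fun e => by simp [e] at ht
  have htp : star t = -t := by
    obtain ⟨k, hk⟩ : ∃ k, q = 4 * k + 3 := ⟨q / 4, by omega⟩
    rw [hs, hk, pow_add, pow_mul, show t ^ 4 = 1 by linear_combination (t * t - 1) * ht, one_pow,
      one_mul]
    linear_combination t * ht
  -- the prime field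
  let φ₀ := ZMod.castHom (dvd_refl q) F
  let F₀ : Subfield F := φ₀.fieldRange
  haveI : Fintype F₀ := Fintype.ofFinite F₀
  have hF₀ : Nat.card F₀ = q := by
    rw [show Nat.card F₀ = Nat.card (Set.range φ₀) from rfl,
      Nat.card_range_of_injective φ₀.injective, Nat.card_zmod]
  have hfix : ∀ a : F, a ∈ F₀ ↔ star a = a := fun a => by
    have hle : ∀ b ∈ F₀, b ^ q = b := fun b hb => by
      have h := congrArg Subtype.val (FiniteField.pow_card (⟨b, hb⟩ : F₀))
      rw [← Nat.card_eq_fintype_card, hF₀] at h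
      simpa using h
    rw [hs]
    refine ⟨hle a, fun ha => ?_⟩
    let φ : F₀ → {x : F // x ^ q = x} := fun b => ⟨b, hle b b.2⟩
    have hinj : Function.Injective φ := fun b c h => by
      simpa [φ] using h
    obtain ⟨b, hb⟩ := (Nat.bijective_iff_injective_and_card φ).mpr
      ⟨hinj, by rw [hF₀, Unitary.card_fixed hF]⟩ |>.surjective ⟨a, ha⟩
    have hb' : (b : F) = a := congrArg Subtype.val hb
    exact hb' ▸ b.2
  have hstar2 : star (2 : F) = 2 := C6Dim4.star_two
  -- `l` of norm `-1`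
  obtain ⟨σ, hσ, hf⟩ := HermStab.exists_setup (n := 4) hF
  obtain ⟨l, hl'⟩ := MaxSub.exists_norm hf (r := (-1 : F)) (by simp)
  have hl : star l * l = -1 := by rw [hs, ← hσ, hl']
  have hl0 : l ≠ 0 := fun e => by simp [e] at hl
  have hlt : 2 * l * t ≠ 0 := mul_ne_zero (mul_ne_zero h2 hl0) t0
  -- the adapted basis and its Gram matrix
  obtain ⟨P, hP⟩ := exists_basis Φ ht
  set Pm : Matrix (Fin 4) (Fin 4) F := (P : Matrix (Fin 4) (Fin 4) F) with hPm
  set G : Matrix (Fin 4) (Fin 4) F := Pmᴴ * Pm with hG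
  have hee : ∀ j, (ee t j)ᴴ = ee t j := by
    intro j
    ext a b
    fin_cases j <;> fin_cases a <;> fin_cases b <;> simp [ee, htp]
  have heesq : ∀ j, ee t j * ee t j = 1 := by
    intro j
    ext a b
    fin_cases j <;> fin_cases a <;> fin_cases b <;> simp [ee, Matrix.mul_apply, Fin.sum_univ_four] <;>
      linear_combination -ht
  have hcomm : ∀ j, G * ee t j = ee t j * G := by
    intro j
    have hu := (Forms59.mem_GU_iff_conjTranspose hs _).1 (hRU (Φ.mem j.castSucc))
    have e : ee t j * G * ee t j = G := by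
      calc ee t j * G * ee t j = (Pm * ee t j)ᴴ * (Pm * ee t j) := by
            rw [Matrix.conjTranspose_mul, hee, hG]; simp only [Matrix.mul_assoc]
        _ = G := by
            rw [hPm, ← hP j, Matrix.conjTranspose_mul]
            rw [Matrix.mul_assoc, ← Matrix.mul_assoc (Φ.γ j.castSucc : Matrix (Fin 4) (Fin 4) F)ᴴ,
              hu, Matrix.one_mul]
    calc G * ee t j = ee t j * ee t j * G * ee t j := by rw [heesq, Matrix.one_mul]
      _ = ee t j * (ee t j * G * ee t j) := by simp only [Matrix.mul_assoc]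
      _ = ee t j * G := by rw [e]
  set μ := G 0 0 with hμ
  have hGμ : G = μ • 1 := eq_smul_one_of_ee ht h2 hcomm
  have hμ0 : μ ≠ 0 := fun e => by
    have hd := congrArg Matrix.det hGμ
    rw [e, zero_smul, Matrix.det_zero, hG, Matrix.det_mul, Matrix.det_conjTranspose,
      mul_eq_zero] at hd
    have hPd : Pm.det ≠ 0 := Matrix.GeneralLinearGroup.det_ne_zero P
    rcases hd with hd | hd
    · exact hPd (star_eq_zero.mp hd)
    · exact hPd hd
  have hμs : star μ = μ := by
    have h := congrFun (congrFun (Matrix.isHermitian_conjTranspose_mul_self Pm) 0) 0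
    rwa [Matrix.conjTranspose_apply] at h
  -- the symplectic basis
  set W : GL (Fin 4) F := P * ⟨tm t l, tmi t l, tm_mul_tmi hlt,
    mul_eq_one_comm.mp (tm_mul_tmi hlt)⟩ with hW
  set Wm : Matrix (Fin 4) (Fin 4) F := (W : Matrix (Fin 4) (Fin 4) F) with hWm
  set Wi : Matrix (Fin 4) (Fin 4) F := ((W⁻¹ : GL (Fin 4) F) : Matrix (Fin 4) (Fin 4) F) with hWi
  have hWT : Wm = Pm * tm t l := by rw [hWm, hW, Units.val_mul]
  have hWWi : Wm * Wi = 1 := by rw [hWm, hWi, ← Units.val_mul, mul_inv_cancel, Units.val_one]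
  have hWiW : Wi * Wm = 1 := mul_eq_one_comm.mp hWWi
  have hTT : (tm t l)ᴴ * tm t l = (2 * t) • y0 t := by
    have hl2 : star l * l * t = -t := by rw [hl, neg_one_mul]
    ext a b
    fin_cases a <;> fin_cases b <;>
      simp [tm, mk, Matrix.mul_apply, Fin.sum_univ_four, htp] <;>
      first
        | linear_combination hl
        | linear_combination -hl2
        | linear_combination hl2
        | linear_combination -(t * t) * hl
  set ν := 2 * t * μ with hν
  have hν0 : ν ≠ 0 := mul_ne_zero (mul_ne_zero h2 t0) hμ0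
  have hgram : Wmᴴ * Wm = ν • y0 t := by
    rw [hWT, Matrix.conjTranspose_mul, Matrix.mul_assoc, ← Matrix.mul_assoc Pmᴴ, ← hG, hGμ,
      Matrix.smul_mul, Matrix.one_mul, Matrix.mul_smul, hTT, smul_smul, hν]
    congr 1
    ring
  set Z : Matrix (Fin 4) (Fin 4) F := Pm * y0 t * Pmᵀ with hZdef
  have hWZ : Wm * y0 t * Wmᵀ = (2 * l * t) • Z := by
    rw [hWT, Matrix.transpose_mul, hZdef,
      show Pm * tm t l * y0 t * ((tm t l)ᵀ * Pmᵀ) = Pm * (tm t l * y0 t * (tm t l)ᵀ) * Pmᵀ by
        simp only [Matrix.mul_assoc],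
      tm_y0, Matrix.mul_smul, Matrix.smul_mul]
  -- translation of the two conditions into the symplectic basis
  have c2 : ∀ X Y : Matrix (Fin 4) (Fin 4) F, Wm * X * Wi * (Wm * Y) = Wm * (X * Y) := fun X Y => by
    rw [Matrix.mul_assoc, ← Matrix.mul_assoc Wi, hWiW, Matrix.one_mul, Matrix.mul_assoc]
  have condU : ∀ B : Matrix (Fin 4) (Fin 4) F,
      (Wm * B * Wi)ᴴ * (Wm * B * Wi) = 1 ↔ Bᴴ * y0 t * B = y0 t := by
    intro B
    have e : (Wm * B * Wi)ᴴ * (Wm * B * Wi) = Wiᴴ * (ν • (Bᴴ * y0 t * B)) * Wi := by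
      rw [Matrix.conjTranspose_mul, Matrix.conjTranspose_mul]
      calc Wiᴴ * (Bᴴ * Wmᴴ) * (Wm * B * Wi) = Wiᴴ * (Bᴴ * (Wmᴴ * Wm) * B) * Wi := by
            simp only [Matrix.mul_assoc]
        _ = _ := by rw [hgram, Matrix.mul_smul, Matrix.smul_mul]
    have e1 : Wiᴴ * (ν • y0 t) * Wi = 1 := by
      rw [← hgram, ← Matrix.mul_assoc, ← Matrix.conjTranspose_mul, hWWi, Matrix.conjTranspose_one,
        Matrix.one_mul, hWWi]
    rw [e]
    refine ⟨fun h => ?_, fun h => by rw [h, e1]⟩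
    have h' := congrArg (fun X => Wmᴴ * X * Wm) (h.trans e1.symm)
    have cl : ∀ X, Wmᴴ * (Wiᴴ * X * Wi) * Wm = X := fun X => by
      calc Wmᴴ * (Wiᴴ * X * Wi) * Wm = (Wi * Wm)ᴴ * X * (Wi * Wm) := by
            rw [Matrix.conjTranspose_mul]; simp only [Matrix.mul_assoc]
        _ = X := by rw [hWiW, Matrix.conjTranspose_one, Matrix.one_mul, Matrix.mul_one]
    simp only [cl] at h'
    exact smul_right_injective _ hν0 h'
  have condZ : ∀ (B : Matrix (Fin 4) (Fin 4) F) (c : F),
      (Wm * B * Wi) * Z * (Wm * B * Wi)ᵀ = c • Z ↔ B * y0 t * Bᵀ = c • y0 t := by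
    intro B c
    have eZ : Z = (2 * l * t)⁻¹ • (Wm * y0 t * Wmᵀ) := by rw [hWZ, inv_smul_smul₀ hlt]
    have e : (Wm * B * Wi) * Z * (Wm * B * Wi)ᵀ = (2 * l * t)⁻¹ • (Wm * (B * y0 t * Bᵀ) * Wmᵀ) := by
      rw [eZ, Matrix.mul_smul, Matrix.smul_mul]
      congr 1
      calc Wm * B * Wi * (Wm * y0 t * Wmᵀ) * (Wm * B * Wi)ᵀ
          = Wm * B * (Wi * Wm) * y0 t * ((Wi * Wm)ᵀ * Bᵀ * Wmᵀ) := by
            simp only [Matrix.transpose_mul, Matrix.mul_assoc]
        _ = _ := by
            rw [hWiW, Matrix.mul_one, Matrix.transpose_one, Matrix.one_mul]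
            simp only [Matrix.mul_assoc]
    rw [e, eZ, smul_comm c]
    refine ⟨fun h => ?_, fun h => by rw [h, Matrix.mul_smul, Matrix.smul_mul]⟩
    have h' := congrArg (fun X => Wi * X * Wiᵀ) (smul_right_injective _ (inv_ne_zero hlt) h)
    have cl : ∀ X, Wi * (Wm * X * Wmᵀ) * Wiᵀ = X := fun X => by
      calc Wi * (Wm * X * Wmᵀ) * Wiᵀ = (Wi * Wm) * X * (Wi * Wm)ᵀ := by
            rw [Matrix.transpose_mul]; simp only [Matrix.mul_assoc]
        _ = X := by rw [hWiW, Matrix.transpose_one, Matrix.one_mul, Matrix.mul_one]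
    simpa only [cl, Matrix.mul_smul, Matrix.smul_mul] using h'
  have hBdet : ∀ B : Matrix (Fin 4) (Fin 4) F, (Wm * B * Wi).det = B.det := fun B =>
    Matrix.det_units_conj W B
  have repr : ∀ x : GL (Fin 4) F, (x : Matrix (Fin 4) (Fin 4) F) =
      Wm * (Wi * (x : Matrix (Fin 4) (Fin 4) F) * Wm) * Wi := fun x => by
    rw [show Wm * (Wi * (x : Matrix (Fin 4) (Fin 4) F) * Wm) * Wi =
      (Wm * Wi) * (x : Matrix (Fin 4) (Fin 4) F) * (Wm * Wi) by simp only [Matrix.mul_assoc],
      hWWi, Matrix.one_mul, Matrix.mul_one]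
  have hmem : ∀ x : GL (Fin 4) F, x ∈ Cfsg.GU 4 F q ⊓ Cfsg.Geo.specialLinear (Fin 4) F ↔
      (x : Matrix (Fin 4) (Fin 4) F)ᴴ * (x : Matrix (Fin 4) (Fin 4) F) = 1 ∧
        (x : Matrix (Fin 4) (Fin 4) F).det = 1 := fun x => C6Dim4.mem_su hs
  -- the symplectic group over the prime field
  have core : ∀ A : GL (Fin 2 ⊕ Fin 2) F₀, A ∈ Cfsg.spGL 2 F₀ →
      ((Matrix.reindex idx idx (A : Matrix (Fin 2 ⊕ Fin 2) (Fin 2 ⊕ Fin 2) F₀)).map F₀.subtype)ᵀ *
          y0 t * (Matrix.reindex idx idx (A : Matrix (Fin 2 ⊕ Fin 2) (Fin 2 ⊕ Fin 2) F₀)).map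
            F₀.subtype = y0 t := by
    intro A hA
    have h := (Symplectic.mem_iff_form _).mpr hA
    have h' := congrArg (fun M => (Matrix.reindex idx idx M).map F₀.subtype)
      (SymplecticGroup.mem_iff'.mp h)
    simp only [Matrix.reindex_apply] at h' ⊢
    rw [← Matrix.submatrix_mul_equiv _ _ _ idx.symm _, ← Matrix.submatrix_mul_equiv _ _ _ idx.symm _,
      Matrix.map_mul, Matrix.map_mul] at h'
    rw [← Matrix.transpose_submatrix, Matrix.transpose_map] at h'
    have hJ : ((Matrix.J (Fin 2) F₀).submatrix idx.symm idx.symm).map F₀.subtype = y0 t := by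
      show _ = mk t (Pi.single 0 1)
      rw [← reindex_J t]
      ext a b
      simp only [Matrix.map_apply, Matrix.reindex_apply, Matrix.submatrix_apply]
      fin_cases a <;> fin_cases b <;> simp [idx, Matrix.J]
    rwa [hJ] at h'
  have emb_mem : ∀ A ∈ Cfsg.spGL 2 F₀, ∀ x : GL (Fin 4) F,
      (x : Matrix (Fin 4) (Fin 4) F) =
        emb F₀.subtype W (A : Matrix (Fin 2 ⊕ Fin 2) (Fin 2 ⊕ Fin 2) F₀) →
      x ∈ Cfsg.GU 4 F q ⊓ Cfsg.Geo.specialLinear (Fin 4) F := by
    intro A hA x hx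
    have hc := core A hA
    set B := (Matrix.reindex idx idx (A : Matrix (Fin 2 ⊕ Fin 2) (Fin 2 ⊕ Fin 2) F₀)).map
      F₀.subtype with hB
    have hreal : Bᴴ = Bᵀ := by
      ext a b
      rw [Matrix.conjTranspose_apply, Matrix.transpose_apply]
      exact (hfix _).mp (SetLike.coe_mem _)
    rw [hmem, hx]
    show (Wm * B * Wi)ᴴ * (Wm * B * Wi) = 1 ∧ (Wm * B * Wi).det = 1
    refine ⟨(condU B).mpr (by rw [hreal]; exact hc), ?_⟩
    rw [hBdet, hB, ← RingHom.mapMatrix_apply, ← RingHom.map_det, Matrix.det_reindex_self,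
      show (A : Matrix (Fin 2 ⊕ Fin 2) (Fin 2 ⊕ Fin 2) F₀).det = 1 from
        SymplecticGroup.det_eq_one ((Symplectic.mem_iff_form _).mpr hA), map_one]
  refine ⟨F₀, inferInstance, ⟨{
    t := t, ht := ht, h2 := h2, Φ := Φ, P := P, hP := hP
    scalar_mem := ⟨i₀, hiR, ht'⟩
    S_det := fun x hx => ((hmem x).mp hx).2
    R_mem := fun u hu hd => ⟨hRU hu, ((C6Dim4.mem_sl).mpr hd : u ∈ _)⟩
    ga_mem := ?_
    p := q, hp := hp, hp2 := fun e => by subst e; norm_num at hp4
    hF₀ := by rw [← Nat.card_eq_fintype_card, hF₀]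
    φ := F₀.subtype, W := W
    emb_mem := fun A hA x hx => emb_mem A hA x hx
    emb_surj := ?_
    proper := ?_
    top := ?_ }⟩⟩
  · -- ga_mem
    intro u hu v hv hu2 hv2 x hx hd
    refine ⟨?_, C6Dim4.mem_sl.mpr hd⟩
    have h3 := C6Dim4.three_mem hs h2 hRU hu hv hu2 hv2
    have hneg : x = -(C6Dim4.scU (Fin 4) (Units.mk0 (-(2 : F)⁻¹) (neg_ne_zero.2 (inv_ne_zero h2))) *
        C6Dim4.ga h2 u hu2 * C6Dim4.ga h2 v hv2) := by
      refine Units.ext ?_
      rw [hx, Units.val_neg, Units.val_mul, Units.val_mul, C6Dim4.coe_scU, Units.val_mk0,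
        C6Dim4.coe_ga, C6Dim4.coe_ga, Matrix.smul_mul, Matrix.one_mul, Matrix.smul_mul, ← neg_smul,
        neg_neg]
    show x ∈ Cfsg.GU 4 F q
    rw [hneg, Forms59.mem_GU_iff_conjTranspose hs, Units.val_neg, Matrix.conjTranspose_neg,
      neg_mul_neg]
    exact (Forms59.mem_GU_iff_conjTranspose hs _).1 h3
  · -- emb_surj
    intro x hx hxZ
    obtain ⟨hu, hd⟩ := (hmem x).mp hx
    set B := Wi * (x : Matrix (Fin 4) (Fin 4) F) * Wm with hB
    rw [repr x, ← hB] at hu hxZ hd
    have hxB : (x : Matrix (Fin 4) (Fin 4) F) = Wm * B * Wi := by rw [hB]; exact repr x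
    clear_value B
    have hU := (condU B).mp hu
    have h1 : B * y0 t * Bᵀ = (1 : F) • y0 t := (condZ B 1).mp (by rw [one_smul]; exact hxZ)
    have hBT : Bᵀ * y0 t * B = (1 : F) • y0 t := by
      have := conjT_of_y0 h2 (B := Bᵀ) (c := 1) (by rwa [Matrix.transpose_transpose]) one_ne_zero
      rwa [Matrix.transpose_transpose] at this
    rw [one_smul] at hBT
    rw [hBdet] at hd
    have hunit : IsUnit (y0 t * B).det := by
      have := congrArg Matrix.det (y0_sq t)
      rw [Matrix.det_mul, Matrix.det_neg, Matrix.det_one] at this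
      rw [Matrix.det_mul, hd, mul_one]
      refine isUnit_iff_ne_zero.mpr fun e => ?_
      rw [e] at this
      norm_num at this
    have hreal : Bᴴ = Bᵀ := by
      refine Matrix.mul_left_injective_of_inv (y0 t * B) ((y0 t * B)⁻¹)
        (Matrix.mul_nonsing_inv _ hunit) ?_
      show Bᴴ * (y0 t * B) = Bᵀ * (y0 t * B)
      rw [← Matrix.mul_assoc, ← Matrix.mul_assoc, hU, hBT]
    have hent : ∀ a b, B a b ∈ F₀ := fun a b => (hfix _).mpr (by
      have := congrFun (congrFun hreal b) a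
      rwa [Matrix.conjTranspose_apply, Matrix.transpose_apply] at this)
    let A0 : Matrix (Fin 2 ⊕ Fin 2) (Fin 2 ⊕ Fin 2) F₀ := fun a b =>
      ⟨B (idx a) (idx b), hent _ _⟩
    have hA0 : (Matrix.reindex idx idx A0).map F₀.subtype = B := by
      ext a b
      rw [Matrix.map_apply, Matrix.reindex_apply, Matrix.submatrix_apply]
      show B (idx (idx.symm a)) (idx (idx.symm b)) = B a b
      rw [Equiv.apply_symm_apply, Equiv.apply_symm_apply]
    have hsp : A0 ∈ Matrix.symplecticGroup (Fin 2) F₀ := by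
      rw [SymplecticGroup.mem_iff']
      refine (Matrix.reindex idx idx).injective (Matrix.map_injective F₀.subtype.injective ?_)
      have hJ : (Matrix.reindex idx idx (Matrix.J (Fin 2) F₀)).map F₀.subtype = y0 t := by
        show _ = mk t (Pi.single 0 1)
        rw [← reindex_J t]
        ext a b
        simp only [Matrix.map_apply, Matrix.reindex_apply, Matrix.submatrix_apply]
        fin_cases a <;> fin_cases b <;> simp [idx, Matrix.J]
      simp only [Matrix.reindex_apply] at hJ hA0 ⊢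
      rw [← Matrix.submatrix_mul_equiv _ _ _ idx.symm _, ← Matrix.submatrix_mul_equiv _ _ _ idx.symm _,
        Matrix.map_mul, Matrix.map_mul, hJ]
      rw [← Matrix.transpose_submatrix, Matrix.transpose_map, hA0]
      exact hBT
    have hA0d : A0.det ≠ 0 := by rw [SymplecticGroup.det_eq_one hsp]; exact one_ne_zero
    refine ⟨Matrix.GeneralLinearGroup.mkOfDetNeZero A0 hA0d, (Symplectic.mem_iff_form _).mp hsp, ?_⟩
    show (x : Matrix (Fin 4) (Fin 4) F) = Wm * (Matrix.reindex idx idx A0).map F₀.subtype * Wi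
    rw [hA0]
    exact hxB
  · -- proper
    let A1 : Matrix (Fin 2 ⊕ Fin 2) (Fin 2 ⊕ Fin 2) F₀ := 1 + Matrix.single (Sum.inr 0) (Sum.inl 0) 1
    have hA1 : A1 ∈ Matrix.symplecticGroup (Fin 2) F₀ := by
      rw [SymplecticGroup.mem_iff']
      ext (a | a) (b | b) <;> fin_cases a <;> fin_cases b <;>
        simp [A1, Matrix.J, Matrix.mul_apply, Matrix.one_apply, Matrix.single]
    have hA1d : A1.det ≠ 0 := by rw [SymplecticGroup.det_eq_one hA1]; exact one_ne_zero
    set B1 := (Matrix.reindex idx idx A1).map F₀.subtype with hB1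
    have hB1d : (Wm * B1 * Wi).det ≠ 0 := by
      rw [hBdet, hB1, ← RingHom.mapMatrix_apply, ← RingHom.map_det, Matrix.det_reindex_self]
      simpa using hA1d
    let x1 : GL (Fin 4) F := Matrix.GeneralLinearGroup.mkOfDetNeZero (Wm * B1 * Wi) hB1d
    refine ⟨x1, emb_mem (Matrix.GeneralLinearGroup.mkOfDetNeZero A1 hA1d)
      ((Symplectic.mem_iff_form _).mp hA1) x1 rfl, fun hmon => ?_⟩
    have hY : ((P⁻¹ * x1 * P : GL (Fin 4) F) : Matrix (Fin 4) (Fin 4) F) =
        tm t l * B1 * tmi t l := by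
      rw [Units.val_mul, Units.val_mul]
      show ((P⁻¹ : GL (Fin 4) F) : Matrix (Fin 4) (Fin 4) F) * (Wm * B1 * Wi) * Pm = _
      have hWi' : Wi = tmi t l * ((P⁻¹ : GL (Fin 4) F) : Matrix (Fin 4) (Fin 4) F) := by
        rw [hWi, hW, _root_.mul_inv_rev, Units.val_mul]
        rfl
      have hPP : ((P⁻¹ : GL (Fin 4) F) : Matrix (Fin 4) (Fin 4) F) * Pm = 1 := by
        rw [hPm, ← Units.val_mul, inv_mul_cancel, Units.val_one]
      rw [hWT, hWi']
      calc ((P⁻¹ : GL (Fin 4) F) : Matrix (Fin 4) (Fin 4) F) * (Pm * tm t l * B1 *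
            (tmi t l * ((P⁻¹ : GL (Fin 4) F) : Matrix (Fin 4) (Fin 4) F))) * Pm
          = (((P⁻¹ : GL (Fin 4) F) : Matrix (Fin 4) (Fin 4) F) * Pm) * (tm t l * B1 * tmi t l) *
            (((P⁻¹ : GL (Fin 4) F) : Matrix (Fin 4) (Fin 4) F) * Pm) := by
            simp only [Matrix.mul_assoc]
        _ = _ := by rw [hPP, Matrix.one_mul, Matrix.mul_one]
    rw [hY] at hmon
    have hB1e : B1 = !![1, 1, 0, 0; 0, 1, 0, 0; 0, 0, 1, 0; 0, 0, 0, 1] := by
      ext a b
      rw [hB1, Matrix.map_apply, Matrix.reindex_apply, Matrix.submatrix_apply]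
      fin_cases a <;> fin_cases b <;> simp [A1, idx, Matrix.one_apply, Matrix.single]
    have hprod : tm t l * B1 * tmi t l =
        !![1 + 1 / (2 * t), 1 / (2 * l * t), 0, 0; -l / (2 * t), 1 - 1 / (2 * t), 0, 0;
           0, 0, 1, 0; 0, 0, 0, 1] := by
      rw [hB1e]
      ext a b
      fin_cases a <;> fin_cases b <;>
        simp [tm, tmi, Matrix.mul_apply, Fin.sum_univ_four] <;> field_simp <;> ring
    rw [hprod] at hmon
    obtain ⟨b, hb⟩ := hmon 4
    have e44 : phi t (!![1 + 1 / (2 * t), 1 / (2 * l * t), 0, 0; -l / (2 * t), 1 - 1 / (2 * t), 0, 0;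
        0, 0, 1, 0; 0, 0, 0, 1] : Matrix (Fin 4) (Fin 4) F) 4 4 = 1 := by
      simp [phi, crd, mk, Matrix.mul_apply, Fin.sum_univ_four]
      field_simp
      ring
    have e34 : phi t (!![1 + 1 / (2 * t), 1 / (2 * l * t), 0, 0; -l / (2 * t), 1 - 1 / (2 * t), 0, 0;
        0, 0, 1, 0; 0, 0, 0, 1] : Matrix (Fin 4) (Fin 4) F) 3 4 = -(1 / 2) := by
      simp [phi, crd, mk, Matrix.mul_apply, Fin.sum_univ_four]
      field_simp
      ring
    by_cases hb3 : b = 3
    · have := hb 4 (by rw [hb3]; decide)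
      rw [e44] at this
      exact one_ne_zero this
    · have := hb 3 (fun e => hb3 e.symm)
      rw [e34] at this
      simp [h2] at this
  · -- top
    intro M hMS hMH y hy hymove
    have hP2 : Cfsg.Geo.IsFormRationalStructure (Cfsg.hermForm 4 F q) F₀ t W ∧
        ∀ u : Fin 4 → F, (∀ i, u i ∈ F₀) → Cfsg.hermForm 4 F q (Wm *ᵥ u) (Wm *ᵥ u) = 0 := by
      have hform : ∀ u v : Fin 4 → F, (∀ i, v i ∈ F₀) →
          Cfsg.hermForm 4 F q (Wm *ᵥ u) (Wm *ᵥ v) = ν * (v ⬝ᵥ y0 t *ᵥ u) := by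
        intro u v hv
        have e : Cfsg.hermForm 4 F q (Wm *ᵥ u) (Wm *ᵥ v) = star (Wm *ᵥ v) ⬝ᵥ (Wm *ᵥ u) := by
          simp [Cfsg.hermForm, dotProduct, hs, mul_comm]
        have hvs : star v = v := funext fun i => (hfix _).mp (hv i)
        rw [e, Matrix.star_mulVec, hvs, ← Matrix.dotProduct_mulVec, Matrix.mulVec_mulVec, hgram,
          Matrix.smul_mulVec, dotProduct_smul, smul_eq_mul]
      have hν' : t * ν ∈ F₀ := by
        rw [hfix, hν, star_mul', star_mul', star_mul', hμs, hstar2, htp]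
        ring
      refine ⟨fun u v hu hv => ?_, fun u hu => ?_⟩
      · rw [← hWm, hform u v hv, ← mul_assoc]
        refine mul_mem hν' (sum_mem fun i _ => mul_mem (hv i) ?_)
        show (∑ j, y0 t i j * u j) ∈ F₀
        refine sum_mem fun j _ => mul_mem ?_ (hu j)
        rw [hfix]
        fin_cases i <;> fin_cases j <;> simp [mk]
      · rw [hform u u hu]
        simp [mk, dotProduct, Matrix.mulVec, Fin.sum_univ_four]
        ring_nf
        try simp
    have hmax := SU4Geo98.sp_maximal q hF F₀ W t (by rw [hF₀]; exact hF) t0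
      (by rw [← hs, htp, add_neg_cancel]) hP2.1 hP2.2
    have hle : Cfsg.Geo.subfieldSubgroup F₀ W ⊓ (Cfsg.GU 4 F q ⊓ Cfsg.Geo.specialLinear (Fin 4) F)
        ≤ {x | x ∈ M ∧ ∃ c : F, (x : Matrix (Fin 4) (Fin 4) F) * Z *
          (x : Matrix (Fin 4) (Fin 4) F)ᵀ = c • Z} := by
      intro x hx
      obtain ⟨hu, hd⟩ := (hmem x).mp hx.2
      set B := Wi * (x : Matrix (Fin 4) (Fin 4) F) * Wm with hB
      rw [repr x, ← hB] at hu hd
      have hU := (condU B).mp hu
      rw [hBdet] at hd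
      obtain ⟨a, ha, hrat⟩ := SubfieldTwo.rat_of_mem hx.1
      have hent : ∀ i j, a * B i j ∈ F₀ := by
        intro i j
        have h := hrat _ (SubfieldTwo.rat_col (F₀ := F₀) (P := W) j) i
        rw [Matrix.mulVec_smul, ← hWi, ← hWm, Matrix.mulVec_mulVec, Matrix.mulVec_mulVec, ← hB]
          at h
        simpa using h
      have hconj : Bᴴ = (a / star a) • Bᵀ := by
        ext i j
        rw [Matrix.conjTranspose_apply, Matrix.smul_apply, Matrix.transpose_apply, smul_eq_mul]
        have h := (hfix _).mp (hent j i)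
        rw [star_mul'] at h
        have hsa : star a ≠ 0 := fun e => ha (star_eq_zero.mp e)
        field_simp
        linear_combination h
      have hc0 : star a / a ≠ 0 := div_ne_zero (fun e => ha (star_eq_zero.mp e)) ha
      rw [hconj, Matrix.smul_mul, Matrix.smul_mul] at hU
      have hT : Bᵀ * y0 t * B = (star a / a) • y0 t := by
        conv_rhs => rw [← hU]
        rw [smul_smul, show star a / a * (a / star a) = 1 by
          have hsa : star a ≠ 0 := fun e => ha (star_eq_zero.mp e)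
          field_simp, one_smul]
      have h2' := conjT_of_y0 h2 hT hc0
      have hsq := sq_of_conj ht h2 hd h2'
      have hz : (x : Matrix (Fin 4) (Fin 4) F) * Z * (x : Matrix (Fin 4) (Fin 4) F)ᵀ =
          (star a / a) • Z := by
        rw [repr x, ← hB]; exact (condZ B _).mpr h2'
      exact ⟨hMH x hx.2 _ (mul_self_eq_one_iff.mp hsq) hz, _, hz⟩
    rcases hmax.2 M (fun x hx => (hle hx).1) hMS with h | h
    · exfalso
      have : y ∈ Cfsg.Geo.subfieldSubgroup F₀ W ⊓
          (Cfsg.GU 4 F q ⊓ Cfsg.Geo.specialLinear (Fin 4) F) := h ▸ hy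
      obtain ⟨-, c, hc⟩ := hle this
      exact hymove c hc
    · exact h

end Cfsg.Agent.C6Six
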