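import Cfsg.Agent.C6Six.Basic

/-!
# The hypothesis on the six-dimensional group
-/

set_option autoImplicit false
set_option linter.unusedSectionVars false

namespace Cfsg.Agent.C6Six

open Matrix Equiv

variable {F : Type*} [Field F]

/-- `H` is a monoid of orthogonal matrices of determinant one, closed under transposition, that
contains the even monomial matrices of determinant one and in which the stabiliser of each
coordinate line is monomial. -/
structure Six (H : Submonoid (Matrix (Fin 6) (Fin 6) F)) : Prop where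
  h2 : (2 : F) ≠ 0
  orth : ∀ h ∈ H, hᵀ * h = 1
  trans_mem : ∀ h ∈ H, hᵀ ∈ H
  det_one : ∀ h ∈ H, h.det = 1
  mon_mem : ∀ σ s, Perm.sign σ = 1 → par s = 1 → sp σ s ∈ H
  stab : ∀ h ∈ H, ∀ a, (∀ i, i ≠ a → h i a = 0) → Mon h

/-- Conjugate of a monoid by a signed permutation. -/
def cnj (H : Submonoid (Matrix (Fin 6) (Fin 6) F)) (π : Perm (Fin 6)) (r : Fin 6 → Bool) :
    Submonoid (Matrix (Fin 6) (Fin 6) F) where
  carrier := {h | sp π r * h * (sp π r)ᵀ ∈ H}
  one_mem' := by
    show sp π r * 1 * (sp π r)ᵀ ∈ H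
    rw [Matrix.mul_one, sp_mul_transpose]
    exact H.one_mem
  mul_mem' := by
    intro a b ha hb
    show sp π r * (a * b) * (sp π r)ᵀ ∈ H
    have e : sp π r * (a * b) * (sp π r)ᵀ =
        (sp π r * a * (sp π r)ᵀ) * (sp π r * b * (sp π r)ᵀ) := by
      simp only [Matrix.mul_assoc]
      rw [← Matrix.mul_assoc (sp π r)ᵀ (sp π r), sp_transpose_mul, Matrix.one_mul]
    rw [e]
    exact H.mul_mem ha hb

lemma mem_cnj {H : Submonoid (Matrix (Fin 6) (Fin 6) F)} {π : Perm (Fin 6)} {r : Fin 6 → Bool}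
    {h : Matrix (Fin 6) (Fin 6) F} :
    h ∈ cnj H π r ↔ sp π r * h * (sp π r)ᵀ ∈ H := Iff.rfl

/-- Pull a matrix back along a signed permutation. -/
def pull (π : Perm (Fin 6)) (r : Fin 6 → Bool) (h : Matrix (Fin 6) (Fin 6) F) :
    Matrix (Fin 6) (Fin 6) F :=
  (sp π r)ᵀ * h * sp π r

lemma pull_apply (π : Perm (Fin 6)) (r : Fin 6 → Bool) (h : Matrix (Fin 6) (Fin 6) F)
    (i a : Fin 6) : pull π r h i a = sgn (r i) * sgn (r a) * h (π i) (π a) := by
  rw [pull, Matrix.mul_apply, Finset.sum_eq_single (π a)]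
  · rw [Matrix.mul_apply, Finset.sum_eq_single (π i)]
    · simp [sp_apply]
      ring
    · intro j _ hj
      simp [sp_apply, hj]
    · simp
  · intro j _ hj
    simp [sp_apply, hj]
  · simp

lemma pull_mul (π : Perm (Fin 6)) (r : Fin 6 → Bool) (g h : Matrix (Fin 6) (Fin 6) F) :
    pull π r (g * h) = pull π r g * pull π r h := by
  simp only [pull, Matrix.mul_assoc]
  rw [← Matrix.mul_assoc (sp π r) (sp π r)ᵀ, sp_mul_transpose, Matrix.one_mul]

lemma pull_transpose (π : Perm (Fin 6)) (r : Fin 6 → Bool) (g : Matrix (Fin 6) (Fin 6) F) :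
    pull π r gᵀ = (pull π r g)ᵀ := by
  simp [pull, Matrix.transpose_mul, Matrix.mul_assoc]

lemma pull_one (π : Perm (Fin 6)) (r : Fin 6 → Bool) :
    pull π r (1 : Matrix (Fin 6) (Fin 6) F) = 1 := by
  simp [pull, sp_transpose_mul]

lemma sp_pull (π : Perm (Fin 6)) (r : Fin 6 → Bool) (g : Matrix (Fin 6) (Fin 6) F) :
    sp π r * pull π r g * (sp π r)ᵀ = g := by
  simp only [pull, Matrix.mul_assoc]
  rw [← Matrix.mul_assoc (sp π r) (sp π r)ᵀ, sp_mul_transpose, Matrix.one_mul, Matrix.mul_one]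

lemma pull_sp (π σ τ : Perm (Fin 6)) (r s t : Fin 6 → Bool) (hστ : ∀ a, σ (π a) = π (τ a))
    (ht : ∀ a, t a = xor (r (τ a)) (xor (s (π a)) (r a))) :
    pull π r (sp σ s : Matrix (Fin 6) (Fin 6) F) = sp τ t := by
  ext i a
  rw [pull_apply, sp_apply, sp_apply, hστ, ht]
  by_cases h : i = τ a
  · subst h
    rw [if_pos rfl, if_pos rfl]
    simp only [sgn_xor]
    ring
  · rw [if_neg (fun hh => h (π.injective hh)), if_neg h, mul_zero]

lemma Mon.pull {h : Matrix (Fin 6) (Fin 6) F} (hm : Mon h) (π : Perm (Fin 6))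
    (r : Fin 6 → Bool) : Mon (C6Six.pull π r h) := by
  refine (Mon.mul ?_ hm).mul (Mon.of_sp π r)
  rw [sp_transpose]
  exact Mon.of_sp _ _

lemma Mon.of_pull {h : Matrix (Fin 6) (Fin 6) F} {π : Perm (Fin 6)} {r : Fin 6 → Bool}
    (hm : Mon (C6Six.pull π r h)) : Mon h := by
  rw [← sp_pull π r h]
  refine ((Mon.of_sp π r).mul hm).mul ?_
  rw [sp_transpose]
  exact Mon.of_sp _ _

lemma exists_move (a b : Fin 6) :
    ∃ σ : Perm (Fin 6), Perm.sign σ = 1 ∧ σ b = a := by
  by_cases h : a = b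
  · exact ⟨1, by simp, by simp [h]⟩
  · obtain ⟨x, hxa, hxb⟩ : ∃ x, x ≠ a ∧ x ≠ b :=
      (by decide : ∀ a b : Fin 6, ∃ x, x ≠ a ∧ x ≠ b) a b
    refine ⟨swap a x * swap b x, ?_, ?_⟩
    · simp [Perm.sign_mul, Perm.sign_swap hxa.symm, Perm.sign_swap hxb.symm]
    · simp

lemma par_pair {a b : Fin 6} (h : a ≠ b) : par (fun i => decide (i = a ∨ i = b)) = 1 := by
  revert a b
  decide

lemma conj_col {g q : Matrix (Fin 6) (Fin 6) F} (ho : g * gᵀ = 1) {σ : Perm (Fin 6)}
    {s : Fin 6 → Bool} (h : gᵀ * q * g = sp σ s) (i : Fin 6) :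
    q *ᵥ col g i = (sgn (s i) : F) • col g (σ i) := by
  have h1 : q * g = g * sp σ s := by
    rw [← h, ← Matrix.mul_assoc, ← Matrix.mul_assoc, ho, Matrix.one_mul]
  rw [← col_mul, h1, col_mul, col_sp, mulVec_single']

namespace Six

variable {H : Submonoid (Matrix (Fin 6) (Fin 6) F)} (hS : Six H)
include hS

lemma orth' {h : Matrix (Fin 6) (Fin 6) F} (hh : h ∈ H) : h * hᵀ = 1 :=
  mul_eq_one_comm.mp (hS.orth h hh)

lemma dl_mem {a b : Fin 6} (h : a ≠ b) : (dl a b : Matrix (Fin 6) (Fin 6) F) ∈ H :=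
  hS.mon_mem _ _ (by simp) (par_pair h)

lemma neg_one_mem : (-1 : Matrix (Fin 6) (Fin 6) F) ∈ H := by
  rw [← sp_neg_one]
  exact hS.mon_mem _ _ (by simp) par_true

lemma conj_mem {g q : Matrix (Fin 6) (Fin 6) F} (hg : g ∈ H) (hq : q ∈ H) : g * q * gᵀ ∈ H :=
  H.mul_mem (H.mul_mem hg hq) (hS.trans_mem g hg)

lemma conj_mem' {g q : Matrix (Fin 6) (Fin 6) F} (hg : g ∈ H) (hq : q ∈ H) : gᵀ * q * g ∈ H :=
  H.mul_mem (H.mul_mem (hS.trans_mem g hg) hq) hg

lemma parity {σ : Perm (Fin 6)} {s : Fin 6 → Bool} (h : sp σ s ∈ H) :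
    Perm.sign σ * par s = 1 := by
  have h1 := hS.det_one _ h
  rw [sp_det] at h1
  rcases Int.units_eq_one_or (Perm.sign σ * par s) with e | e
  · exact e
  · rw [e] at h1
    push_cast at h1
    exact absurd (by linear_combination -h1) hS.h2

lemma cnj_six (π : Perm (Fin 6)) (r : Fin 6 → Bool) : Six (cnj H π r) where
  h2 := hS.h2
  orth := by
    intro h hh
    have h1 := hS.orth _ hh
    have h3 : (sp π r)ᵀ * ((sp π r * h * (sp π r)ᵀ)ᵀ * (sp π r * h * (sp π r)ᵀ)) * sp π r = 1 := by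
      rw [h1, Matrix.mul_one, sp_transpose_mul]
    simpa [Matrix.transpose_mul, Matrix.mul_assoc, ← Matrix.mul_assoc (sp π r)ᵀ (sp π r),
      sp_transpose_mul] using h3
  trans_mem := by
    intro h hh
    have h1 := hS.trans_mem _ hh
    show sp π r * hᵀ * (sp π r)ᵀ ∈ H
    simpa [Matrix.transpose_mul, Matrix.mul_assoc] using h1
  det_one := by
    intro h hh
    have h1 := hS.det_one _ hh
    rw [Matrix.det_mul_right_comm, sp_mul_transpose, Matrix.one_mul] at h1
    exact h1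
  mon_mem := by
    intro σ s hσ hs
    show sp π r * sp σ s * (sp π r)ᵀ ∈ H
    rw [sp_transpose, sp_mul, sp_mul]
    refine hS.mon_mem _ _ ?_ ?_
    · rw [Perm.sign_mul, Perm.sign_mul, hσ, mul_one, ← Perm.sign_mul, mul_inv_cancel, map_one]
    · rw [par_xor, par_comp (fun a => xor (r (σ a)) (s a)), par_xor, par_comp, hs, mul_one,
        par_comp, Int.units_mul_self]
  stab := by
    intro h hh a ha
    have h1 : Mon (sp π r * h * (sp π r)ᵀ) := by
      refine hS.stab _ hh (π a) fun i hi => ?_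
      have e : sp π r * h * (sp π r)ᵀ = pull π⁻¹ (fun a => r (π⁻¹ a)) h := by
        rw [pull, ← sp_transpose, Matrix.transpose_transpose]
      rw [e, pull_apply, Perm.inv_def, Equiv.symm_apply_apply,
        ha _ (fun hh => hi (by rw [← hh]; simp)), mul_zero]
    have h3 := h1.pull π r
    have e : pull π r (sp π r * h * (sp π r)ᵀ) = h := by
      simp only [pull, Matrix.mul_assoc, sp_transpose_mul, Matrix.mul_one]
      rw [← Matrix.mul_assoc, sp_transpose_mul, Matrix.one_mul]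
    rwa [e] at h3

lemma pull_mem {h : Matrix (Fin 6) (Fin 6) F} (hh : h ∈ H) (π : Perm (Fin 6))
    (r : Fin 6 → Bool) : pull π r h ∈ cnj H π r := by
  rw [mem_cnj, sp_pull]
  exact hh

/-- A column supported on one coordinate forces a monomial matrix. -/
lemma col_single {g : Matrix (Fin 6) (Fin 6) F} (hg : g ∈ H) {a b : Fin 6}
    (h : ∀ i, i ≠ b → g i a = 0) : Mon g := by
  obtain ⟨σ, hσ, hσb⟩ := exists_move a b
  have hq : sp σ (fun _ => false) ∈ H := hS.mon_mem _ _ hσ par_false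
  have h1 : Mon (sp σ (fun _ => false) * g) := by
    refine hS.stab _ (H.mul_mem hq hg) a fun i hi => ?_
    have h3 : (sp σ (fun _ => false) * g : Matrix (Fin 6) (Fin 6) F) i a =
        (sp σ (fun _ => false) *ᵥ col g a) i := by
      rw [← col_mul]; rfl
    rw [h3, sp_mulVec, col_apply, h _ (fun hh => hi (by rw [← hσb, ← hh]; simp)), mul_zero]
  have h3 : g = (sp σ (fun _ => false))ᵀ * (sp σ (fun _ => false) * g) := by
    rw [← Matrix.mul_assoc, sp_transpose_mul, Matrix.one_mul]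
  rw [h3]
  exact ((Mon.of_sp _ _).transpose (sp_transpose_mul _ _)).mul h1

lemma col_single' {g : Matrix (Fin 6) (Fin 6) F} (hg : g ∈ H) {a b : Fin 6} {c : F}
    (h : col g a = Pi.single b c) : Mon g :=
  hS.col_single hg (a := a) (b := b) fun i hi => by
    have := congrFun h i
    simpa [hi] using this

/-- If `q` fixes the line of a column of `g` then its conjugate by `g` is monomial. -/
lemma fix_mon {g q : Matrix (Fin 6) (Fin 6) F} (hg : g ∈ H) (hq : q ∈ H) {c : Fin 6} {e : F}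
    (h : q *ᵥ col g c = e • col g c) : Mon (gᵀ * q * g) := by
  refine hS.stab _ (hS.conj_mem' hg hq) c fun i hi => ?_
  have h1 : col (gᵀ * q * g) c = Pi.single c e := by
    rw [Matrix.mul_assoc, col_mul, col_mul, h, ← mulVec_single', Matrix.mulVec_mulVec,
      hS.orth g hg, Matrix.one_mulVec]
  simpa [hi] using congrFun h1 i

/-- Either a column is an eigenvector or it is mapped to an orthogonal vector. -/
lemma oe {g q : Matrix (Fin 6) (Fin 6) F} (hg : g ∈ H) (hq : q ∈ H)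
    (h : Mon (gᵀ * q * g)) (i : Fin 6) :
    q *ᵥ col g i = col g i ∨ q *ᵥ col g i = -col g i ∨ (q *ᵥ col g i) ⬝ᵥ col g i = 0 := by
  obtain ⟨σ, s, hs⟩ := h.exists_sp (hS.orth _ (hS.conj_mem' hg hq))
  rw [conj_col (hS.orth' hg) hs i]
  by_cases hi : σ i = i
  · rw [hi]
    rcases sgn_cases (F := F) (s i) with e | e <;> simp [e]
  · right; right
    rw [smul_dotProduct, dot_col_of_orth (hS.orth g hg), if_neg hi, smul_zero]

/-- Rows of an element of the group are orthonormal. -/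
lemma row_sum {g : Matrix (Fin 6) (Fin 6) F} (hg : g ∈ H) (i j : Fin 6) :
    ∑ l, g i l * g j l = if i = j then 1 else 0 := by
  have h1 := congrFun (congrFun (hS.orth' hg) i) j
  simpa [Matrix.mul_apply, Matrix.one_apply] using h1

lemma expand {g : Matrix (Fin 6) (Fin 6) F} (hg : g ∈ H) (x : Matrix (Fin 6) (Fin 6) F)
    (k : Fin 6) : col x k = ∑ l, g k l • (x *ᵥ col g l) := by
  funext i
  simp only [Finset.sum_apply, Pi.smul_apply, smul_eq_mul, col_apply]
  have h1 : x = x * g * gᵀ := by rw [Matrix.mul_assoc, hS.orth' hg, Matrix.mul_one]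
  conv_lhs => rw [h1, Matrix.mul_apply]
  refine Finset.sum_congr rfl fun l _ => ?_
  rw [← col_mul, col_apply, Matrix.transpose_apply, mul_comm]

/-- The conjugate of a diagonal reflection pair acts as a product of two reflections. -/
lemma conj_dl_mulVec {g : Matrix (Fin 6) (Fin 6) F} (hg : g ∈ H) {c d : Fin 6} (hcd : c ≠ d)
    (z : Fin 6 → F) :
    (g * dl c d * gᵀ) *ᵥ z =
      z - (2 * (col g c ⬝ᵥ z)) • col g c - (2 * (col g d ⬝ᵥ z)) • col g d := by
  rw [← Matrix.mulVec_mulVec, ← Matrix.mulVec_mulVec, dl_mulVec_eq hcd, Matrix.mulVec_sub,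
    Matrix.mulVec_sub, mulVec_single', mulVec_single', Matrix.mulVec_mulVec, hS.orth' hg,
    Matrix.one_mulVec]
  rfl

end Six

end Cfsg.Agent.C6Six
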