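import Cfsg.Agent.C6Six.Basic

/-!
# The action of four-dimensional matrices on alternating matrices, in a standard basis
-/

set_option autoImplicit false
set_option linter.unusedSectionVars false
set_option linter.unusedSimpArgs false
set_option maxHeartbeats 4000000

namespace Cfsg.Agent.C6Six

open Matrix Equiv

variable {F : Type*} [Field F]

/-- The alternating matrix with coordinates `c` in the standard orthonormal basis. -/
def mk (t : F) (c : Fin 6 → F) : Matrix (Fin 4) (Fin 4) F :=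
  !![0, c 0 + t * c 1, c 4 + t * c 3, c 5 + t * c 2;
     -(c 0 + t * c 1), 0, c 5 - t * c 2, -c 4 + t * c 3;
     -(c 4 + t * c 3), -(c 5 - t * c 2), 0, c 0 - t * c 1;
     -(c 5 + t * c 2), -(-c 4 + t * c 3), -(c 0 - t * c 1), 0]

/-- The coordinates of an alternating matrix. -/
def crd (t : F) (M : Matrix (Fin 4) (Fin 4) F) : Fin 6 → F :=
  ![(M 0 1 + M 2 3) / 2, -t * (M 0 1 - M 2 3) / 2, -t * (M 0 3 - M 1 2) / 2,
    -t * (M 0 2 + M 1 3) / 2, (M 0 2 - M 1 3) / 2, (M 0 3 + M 1 2) / 2]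

/-- The Pfaffian. -/
def pfaff (M : Matrix (Fin 4) (Fin 4) F) : F :=
  M 0 1 * M 2 3 - M 0 2 * M 1 3 + M 0 3 * M 1 2

/-- The induced matrix on alternating matrices. -/
def phi (t : F) (A : Matrix (Fin 4) (Fin 4) F) : Matrix (Fin 6) (Fin 6) F :=
  fun k l => crd t (A * mk t (Pi.single l 1) * Aᵀ) k

lemma mk_transpose (t : F) (c : Fin 6 → F) : (mk t c)ᵀ = -mk t c := by
  ext a b
  fin_cases a <;> fin_cases b <;> simp [mk]

lemma mk_add (t : F) (c d : Fin 6 → F) : mk t (c + d) = mk t c + mk t d := by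
  ext a b
  fin_cases a <;> fin_cases b <;> simp [mk] <;> ring

lemma mk_smul (t x : F) (c : Fin 6 → F) : mk t (x • c) = x • mk t c := by
  ext a b
  fin_cases a <;> fin_cases b <;> simp [mk] <;> ring

/-- `mk` as a linear map. -/
def mkₗ (t : F) : (Fin 6 → F) →ₗ[F] Matrix (Fin 4) (Fin 4) F where
  toFun := mk t
  map_add' := mk_add t
  map_smul' := mk_smul t

lemma pfaff_mk {t : F} (ht : t * t = -1) (c : Fin 6 → F) : pfaff (mk t c) = c ⬝ᵥ c := by
  simp [pfaff, mk, dotProduct, Fin.sum_univ_six]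
  linear_combination (-(c 1 * c 1) - c 2 * c 2 - c 3 * c 3) * ht

lemma crd_mk {t : F} (ht : t * t = -1) (h2 : (2 : F) ≠ 0) (c : Fin 6 → F) :
    crd t (mk t c) = c := by
  funext k
  fin_cases k <;> simp [crd, mk] <;> field_simp <;>
    first
      | ring1
      | linear_combination (-2 * c 1) * ht
      | linear_combination (-2 * c 2) * ht
      | linear_combination (-2 * c 3) * ht

lemma mk_crd {t : F} (ht : t * t = -1) (h2 : (2 : F) ≠ 0) {M : Matrix (Fin 4) (Fin 4) F}
    (hM : Mᵀ = -M) : mk t (crd t M) = M := by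
  have e : ∀ a b, M b a = -M a b := fun a b => congrFun (congrFun hM a) b
  have d : ∀ a, M a a = 0 := fun a =>
    (mul_eq_zero.mp (show (2 : F) * M a a = 0 by linear_combination e a a)).resolve_left h2
  ext a b
  fin_cases a <;> fin_cases b <;>
    simp [crd, mk, d, e 0 1, e 0 2, e 0 3, e 1 2, e 1 3, e 2 3] <;> field_simp <;>
    first
      | ring1
      | linear_combination (-(M 0 1 - M 2 3)) * ht
      | linear_combination (M 0 1 - M 2 3) * ht
      | linear_combination (-(M 0 2 + M 1 3)) * ht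
      | linear_combination (M 0 2 + M 1 3) * ht
      | linear_combination (-(M 0 3 - M 1 2)) * ht
      | linear_combination (M 0 3 - M 1 2) * ht

lemma conj_mk {t : F} (ht : t * t = -1) (h2 : (2 : F) ≠ 0) (A : Matrix (Fin 4) (Fin 4) F)
    (c : Fin 6 → F) : A * mk t c * Aᵀ = mk t (phi t A *ᵥ c) := by
  have hs : ∀ l : Fin 6, mk t (col (phi t A) l) = A * mk t (Pi.single l 1) * Aᵀ := by
    intro l
    exact mk_crd ht h2 (by
      simp [Matrix.transpose_mul, mk_transpose, Matrix.mul_assoc, Matrix.mul_neg, Matrix.neg_mul])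
  have e1 : c = ∑ l, c l • (Pi.single l 1 : Fin 6 → F) := pi_eq_sum_univ' c
  have e2 : phi t A *ᵥ c = ∑ l, c l • col (phi t A) l := by
    funext k
    simp [Matrix.mulVec, dotProduct, mul_comm]
  show A * mkₗ t c * Aᵀ = mkₗ t (phi t A *ᵥ c)
  conv_lhs => rw [e1]
  rw [e2]
  simp only [map_sum, map_smul, Matrix.mul_sum, Matrix.sum_mul, Matrix.mul_smul, Matrix.smul_mul]
  exact Finset.sum_congr rfl fun l _ => congrArg (c l • ·) (hs l).symm

lemma phi_mulVec {t : F} (ht : t * t = -1) (h2 : (2 : F) ≠ 0) (A : Matrix (Fin 4) (Fin 4) F)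
    (c : Fin 6 → F) : phi t A *ᵥ c = crd t (A * mk t c * Aᵀ) := by
  rw [conj_mk ht h2, crd_mk ht h2]

lemma phi_mul {t : F} (ht : t * t = -1) (h2 : (2 : F) ≠ 0) (A B : Matrix (Fin 4) (Fin 4) F) :
    phi t (A * B) = phi t A * phi t B := by
  refine Matrix.ext_iff_mulVec.mpr fun c => ?_
  rw [← Matrix.mulVec_mulVec, phi_mulVec ht h2 (A * B), phi_mulVec ht h2 A, ← conj_mk ht h2 B,
    Matrix.transpose_mul]
  simp only [Matrix.mul_assoc]

lemma phi_one {t : F} (ht : t * t = -1) (h2 : (2 : F) ≠ 0) : phi t (1 : Matrix (Fin 4) (Fin 4) F) = 1 := by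
  refine Matrix.ext_iff_mulVec.mpr fun c => ?_
  simp [phi_mulVec ht h2, crd_mk ht h2]

lemma phi_smul (t x : F) (A : Matrix (Fin 4) (Fin 4) F) : phi t (x • A) = (x * x) • phi t A := by
  ext k l
  fin_cases k <;> simp [phi, crd, smul_smul] <;> ring

lemma pfaff_conj (A M : Matrix (Fin 4) (Fin 4) F) (hM : Mᵀ = -M) (h2 : (2 : F) ≠ 0) :
    pfaff (A * M * Aᵀ) = A.det * pfaff M := by
  have e : ∀ a b, M b a = -M a b := fun a b => congrFun (congrFun hM a) b
  have d : ∀ a, M a a = 0 := fun a =>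
    (mul_eq_zero.mp (show (2 : F) * M a a = 0 by linear_combination e a a)).resolve_left h2
  simp [pfaff, Matrix.mul_apply, Fin.sum_univ_four, Matrix.det_succ_row_zero, Fin.sum_univ_succ,
    Fin.succAbove, d, e 0 1, e 0 2, e 0 3, e 1 2, e 1 3, e 2 3]
  ring

lemma phi_orth {t : F} (ht : t * t = -1) (h2 : (2 : F) ≠ 0) {A : Matrix (Fin 4) (Fin 4) F}
    (hA : A.det = 1) : (phi t A)ᵀ * phi t A = 1 := by
  have q : ∀ c, (phi t A *ᵥ c) ⬝ᵥ (phi t A *ᵥ c) = c ⬝ᵥ c := by
    intro c
    rw [← pfaff_mk ht, ← conj_mk ht h2, pfaff_conj _ _ (mk_transpose t c) h2, hA, one_mul,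
      pfaff_mk ht]
  have b : ∀ c d, (phi t A *ᵥ c) ⬝ᵥ (phi t A *ᵥ d) = c ⬝ᵥ d := by
    intro c d
    have h := q (c + d)
    simp only [Matrix.mulVec_add, add_dotProduct, dotProduct_add, q] at h
    rw [dotProduct_comm (phi t A *ᵥ d), dotProduct_comm d c] at h
    exact mul_left_cancel₀ h2 (by linear_combination h)
  ext k l
  have h := b (Pi.single k 1) (Pi.single l 1)
  rw [mulVec_single', mulVec_single', one_smul, one_smul, single_dotProduct, one_mul] at h
  simpa [Matrix.mul_apply, dotProduct, Matrix.one_apply, Pi.single_apply] using h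

lemma phi_det {t : F} (ht : t * t = -1) (h2 : (2 : F) ≠ 0) {A : Matrix (Fin 4) (Fin 4) F}
    (hA : A.det = 1) : (phi t A).det = 1 := by
  suffices h : ∀ B : Matrix (Fin 4) (Fin 4) F, B.det ≠ 0 → (phi t B).det = B.det ^ 3 by
    rw [h A (by rw [hA]; exact one_ne_zero), hA, one_pow]
  intro B hB
  refine Matrix.diagonal_transvection_induction_of_det_ne_zero
    (P := fun B => (phi t B).det = B.det ^ 3) B hB ?_ ?_ ?_
  · intro d _
    let S : Matrix (Fin 6) (Fin 6) F :=
      !![1 / 2, 0, 0, 0, 0, 1 / 2;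
         -t / 2, 0, 0, 0, 0, t / 2;
         0, 0, -t / 2, t / 2, 0, 0;
         0, -t / 2, 0, 0, -t / 2, 0;
         0, 1 / 2, 0, 0, -1 / 2, 0;
         0, 0, 1 / 2, 1 / 2, 0, 0]
    let T : Matrix (Fin 6) (Fin 6) F :=
      !![1, t, 0, 0, 0, 0;
         0, 0, 0, t, 1, 0;
         0, 0, t, 0, 0, 1;
         0, 0, -t, 0, 0, 1;
         0, 0, 0, t, -1, 0;
         1, -t, 0, 0, 0, 0]
    have e : ∀ v : Fin 6 → F, phi t (diagonal d) = S * diagonal
        ![d 0 * d 1, d 0 * d 2, d 0 * d 3, d 1 * d 2, d 1 * d 3, d 2 * d 3] * T := by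
      intro _
      ext k l
      rw [Matrix.mul_apply]
      fin_cases k <;> fin_cases l <;>
        simp [phi, S, T, crd, mk, Matrix.mul_apply, Fin.sum_univ_succ, Matrix.diagonal,
          Pi.single_apply] <;> ring
    have hST : S * T = 1 := by
      ext k l
      have := congrFun (crd_mk ht h2 (Pi.single l (1 : F))) k
      rw [Matrix.mul_apply, Matrix.one_apply, ← Pi.single_apply, ← this]
      fin_cases k <;> fin_cases l <;>
        simp [S, T, crd, mk, Fin.sum_univ_succ, Pi.single_apply] <;> ring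
    rw [e 0, det_mul_comm, ← Matrix.mul_assoc, mul_eq_one_comm.mp hST, Matrix.one_mul,
      det_diagonal, det_diagonal, Fin.prod_univ_six, Fin.prod_univ_four]
    simp
    ring
  · intro s
    have hs : ∀ r : Matrix.TransvectionStruct (Fin 4) F, (phi t r.toMatrix).det *
        (phi t r.toMatrix).det = 1 := by
      intro r
      have h := congrArg Matrix.det (phi_orth ht h2 (A := r.toMatrix) r.det)
      rwa [det_mul, det_transpose, det_one] at h
    let s' : Matrix.TransvectionStruct (Fin 4) F := ⟨s.i, s.j, s.hij, s.c / 2⟩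
    have e : s.toMatrix = s'.toMatrix * s'.toMatrix := by
      simp only [Matrix.TransvectionStruct.toMatrix, s']
      rw [Matrix.transvection_mul_transvection_same (h := s.hij)]
      congr 1
      field_simp
      ring
    rw [s.det, one_pow, e, phi_mul ht h2, det_mul]
    exact hs s'
  · intro C D _ _ hC hD
    rw [phi_mul ht h2, det_mul, det_mul, hC, hD]
    ring

end Cfsg.Agent.C6Six
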