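import Cfsg.Agent.C6Six.Six

/-!
# A column with support of size two forces a monomial matrix
-/

set_option autoImplicit false
set_option linter.unusedSectionVars false

namespace Cfsg.Agent.C6Six

open Matrix Equiv

variable {F : Type*} [Field F]

/-- The double transposition `(2 3)(4 5)`. -/
def P2345 : Perm (Fin 6) := ⟨![0, 1, 3, 2, 5, 4], ![0, 1, 3, 2, 5, 4], by decide, by decide⟩

lemma sign_P2345 : Perm.sign P2345 = 1 := by
  rw [show P2345 = swap 2 3 * swap 4 5 by decide, Perm.sign_mul, Perm.sign_swap (by decide),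
    Perm.sign_swap (by decide)]
  rfl

lemma swap_mul_swap_sign {a b c d : Fin 6} (h1 : a ≠ b) (h2 : c ≠ d) :
    Perm.sign (swap a b * swap c d) = 1 := by
  rw [Perm.sign_mul, Perm.sign_swap h1, Perm.sign_swap h2]
  rfl

namespace Six

variable {H : Submonoid (Matrix (Fin 6) (Fin 6) F)} (hS : Six H)
include hS

lemma two_point_aux {g : Matrix (Fin 6) (Fin 6) F} (hg : g ∈ H) (hm : ¬ Mon g) {c : Fin 6}
    (hc : ∀ k, 2 ≤ k → g k c = 0) {i : Fin 6} (_hic : i ≠ c) :
    (∀ k, 2 ≤ k → g k i = 0) ∨ (∀ k, 2 ≤ k → 4 * (g k i * g k i) = 1) := by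
  have hc2 : g 2 c = 0 := hc 2 (by decide)
  have hc3 : g 3 c = 0 := hc 3 (by decide)
  have hc4 : g 4 c = 0 := hc 4 (by decide)
  have hc5 : g 5 c = 0 := hc 5 (by decide)
  set w := col g i with hw
  have hww : w ⬝ᵥ w = 1 := by rw [hw, dot_col_of_orth (hS.orth g hg), if_pos rfl]
  have hfix : ∀ (σ : Perm (Fin 6)) (s : Fin 6 → Bool), σ 0 = 0 → σ 1 = 1 → s 0 = false →
      s 1 = false → sp σ s *ᵥ col g c = (1 : F) • col g c := by
    intro σ s h0 h1 t0 t1
    rw [one_smul]
    funext j
    rw [sp_mulVec]
    by_cases hj : σ.symm j = 0 ∨ σ.symm j = 1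
    · rcases hj with hj | hj
      · have : j = 0 := by rw [← h0, ← hj]; simp
        subst this
        simp [hj, t0]
      · have : j = 1 := by rw [← h1, ← hj]; simp
        subst this
        simp [hj, t1]
    · push Not at hj
      have hj0 : j ≠ 0 := fun hh => hj.1 (by rw [hh]; nth_rewrite 1 [← h0]; simp)
      have hj1 : j ≠ 1 := fun hh => hj.2 (by rw [hh]; nth_rewrite 1 [← h1]; simp)
      have e : ∀ x : Fin 6, x ≠ 0 → x ≠ 1 → g x c = 0 := fun x a b => hc x (by omega)
      rw [col_apply, col_apply, e _ hj.1 hj.2, e _ hj0 hj1, mul_zero]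
  -- pairs
  have hpair : ∀ k l : Fin 6, 2 ≤ k → 2 ≤ l → k ≠ l →
      (w k = 0 ∧ w l = 0) ∨ 2 * (w k * w k + w l * w l) = 1 := by
    intro k l hk hl hkl
    have hq := hS.dl_mem hkl
    have hk0 : k ≠ 0 := by omega
    have hk1 : k ≠ 1 := by omega
    have hl0 : l ≠ 0 := by omega
    have hl1 : l ≠ 1 := by omega
    have hM := hS.fix_mon hg hq (c := c) (e := 1)
      (hfix 1 _ rfl rfl (by simp [hk0.symm, hl0.symm]) (by simp [hk1.symm, hl1.symm]))
    rcases hS.oe hg hq hM i with h | h | h
    · left
      have a := congrFun h k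
      have b := congrFun h l
      rw [dl_mulVec, if_pos (Or.inl rfl)] at a
      rw [dl_mulVec, if_pos (Or.inr rfl)] at b
      constructor
      · have : (2 : F) * w k = 0 := by rw [hw]; linear_combination -a
        simpa [hS.h2] using this
      · have : (2 : F) * w l = 0 := by rw [hw]; linear_combination -b
        simpa [hS.h2] using this
    · -- support inside the pair
      exfalso
      have hout : ∀ j, j ≠ k → j ≠ l → w j = 0 := by
        intro j ja jb
        have a := congrFun h j
        rw [dl_mulVec, if_neg (by simp [ja, jb]), Pi.neg_apply] at a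
        have : (2 : F) * w j = 0 := by rw [hw]; linear_combination a
        simpa [hS.h2] using this
      have hk' : w k ≠ 0 := fun h0 => hm <| hS.col_single hg (a := i) (b := l) fun j hj => by
        by_cases hjk : j = k
        · subst hjk; exact h0
        · exact hout j hjk hj
      have hl' : w l ≠ 0 := fun h0 => hm <| hS.col_single hg (a := i) (b := k) fun j hj => by
        by_cases hjl : j = l
        · subst hjl; exact h0
        · exact hout j hj hjl
      obtain ⟨m, hm2, hmk, hml⟩ :=
        (by decide : ∀ k l : Fin 6, ∃ m : Fin 6, 2 ≤ m ∧ m ≠ k ∧ m ≠ l) k l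
      set σ := swap k m * swap k l with hσ
      have hσk : σ k = l := by simp [hσ, swap_apply_of_ne_of_ne hkl.symm hml.symm]
      have hσl : σ l = m := by simp [hσ]
      have hσ0 : σ 0 = 0 := by
        have hm0 : m ≠ 0 := by omega
        simp [hσ, swap_apply_of_ne_of_ne hk0.symm hl0.symm,
          swap_apply_of_ne_of_ne hk0.symm hm0.symm]
      have hσ1 : σ 1 = 1 := by
        have hm1 : m ≠ 1 := by omega
        simp [hσ, swap_apply_of_ne_of_ne hk1.symm hl1.symm,
          swap_apply_of_ne_of_ne hk1.symm hm1.symm]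
      have hq' : sp σ (fun _ => false) ∈ H :=
        hS.mon_mem _ _ (swap_mul_swap_sign hmk.symm hkl) par_false
      have hM' := hS.fix_mon hg hq' (c := c) (e := 1) (hfix σ _ hσ0 hσ1 rfl rfl)
      have hwsum : w = Pi.single k (w k) + Pi.single l (w l) := by
        funext j
        by_cases ja : j = k
        · subst ja; simp [hkl]
        · by_cases jb : j = l
          · subst jb; simp [ja]
          · simp [ja, jb, hout j ja jb]
      have hqw : sp σ (fun _ => false) *ᵥ w = Pi.single l (w k) + Pi.single m (w l) := by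
        conv_lhs => rw [hwsum]
        rw [Matrix.mulVec_add, sp_single, sp_single, hσk, hσl, sgn_false, one_mul, one_mul]
      have hk0' : (sp σ (fun _ => false) *ᵥ w) k = 0 := by
        rw [hqw]; simp [hkl, hmk.symm]
      rcases hS.oe hg hq' hM' i with h3 | h3 | h3
      · exact hk' (by rw [← hk0', h3])
      · exact hk' (by have := congrFun h3 k; rw [← hw, hk0', Pi.neg_apply] at this
                      exact neg_eq_zero.mp this.symm)
      · rw [← hw, hqw, add_dotProduct, single_dotProduct, single_dotProduct,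
          hout m hmk hml, mul_zero, add_zero] at h3
        exact mul_ne_zero hk' hl' h3
    · right
      rw [dl_mulVec_eq hkl, sub_dotProduct, sub_dotProduct, single_dotProduct,
        single_dotProduct, ← hw, hww] at h
      linear_combination -h
  by_cases hall : ∀ k, 2 ≤ k → w k ≠ 0
  · right
    intro k hk
    obtain ⟨l, m, hl, hm', hkl, hkm, hlm⟩ := (by decide : ∀ k : Fin 6, ∃ l m : Fin 6,
      2 ≤ l ∧ 2 ≤ m ∧ k ≠ l ∧ k ≠ m ∧ l ≠ m) k
    have a := (hpair k l hk hl hkl).resolve_left fun hh => hall k hk hh.1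
    have b := (hpair k m hk hm' hkm).resolve_left fun hh => hall k hk hh.1
    have d := (hpair l m hl hm' hlm).resolve_left fun hh => hall l hl hh.1
    show 4 * (w k * w k) = 1
    linear_combination a + b - d
  · left
    push Not at hall
    obtain ⟨k, hk, hk0⟩ := hall
    by_contra hne
    push Not at hne
    obtain ⟨l, hl, hl0⟩ := hne
    have hl0' : w l ≠ 0 := hl0
    have hlk : l ≠ k := fun hh => hl0' (hh ▸ hk0)
    have hbl : 2 * (w l * w l) = 1 := by
      have a := (hpair l k hl hk hlk).resolve_left fun hh => hl0' hh.1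
      rw [hk0] at a
      linear_combination a
    have hzero : ∀ j, 2 ≤ j → j ≠ l → w j = 0 := by
      intro j hj hjl
      by_contra hj0
      have hjk : j ≠ k := fun hh => hj0 (hh ▸ hk0)
      have a := (hpair j k hj hk hjk).resolve_left fun hh => hj0 hh.1
      have b := (hpair j l hj hl hjl).resolve_left fun hh => hj0 hh.1
      rw [hk0] at a
      exact one_ne_zero (α := F) (by linear_combination b - a - hbl)
    have hq : sp P2345 (fun _ => false) ∈ H := hS.mon_mem _ _ sign_P2345 par_false
    have hM := hS.fix_mon hg hq (c := c) (e := 1)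
      (hfix P2345 _ (by decide) (by decide) rfl rfl)
    have hP : ∀ j : Fin 6, 2 ≤ j → 2 ≤ P2345.symm j ∧ P2345.symm j ≠ j := by decide
    have hql : (sp P2345 (fun _ => false) *ᵥ w) l = 0 := by
      rw [sp_mulVec, hzero _ (hP l hl).1 (hP l hl).2, mul_zero]
    rcases hS.oe hg hq hM i with h3 | h3 | h3
    · exact hl0' (by rw [← hql, h3])
    · exact hl0' (by have := congrFun h3 l; rw [← hw, hql, Pi.neg_apply] at this
                     exact neg_eq_zero.mp this.symm)
    · rw [← hw] at h3
      simp only [dotProduct, sp_mulVec, sgn_false, one_mul, Fin.sum_univ_six] at h3 hww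
      have e0 : P2345.symm 0 = 0 := rfl
      have e1 : P2345.symm 1 = 1 := rfl
      have e2 : P2345.symm 2 = 3 := rfl
      have e3 : P2345.symm 3 = 2 := rfl
      have e4 : P2345.symm 4 = 5 := rfl
      have e5 : P2345.symm 5 = 4 := rfl
      rw [e0, e1, e2, e3, e4, e5] at h3
      have hz := hzero
      fin_cases l <;> simp_all (config := { decide := true }) <;>
        exact one_ne_zero (α := F) (by linear_combination hbl)


lemma two_point_01 {g : Matrix (Fin 6) (Fin 6) F} (hg : g ∈ H) {c : Fin 6}
    (hc : ∀ k, 2 ≤ k → g k c = 0) : Mon g := by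
  by_contra hm
  have h2 := hS.h2
  have hc2 : g 2 c = 0 := hc 2 (by decide)
  have hc3 : g 3 c = 0 := hc 3 (by decide)
  have hc4 : g 4 c = 0 := hc 4 (by decide)
  have hc5 : g 5 c = 0 := hc 5 (by decide)
  have hor : ∀ x : Fin 6, x = 0 ∨ x = 1 ∨ 2 ≤ x := by decide
  set α := g 0 c with hα
  set β := g 1 c with hβ
  have hnc : α * α + β * β = 1 := by
    have h := dot_col_of_orth (hS.orth g hg) c c
    simpa [dotProduct, Fin.sum_univ_six, hc2, hc3, hc4, hc5] using h
  have hα0 : α ≠ 0 := fun h0 => hm <| hS.col_single hg (a := c) (b := 1) fun k hk => by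
    rcases hor k with rfl | rfl | h
    · exact h0
    · exact absurd rfl hk
    · exact hc k h
  have hβ0 : β ≠ 0 := fun h0 => hm <| hS.col_single hg (a := c) (b := 0) fun k hk => by
    rcases hor k with rfl | rfl | h
    · exact absurd rfl hk
    · exact h0
    · exact hc k h
  -- a second column in the same plane
  obtain ⟨d, hdc, hd0⟩ : ∃ d, d ≠ c ∧ g 0 d ≠ 0 := by
    by_contra hh
    push Not at hh
    have h := hS.row_sum hg 0 0
    rw [Finset.sum_eq_single c (fun b _ hb => by rw [hh b hb, mul_zero]) (by simp),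
      if_pos rfl] at h
    exact hβ0 (mul_self_eq_zero.mp (by linear_combination hnc - h))
  have horth : ∀ i, i ≠ c → α * g 0 i + β * g 1 i = 0 := by
    intro i hi
    have h := dot_col_of_orth (hS.orth g hg) c i
    simpa [dotProduct, Fin.sum_univ_six, hc2, hc3, hc4, hc5, Ne.symm hi] using h
  have hd : ∀ k, 2 ≤ k → g k d = 0 := by
    rcases hS.two_point_aux hg hm hc hdc with h | h
    · exact h
    · exfalso
      have h' : g 0 d * g 0 d + g 1 d * g 1 d = 0 := by
        have hn := dot_col_of_orth (hS.orth g hg) d d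
        simp [dotProduct, Fin.sum_univ_six] at hn
        have h4 : (4 : F) * (g 0 d * g 0 d + g 1 d * g 1 d) = 0 := by
          linear_combination (4 : F) * hn - h 2 (by decide) - h 3 (by decide) - h 4 (by decide)
            - h 5 (by decide)
        rcases mul_eq_zero.mp h4 with h5 | h5
        · exact absurd (mul_self_eq_zero.mp
            (show (2 : F) * 2 = 0 by linear_combination h5)) h2
        · exact h5
      refine hd0 (mul_self_eq_zero.mp ?_)
      linear_combination β ^ 2 * h' - (β * g 1 d - α * g 0 d) * horth d hdc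
        - g 0 d * g 0 d * hnc
  have hd2 : g 2 d = 0 := hd 2 (by decide)
  have hd3 : g 3 d = 0 := hd 3 (by decide)
  have hd4 : g 4 d = 0 := hd 4 (by decide)
  have hd5 : g 5 d = 0 := hd 5 (by decide)
  set γ := g 0 d with hγ
  set δ := g 1 d with hδ
  have hnd : γ * γ + δ * δ = 1 := by
    have h := dot_col_of_orth (hS.orth g hg) d d
    simpa [dotProduct, Fin.sum_univ_six, hd2, hd3, hd4, hd5] using h
  have hcd : α * γ + β * δ = 0 := horth d hdc
  -- the other columns avoid the plane
  have hrest : ∀ i, i ≠ c → i ≠ d →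
      g 0 i = 0 ∧ g 1 i = 0 ∧ ∀ k, 2 ≤ k → 4 * (g k i * g k i) = 1 := by
    intro i hic hid
    have e1 := horth i hic
    have e2 : γ * g 0 i + δ * g 1 i = 0 := by
      have h := dot_col_of_orth (hS.orth g hg) d i
      simpa [dotProduct, Fin.sum_univ_six, hd2, hd3, hd4, hd5, Ne.symm hid] using h
    have hD : (α * δ - β * γ) * (α * δ - β * γ) = 1 := by
      linear_combination (γ * γ + δ * δ) * hnc + hnd - (α * γ + β * δ) * hcd
    have hD0 : α * δ - β * γ ≠ 0 := fun h0 => by simp [h0] at hD
    have h0i : g 0 i = 0 := (mul_eq_zero.mp (show (α * δ - β * γ) * g 0 i = 0 by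
      linear_combination δ * e1 - β * e2)).resolve_left hD0
    have h1i : g 1 i = 0 := (mul_eq_zero.mp (show (α * δ - β * γ) * g 1 i = 0 by
      linear_combination α * e2 - γ * e1)).resolve_left hD0
    refine ⟨h0i, h1i, (hS.two_point_aux hg hm hc hic).resolve_left fun h => ?_⟩
    have hn := dot_col_of_orth (hS.orth g hg) i i
    simp [dotProduct, Fin.sum_univ_six, h0i, h1i, h 2 (by decide), h 3 (by decide),
      h 4 (by decide), h 5 (by decide)] at hn
  obtain ⟨i, hic, hid⟩ := (by decide : ∀ c d : Fin 6, ∃ i, i ≠ c ∧ i ≠ d) c d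
  obtain ⟨hi0, hi1, hib⟩ := hrest i hic hid
  have h4ne : ∀ k, 2 ≤ k → g k i ≠ 0 := fun k hk h0 => by simpa [h0] using hib k hk
  -- the partner of column `i` under `dl 3 4`
  have hq : (dl 3 4 : Matrix (Fin 6) (Fin 6) F) ∈ H := hS.dl_mem (by decide)
  have hqc : dl 3 4 *ᵥ col g c = (1 : F) • col g c := by
    rw [one_smul]; funext k; rw [dl_mulVec]
    rcases hor k with rfl | rfl | h <;> simp
    intro h'
    rw [hc k h]
    simp
  have hqd : dl 3 4 *ᵥ col g d = (1 : F) • col g d := by
    rw [one_smul]; funext k; rw [dl_mulVec]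
    rcases hor k with rfl | rfl | h <;> simp [hd3, hd4]
    intro h'
    rw [hd k h]
    simp
  obtain ⟨σ, s, hs⟩ := (hS.fix_mon hg hq hqc).exists_sp (hS.orth _ (hS.conj_mem' hg hq))
  set η : F := sgn (s i) with hη
  have hqi : dl 3 4 *ᵥ col g i = η • col g (σ i) := conj_col (hS.orth' hg) hs i
  have hηη : η * η = 1 := sgn_mul_self _
  set j := σ i with hj
  have hji : ∀ k, g k j = η * (if k = 3 ∨ k = 4 then -g k i else g k i) := by
    intro k
    have h := congrFun hqi k
    rw [dl_mulVec, Pi.smul_apply, smul_eq_mul, col_apply, col_apply] at h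
    rw [h, ← mul_assoc, hηη, one_mul]
  have hjne : j ≠ i := by
    intro hh
    have e2 := hji 2
    have e3 := hji 3
    rw [hh] at e2 e3
    simp at e2 e3
    have := h4ne 2 (by decide)
    have := h4ne 3 (by decide)
    have : (2 : F) * g 3 i = 0 := by
      have h1 : η = 1 := by
        have : (η - 1) * g 2 i = 0 := by linear_combination -e2
        rcases mul_eq_zero.mp this with h | h
        · linear_combination h
        · exact absurd h (h4ne 2 (by decide))
      rw [h1] at e3
      linear_combination e3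
    exact h4ne 3 (by decide) ((mul_eq_zero.mp this).resolve_left h2)
  have hjc : j ≠ c := by
    intro hh
    have e := hji 2
    rw [hh, hc2] at e
    simp at e
    rcases e with e | e
    · simp [e] at hηη
    · exact h4ne 2 (by decide) e
  have hjd : j ≠ d := by
    intro hh
    have e := hji 2
    rw [hh, hd2] at e
    simp at e
    rcases e with e | e
    · simp [e] at hηη
    · exact h4ne 2 (by decide) e
  -- exchange the two pairs of columns
  set τ := swap c d * swap i j with hτ
  set t : Fin 6 → Bool := fun a => decide ((a = i ∨ a = j) ∧ s i = true) with ht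
  have hpt : par t = 1 := by
    by_cases hsi : s i = true
    · have : t = fun a => decide (a = i ∨ a = j) := by funext a; simp [ht, hsi]
      rw [this]; exact par_pair hjne.symm
    · have : t = fun _ => false := by funext a; simp [ht, hsi]
      rw [this]; exact par_false
  have hq' : sp τ t ∈ H := hS.mon_mem _ _ (swap_mul_swap_sign hdc.symm hjne.symm) hpt
  have hτc : τ c = d := by
    simp [hτ, swap_apply_of_ne_of_ne hic.symm hjc.symm]
  have hτd : τ d = c := by
    simp [hτ, swap_apply_of_ne_of_ne hid.symm hjd.symm]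
  have hτi : τ i = j := by
    simp [hτ, swap_apply_of_ne_of_ne hjc hjd]
  have hτj : τ j = i := by
    simp [hτ, swap_apply_of_ne_of_ne hic hid]
  set x := g * sp τ t * gᵀ with hx
  have hxm : x ∈ H := hS.conj_mem hg hq'
  have hxg : ∀ l, x *ᵥ col g l = (sgn (t l) : F) • col g (τ l) := by
    intro l
    have : x * g = g * sp τ t := by
      rw [hx, Matrix.mul_assoc, hS.orth g hg, Matrix.mul_one]
    rw [← col_mul, this, col_mul, col_sp, mulVec_single']
  have htc : (sgn (t c) : F) = 1 := by simp [ht, hic.symm, hjc.symm]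
  have htd : (sgn (t d) : F) = 1 := by simp [ht, hid.symm, hjd.symm]
  have hti : (sgn (t i) : F) = η := by simp [ht, hη]
  have htj : (sgn (t j) : F) = η := by simp [ht, hη]
  have hτl : ∀ l, l ≠ c → l ≠ d → l ≠ i → l ≠ j → τ l = l ∧ (sgn (t l) : F) = 1 := by
    intro l a1 a2 a3 a4
    refine ⟨?_, by simp [ht, a3, a4]⟩
    simp [hτ, swap_apply_of_ne_of_ne a3 a4, swap_apply_of_ne_of_ne a1 a2]
  have hx2 : col x 2 = Pi.single 2 1 := by
    have h1 : col x 2 = ∑ l, g 2 l • col g l := by
      rw [hS.expand hg x 2]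
      rw [← sub_eq_zero, ← Finset.sum_sub_distrib]
      rw [← Finset.sum_subset (Finset.subset_univ ({i, j} : Finset (Fin 6)))]
      · rw [Finset.sum_pair hjne.symm, hxg, hxg, hτi, hτj, hti, htj, hji 2]
        simp only [show ¬((2 : Fin 6) = 3 ∨ (2 : Fin 6) = 4) by decide, if_false]
        funext k
        simp only [Pi.add_apply, Pi.sub_apply, Pi.smul_apply, Pi.zero_apply, smul_eq_mul,
          col_apply]
        linear_combination (g 2 i * g k i) * hηη
      · intro l _ hl
        simp only [Finset.mem_insert, Finset.mem_singleton, not_or] at hl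
        by_cases hlc : l = c
        · subst hlc; simp [hc2]
        by_cases hld : l = d
        · subst hld; simp [hd2]
        obtain ⟨e1, e2⟩ := hτl l hlc hld hl.1 hl.2
        rw [hxg, e1, e2, one_smul, sub_self]
    rw [h1]
    funext k
    simp only [Finset.sum_apply, Pi.smul_apply, smul_eq_mul, col_apply]
    rw [hS.row_sum hg 2 k]
    by_cases hk : k = 2
    · subst hk; simp
    · simp [hk, Ne.symm hk]
  have hxmon : Mon x := hS.stab _ hxm 2 fun k hk => by
    simpa [hk] using congrFun hx2 k
  have hx0 : ∀ k, g k i = 0 → g k j = 0 → x k 0 = α * g k d + γ * g k c := by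
    intro k _ _
    have h1 := congrFun (hS.expand hg x 0) k
    rw [col_apply, Finset.sum_apply,
      ← Finset.sum_subset (Finset.subset_univ ({c, d} : Finset (Fin 6)))] at h1
    · rw [h1, Finset.sum_pair hdc.symm, hxg, hxg, hτc, hτd, htc, htd]
      simp [← hα, ← hγ]
    · intro l _ hl
      simp only [Finset.mem_insert, Finset.mem_singleton, not_or] at hl
      rw [(hrest l hl.1 hl.2).1, zero_smul]
      rfl
  have hxa : x 0 0 = α * γ + γ * α := hx0 0 hi0 (by rw [hji 0, hi0]; simp)
  have hxb : x 1 0 = α * δ + γ * β := hx0 1 hi1 (by rw [hji 1, hi1]; simp)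
  have hx10 : x 1 0 = 0 := hxmon.eq_zero_of_ne_zero (i := 0) (j := 1) (by decide) (by
    rw [hxa, show α * γ + γ * α = 2 * (α * γ) by ring]
    exact mul_ne_zero h2 (mul_ne_zero hα0 hd0))
  have hsq : α * α = β * β := by
    have : γ * (β * β - α * α) = 0 := by
      linear_combination β * (hxb.symm.trans hx10) - α * hcd
    rcases mul_eq_zero.mp this with h | h
    · exact absurd h hd0
    · linear_combination -h
  -- an element of order four on the plane
  set y := dl 0 2 * (g * dl c i * gᵀ) with hy
  have hym : y ∈ H := H.mul_mem (hS.dl_mem (by decide))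
    (hS.conj_mem hg (hS.dl_mem hic.symm))
  set u := col g c with hu
  set w := col g i with hw
  have hAS : ∀ z : Fin 6 → F, y *ᵥ z =
      dl 0 2 *ᵥ (z - (2 * (u ⬝ᵥ z)) • u - (2 * (w ⬝ᵥ z)) • w) := fun z => by
    rw [hy, ← Matrix.mulVec_mulVec, hS.conj_dl_mulVec hg hic.symm]
  set τ₁ : F := -(2 * α * β) with hτ₁
  have hτ₁s : τ₁ * τ₁ = 1 := by
    rw [hτ₁]
    linear_combination (α * α + β * β + 1) * hnc - (α * α - β * β) * hsq
  have h12 : 1 - 2 * (α * α) = 0 := by linear_combination -hnc - hsq
  have huv : ∀ k, 2 ≤ k → u k = 0 := hc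
  have hy0 : ∀ a : F, y *ᵥ Pi.single 0 a = Pi.single 1 (τ₁ * a) := by
    intro a
    rw [hAS]
    funext k
    rw [dl_mulVec]
    simp only [dotProduct_single, Pi.sub_apply, Pi.smul_apply, smul_eq_mul, hu, hw, col_apply,
      hi0, ← hα]
    rcases hor k with rfl | rfl | h
    · simp [← hα, hi0]
      linear_combination -a * h12
    · simp [← hβ, hi1, hτ₁]
      ring
    · have hk0 : k ≠ 0 := by omega
      have hk1 : k ≠ 1 := by omega
      simp [hc k h, hk0, hk1]
  have hy1 : ∀ a : F, y *ᵥ Pi.single 1 a = Pi.single 0 (-(τ₁ * a)) := by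
    intro a
    rw [hAS]
    funext k
    rw [dl_mulVec]
    simp only [dotProduct_single, Pi.sub_apply, Pi.smul_apply, smul_eq_mul, hu, hw, col_apply,
      hi1, ← hβ]
    rcases hor k with rfl | rfl | h
    · simp [← hα, hi0, hτ₁]
      ring
    · simp [← hβ, hi1]
      linear_combination a * (h12 + 2 * hsq)
    · have hk0 : k ≠ 0 := by omega
      have hk1 : k ≠ 1 := by omega
      simp [hc k h, hk0, hk1]
  have hy40 : col (y * (y * (y * y))) 0 = Pi.single 0 1 := by
    rw [col_mul, col_mul, col_mul, ← one_smul F (col y 0), ← mulVec_single', hy0, hy1, hy0,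
      hy1]
    congr 1
    linear_combination (τ₁ * τ₁ + 1) * hτ₁s
  have hy4m : Mon (y * (y * (y * y))) :=
    hS.stab _ (H.mul_mem hym (H.mul_mem hym (H.mul_mem hym hym))) 0 fun k hk => by
      simpa [hk] using congrFun hy40 k
  have hb2 : 4 * (w 2 * w 2) = 1 := hib 2 (by decide)
  have hww : w ⬝ᵥ w = 1 := by rw [hw, dot_col_of_orth (hS.orth g hg), if_pos rfl]
  have huw : u ⬝ᵥ w = 0 := by rw [hu, hw, dot_col_of_orth (hS.orth g hg), if_neg hic.symm]
  have hu2 : u 2 = 0 := hc2
  have hye : y *ᵥ Pi.single 2 1 = (-(2 * w 2)) • w := by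
    rw [hAS]
    funext k
    rw [dl_mulVec]
    simp only [dotProduct_single, Pi.sub_apply, Pi.smul_apply, smul_eq_mul, hu2]
    by_cases hk2 : k = 2
    · subst hk2
      simp
      linear_combination hb2
    · by_cases hk0 : k = 0
      · subst hk0
        simp [hw, hi0]
      · simp [hk0, hk2]
  have hyw : y *ᵥ w = -w + (2 * w 2) • Pi.single 2 1 := by
    rw [hAS, hww, huw]
    funext k
    rw [dl_mulVec]
    simp only [Pi.sub_apply, Pi.add_apply, Pi.neg_apply, Pi.smul_apply, smul_eq_mul]
    by_cases hk2 : k = 2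
    · subst hk2
      simp
      ring
    · by_cases hk0 : k = 0
      · subst hk0
        simp [hw, hi0]
      · simp [hk0, hk2]
        ring
  have hy3 : y *ᵥ (y *ᵥ (y *ᵥ Pi.single 2 1)) = Pi.single 2 1 := by
    rw [hye, Matrix.mulVec_smul, hyw, Matrix.mulVec_smul, Matrix.mulVec_add, Matrix.mulVec_neg,
      Matrix.mulVec_smul, hyw, hye]
    funext k
    simp only [Pi.smul_apply, Pi.add_apply, Pi.neg_apply, smul_eq_mul]
    by_cases hk2 : k = 2
    · subst hk2
      simp
      linear_combination (2 * (w 2 * w 2) + 1) * hb2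
    · simp only [Pi.single_eq_of_ne hk2]
      linear_combination (2 * w 2 * w k) * hb2
  have hcol : col (y * (y * (y * y))) 2 = (-(2 * w 2)) • w := by
    rw [col_mul, col_mul, col_mul, ← one_smul F (col y 2), ← mulVec_single']
    rw [hy3, hye]
  have h22 : (y * (y * (y * y))) 2 2 ≠ 0 := by
    have := congrFun hcol 2
    rw [col_apply] at this
    rw [this]
    simpa using ⟨h2, h4ne 2 (by decide)⟩
  have h32 := hy4m.eq_zero_of_ne_zero (show (2 : Fin 6) ≠ 3 by decide) h22
  have := congrFun hcol 3
  rw [col_apply, h32] at this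
  simp at this
  rcases this with h | h
  · rcases h with h | h
    · exact h2 h
    · exact h4ne 2 (by decide) h
  · exact h4ne 3 (by decide) h

/-- A column with support of size at most two forces a monomial matrix. -/
lemma two_point {g : Matrix (Fin 6) (Fin 6) F} (hg : g ∈ H) {a b c : Fin 6} (hab : a ≠ b)
    (hc : ∀ i, i ≠ a → i ≠ b → g i c = 0) : Mon g := by
  obtain ⟨π, h0, h1⟩ : ∃ π : Perm (Fin 6), π 0 = a ∧ π 1 = b := by
    refine ⟨swap (swap 0 a 1) b * swap 0 a, ?_, by simp⟩
    simp only [Perm.mul_apply, swap_apply_left]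
    refine swap_apply_of_ne_of_ne ?_ hab
    intro hh
    have := congrArg (swap 0 a) hh
    simp at this
  refine Mon.of_pull (π := π) (r := fun _ => false) <|
    (hS.cnj_six π (fun _ => false)).two_point_01 (hS.pull_mem hg π _) (c := π.symm c)
      fun k hk => ?_
  rw [pull_apply, Equiv.apply_symm_apply, hc, mul_zero]
  · rw [← h0]; exact π.injective.ne (by omega)
  · rw [← h1]; exact π.injective.ne (by omega)

end Six

end Cfsg.Agent.C6Six
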